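import Cfsg.Agent.H10.SteinerCount

/-!
Images of set systems under bijections, and membership in the automorphism group of a set system.
-/

set_option autoImplicit false
set_option linter.unusedSectionVars false

open Finset
open scoped Pointwise

namespace Cfsg.Agent.H10

variable {α β γ : Type*} [DecidableEq α] [DecidableEq β] [DecidableEq γ]

/-- The image of a set system under a bijection of the points. -/
def imgSys (e : α ≃ β) (B : Set (Finset α)) : Set (Finset β) := (fun b => b.image e) '' B

/-- Membership in the image of a set system. -/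
theorem mem_imgSys {e : α ≃ β} {B : Set (Finset α)} {b : Finset β} :
    b ∈ imgSys e B ↔ b.image e.symm ∈ B := by
  constructor
  · rintro ⟨c, hc, rfl⟩
    simpa [image_image] using hc
  · intro h
    exact ⟨_, h, by simp [image_image]⟩

/-- The image of a member is a member of the image. -/
theorem image_mem_imgSys {e : α ≃ β} {B : Set (Finset α)} {b : Finset α} :
    b.image e ∈ imgSys e B ↔ b ∈ B := by
  rw [mem_imgSys]; simp [image_image]

/-- The image under the identity. -/
theorem imgSys_refl (B : Set (Finset α)) : imgSys (Equiv.refl α) B = B := by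
  ext b; rw [mem_imgSys]; simp

/-- The image under a composite. -/
theorem imgSys_trans (e : α ≃ β) (f : β ≃ γ) (B : Set (Finset α)) :
    imgSys (e.trans f) B = imgSys f (imgSys e B) := by
  ext b
  rw [mem_imgSys, mem_imgSys, mem_imgSys, image_image]
  rfl

/-- Pulling the image back. -/
theorem imgSys_symm_eq {e : α ≃ β} {B : Set (Finset α)} {B' : Set (Finset β)}
    (h : imgSys e B = B') : imgSys e.symm B' = B := by
  rw [← h, ← imgSys_trans, Equiv.self_trans_symm, imgSys_refl]

/-- Isomorphism of set systems, through `imgSys`. -/
theorem setSystemIso_iff {B : Set (Finset α)} {B' : Set (Finset β)} :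
    Cfsg.SetSystemIso B B' ↔ ∃ e : α ≃ β, imgSys e B = B' := Iff.rfl

/-- The image of a Steiner system is a Steiner system. -/
theorem steiner_image {t k : ℕ} {B : Set (Finset α)} (hB : Cfsg.IsSteinerSystem t k B) (e : α ≃ β) :
    Cfsg.IsSteinerSystem t k (imgSys e B) := by
  constructor
  · intro b hb
    rw [← hB.1 _ (mem_imgSys.1 hb), card_image_of_injective _ e.symm.injective]
  · intro s hs
    obtain ⟨b, ⟨hb, hsb⟩, hu⟩ := hB.2 (s.image e.symm)
      (by rw [card_image_of_injective _ e.symm.injective, hs])
    refine ⟨b.image e, ⟨image_mem_imgSys.2 hb, ?_⟩, ?_⟩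
    · simpa [image_image] using image_subset_image (f := e) hsb
    · rintro c ⟨hc, hsc⟩
      rw [← hu (c.image e.symm) ⟨mem_imgSys.1 hc, image_subset_image hsc⟩]
      simp [image_image]

/-- Automorphisms of a set system are the permutations mapping it onto itself. -/
theorem mem_setSystemAut_iff {B : Set (Finset α)} {g : Equiv.Perm α} :
    g ∈ Cfsg.setSystemAut B ↔ imgSys g B = B := by
  rw [MulAction.mem_stabilizer_iff]
  exact Iff.rfl

/-- A permutation mapping members to members of a finite set system is an automorphism. -/
theorem mem_setSystemAut_of_forall [Fintype α] {B : Set (Finset α)} {g : Equiv.Perm α}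
    (h : ∀ b ∈ B, b.image g ∈ B) : g ∈ Cfsg.setSystemAut B := by
  rw [mem_setSystemAut_iff]
  refine Set.eq_of_subset_of_ncard_le (fun b hb => ?_) ?_ (Set.toFinite B)
  · obtain ⟨c, hc, rfl⟩ := hb
    exact h c hc
  · rw [imgSys, Set.ncard_image_of_injective _ (image_injective g.injective)]

/-- A bijection carrying one set system to another conjugates their automorphism groups. -/
theorem permCongr_mem_setSystemAut {B : Set (Finset α)} {B' : Set (Finset β)} {e : α ≃ β}
    (he : imgSys e B = B') {g : Equiv.Perm α} (hg : g ∈ Cfsg.setSystemAut B) :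
    e.permCongr g ∈ Cfsg.setSystemAut B' := by
  rw [mem_setSystemAut_iff] at hg ⊢
  have : e.permCongr g = (e.symm.trans g).trans e := by ext x; simp
  rw [this, imgSys_trans, imgSys_trans, imgSys_symm_eq he, hg, he]

/-- Two bijections onto the same model differ by an automorphism. -/
theorem trans_symm_mem_setSystemAut {B : Set (Finset α)} {B' : Set (Finset β)} {e f : α ≃ β}
    (he : imgSys e B = B') (hf : imgSys f B = B') : e.trans f.symm ∈ Cfsg.setSystemAut B := by
  rw [mem_setSystemAut_iff, imgSys_trans, he, imgSys_symm_eq hf]

end Cfsg.Agent.H10
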