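import Cfsg.Agent.H10.SteinerCount

/-!
Intersection numbers of the Steiner systems S(5,8,24), S(4,7,23), S(3,6,22) and S(5,6,12), and the
closure properties of their block sets.
-/

set_option autoImplicit false
set_option linter.unusedSectionVars false

open Finset

namespace Cfsg.Agent.H10

variable {α : Type*} [DecidableEq α] [Fintype α] {B : Set (Finset α)}

/-- Blocks through `i` points of an S(5,8,24). -/
def lam24 (i : ℕ) : ℕ := [759, 253, 77, 21, 5, 1, 1, 1, 1].getD i 0
/-- Blocks meeting a block of an S(5,8,24) in a given set of `i` of its points. -/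
def mu24 (i : ℕ) : ℕ := [30, 0, 16, 0, 4, 0, 0, 0, 1].getD i 0
/-- Blocks through `i` points of an S(4,7,23). -/
def lam23 (i : ℕ) : ℕ := [253, 77, 21, 5, 1, 1, 1, 1].getD i 0
/-- Blocks meeting a block of an S(4,7,23) in a given set of `i` of its points. -/
def mu23 (i : ℕ) : ℕ := [0, 16, 0, 4, 0, 0, 0, 1].getD i 0
/-- Blocks through `i` points of an S(3,6,22). -/
def lam22 (i : ℕ) : ℕ := [77, 21, 5, 1, 1, 1, 1].getD i 0
/-- Blocks meeting a block of an S(3,6,22) in a given set of `i` of its points. -/
def mu22 (i : ℕ) : ℕ := [16, 0, 4, 0, 0, 0, 1].getD i 0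
/-- Blocks through `i` points of an S(5,6,12). -/
def lam12 (i : ℕ) : ℕ := [132, 66, 30, 12, 4, 1, 1].getD i 0
/-- Blocks meeting a block of an S(5,6,12) in a given set of `i` of its points. -/
def mu12 (i : ℕ) : ℕ := [1, 0, 3, 2, 3, 0, 1].getD i 0

section S24
variable (hα : Fintype.card α = 24) (hB : Cfsg.IsSteinerSystem 5 8 B)
include hα hB

/-- `lam24` counts the blocks through a subset of a block or of a set of at most five points. -/
theorem s24_lam {Y : Finset α} (hY : Y ∈ B ∨ Y.card ≤ 5) :
    ∀ u ⊆ Y, ((blocks B).filter (fun c => u ⊆ c)).card = lam24 u.card :=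
  lam_table hB hα lam24 (by decide) (by decide) hY

/-- `mu24` counts the blocks by their trace on a fixed block. -/
theorem s24_mu {b s : Finset α} (hb : b ∈ B) (hs : s ⊆ b) :
    ((blocks B).filter (fun c => c ∩ b = s)).card = mu24 s.card :=
  card_inter_eq _ b lam24 mu24 (s24_lam hα hB (Or.inl hb)) (by rw [hB.1 b hb]; decide) s hs

/-- Two distinct blocks of an S(5,8,24) meet in 0, 2 or 4 points. -/
theorem s24_inter {b c : Finset α} (hb : b ∈ B) (hc : c ∈ B) (hbc : b ≠ c) :
    (b ∩ c).card = 0 ∨ (b ∩ c).card = 2 ∨ (b ∩ c).card = 4 := by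
  have h := inter_card_mem _ b lam24 mu24 (s24_lam hα hB (Or.inl hb))
    (by rw [hB.1 b hb]; decide) (mem_blocks.2 hc)
  have hlt := block_inter_lt hB hb hc hbc
  rw [inter_comm c b] at h
  generalize (b ∩ c).card = i at h hlt
  interval_cases i <;> simp_all [mu24]

/-- Any two blocks of an S(5,8,24) meet evenly. -/
theorem s24_even {b c : Finset α} (hb : b ∈ B) (hc : c ∈ B) : Even (b ∩ c).card := by
  by_cases h : b = c
  · subst h; rw [inter_self, hB.1 b hb]; decide
  · rcases s24_inter hα hB hb hc h with e | e | e <;> rw [e] <;> decide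

/-- A set meeting every block of an S(5,8,24) evenly does not have exactly four points. -/
theorem s24_no_weight_four {y : Finset α} (hy : y.card = 4) :
    ∃ d ∈ B, Odd (d ∩ y).card := by
  obtain ⟨u, hu, huc⟩ := exists_subset_card_eq (show 3 ≤ y.card by omega)
  have h1 := s24_lam hα hB (Y := y) (Or.inr (by omega)) u hu
  have h2 := s24_lam hα hB (Y := y) (Or.inr (by omega)) y subset_rfl
  rw [huc] at h1; rw [hy] at h2
  have hlt : ((blocks B).filter (fun c => y ⊆ c)).card < ((blocks B).filter (fun c => u ⊆ c)).card := by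
    rw [h1, h2]; decide
  obtain ⟨d, hd, hd'⟩ := exists_mem_notMem_of_card_lt_card hlt
  simp only [mem_filter, mem_blocks, not_and] at hd hd'
  refine ⟨d, hd.1, ?_⟩
  have hge : 3 ≤ (d ∩ y).card := huc ▸ card_le_card (subset_inter hd.2 hu)
  have hne : d ∩ y ≠ y := fun h => hd' hd.1 (inter_eq_right.1 h)
  have : (d ∩ y).card < 4 := hy ▸ card_lt_card (Finset.ssubset_iff_subset_ne.2 ⟨inter_subset_right, hne⟩)
  rw [show (d ∩ y).card = 3 by omega]; decide

omit hα hB in
/-- Parity of the trace of a symmetric difference. -/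
theorem card_inter_symmDiff (d a b : Finset α) :
    (d ∩ symmDiff a b).card + 2 * (d ∩ a ∩ b).card = (d ∩ a).card + (d ∩ b).card := by
  have h1 := card_inter_add_card_sdiff (d ∩ a) b
  have h2 := card_inter_add_card_sdiff (d ∩ b) a
  have e : d ∩ symmDiff a b = (d ∩ a) \ b ∪ (d ∩ b) \ a := by
    ext x; simp [mem_symmDiff]; tauto
  have hd : Disjoint ((d ∩ a) \ b) ((d ∩ b) \ a) := by
    rw [disjoint_left]; intro x; simp; tauto
  have e2 : d ∩ b ∩ a = d ∩ a ∩ b := inter_right_comm d b a
  rw [e, card_union_of_disjoint hd, ← e2]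
  rw [← e2] at h1
  omega

omit hα hB in
/-- The cardinality of a symmetric difference. -/
theorem card_symmDiff_add (a b : Finset α) :
    (symmDiff a b).card + 2 * (a ∩ b).card = a.card + b.card := by
  simpa using card_inter_symmDiff univ a b

/-- An 8-set meeting every block of an S(5,8,24) evenly is a block. -/
theorem s24_block_of_even {x : Finset α} (hx : x.card = 8)
    (he : ∀ d ∈ B, Even (d ∩ x).card) : x ∈ B := by
  obtain ⟨T, hT, hTc⟩ := exists_subset_card_eq (show 5 ≤ x.card by omega)
  obtain ⟨d, ⟨hd, hTd⟩, -⟩ := hB.2 T hTc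
  have h5 : 5 ≤ (d ∩ x).card := hTc ▸ card_le_card (subset_inter hTd hT)
  have h8 : (d ∩ x).card ≤ 8 := hx ▸ card_le_card inter_subset_right
  obtain ⟨m, hm⟩ := he d hd
  rcases (show (d ∩ x).card = 8 ∨ (d ∩ x).card = 6 by omega) with h | h
  · have e : d ∩ x = x := eq_of_subset_of_card_le inter_subset_right (by omega)
    have e' : x = d := eq_of_subset_of_card_le (inter_eq_right.1 e) (by rw [hB.1 d hd, hx])
    rwa [e']
  · have hy : (symmDiff d x).card = 4 := by
      have := card_symmDiff_add d x
      rw [hB.1 d hd] at this; omega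
    obtain ⟨e, he1, he2⟩ := s24_no_weight_four hα hB hy
    exfalso
    have := card_inter_symmDiff e d x
    obtain ⟨p, hp⟩ := s24_even hα hB he1 hd
    obtain ⟨q, hq⟩ := he e he1
    obtain ⟨r, hr⟩ := he2
    omega

/-- The symmetric difference of two blocks meeting in four points is a block. -/
theorem s24_symmDiff {b c : Finset α} (hb : b ∈ B) (hc : c ∈ B) (h4 : (b ∩ c).card = 4) :
    symmDiff b c ∈ B := by
  refine s24_block_of_even hα hB ?_ fun d hd => ?_
  · have := card_symmDiff_add b c
    rw [hB.1 b hb, hB.1 c hc] at this; omega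
  · have := card_inter_symmDiff d b c
    obtain ⟨p, hp⟩ := s24_even hα hB hd hb
    obtain ⟨q, hq⟩ := s24_even hα hB hd hc
    exact ⟨p + q - (d ∩ b ∩ c).card, by omega⟩

end S24

section S23
variable (hα : Fintype.card α = 23) (hB : Cfsg.IsSteinerSystem 4 7 B)
include hα hB

/-- `lam23` counts the blocks through a subset of a block or of a set of at most four points. -/
theorem s23_lam {Y : Finset α} (hY : Y ∈ B ∨ Y.card ≤ 4) :
    ∀ u ⊆ Y, ((blocks B).filter (fun c => u ⊆ c)).card = lam23 u.card :=
  lam_table hB hα lam23 (by decide) (by decide) hY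

/-- `mu23` counts the blocks by their trace on a fixed block. -/
theorem s23_mu {b s : Finset α} (hb : b ∈ B) (hs : s ⊆ b) :
    ((blocks B).filter (fun c => c ∩ b = s)).card = mu23 s.card :=
  card_inter_eq _ b lam23 mu23 (s23_lam hα hB (Or.inl hb)) (by rw [hB.1 b hb]; decide) s hs

/-- Two distinct blocks of an S(4,7,23) meet in 1 or 3 points. -/
theorem s23_inter {b c : Finset α} (hb : b ∈ B) (hc : c ∈ B) (hbc : b ≠ c) :
    (b ∩ c).card = 1 ∨ (b ∩ c).card = 3 := by
  have h := inter_card_mem _ b lam23 mu23 (s23_lam hα hB (Or.inl hb))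
    (by rw [hB.1 b hb]; decide) (mem_blocks.2 hc)
  have hlt := block_inter_lt hB hb hc hbc
  rw [inter_comm c b] at h
  generalize (b ∩ c).card = i at h hlt
  interval_cases i <;> simp_all [mu23]

/-- Any two blocks of an S(4,7,23) meet oddly. -/
theorem s23_odd {b c : Finset α} (hb : b ∈ B) (hc : c ∈ B) : Odd (b ∩ c).card := by
  by_cases h : b = c
  · subst h; rw [inter_self, hB.1 b hb]; decide
  · rcases s23_inter hα hB hb hc h with e | e <;> rw [e] <;> decide

end S23

section S22
variable (hα : Fintype.card α = 22) (hB : Cfsg.IsSteinerSystem 3 6 B)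
include hα hB

/-- `lam22` counts the blocks through a subset of a block or of a set of at most three points. -/
theorem s22_lam {Y : Finset α} (hY : Y ∈ B ∨ Y.card ≤ 3) :
    ∀ u ⊆ Y, ((blocks B).filter (fun c => u ⊆ c)).card = lam22 u.card :=
  lam_table hB hα lam22 (by decide) (by decide) hY

/-- `mu22` counts the blocks by their trace on a fixed block. -/
theorem s22_mu {b s : Finset α} (hb : b ∈ B) (hs : s ⊆ b) :
    ((blocks B).filter (fun c => c ∩ b = s)).card = mu22 s.card :=
  card_inter_eq _ b lam22 mu22 (s22_lam hα hB (Or.inl hb)) (by rw [hB.1 b hb]; decide) s hs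

/-- Two distinct blocks of an S(3,6,22) meet in 0 or 2 points. -/
theorem s22_inter {b c : Finset α} (hb : b ∈ B) (hc : c ∈ B) (hbc : b ≠ c) :
    (b ∩ c).card = 0 ∨ (b ∩ c).card = 2 := by
  have h := inter_card_mem _ b lam22 mu22 (s22_lam hα hB (Or.inl hb))
    (by rw [hB.1 b hb]; decide) (mem_blocks.2 hc)
  have hlt := block_inter_lt hB hb hc hbc
  rw [inter_comm c b] at h
  generalize (b ∩ c).card = i at h hlt
  interval_cases i <;> simp_all [mu22]

/-- Any two blocks of an S(3,6,22) meet evenly. -/
theorem s22_even {b c : Finset α} (hb : b ∈ B) (hc : c ∈ B) : Even (b ∩ c).card := by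
  by_cases h : b = c
  · subst h; rw [inter_self, hB.1 b hb]; decide
  · rcases s22_inter hα hB hb hc h with e | e <;> rw [e] <;> decide

end S22

section S12
variable (hα : Fintype.card α = 12) (hB : Cfsg.IsSteinerSystem 5 6 B)
include hα hB

/-- `lam12` counts the blocks through a subset of a block or of a set of at most five points. -/
theorem s12_lam {Y : Finset α} (hY : Y ∈ B ∨ Y.card ≤ 5) :
    ∀ u ⊆ Y, ((blocks B).filter (fun c => u ⊆ c)).card = lam12 u.card :=
  lam_table hB hα lam12 (by decide) (by decide) hY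

/-- `mu12` counts the blocks by their trace on a fixed block. -/
theorem s12_mu {b s : Finset α} (hb : b ∈ B) (hs : s ⊆ b) :
    ((blocks B).filter (fun c => c ∩ b = s)).card = mu12 s.card :=
  card_inter_eq _ b lam12 mu12 (s12_lam hα hB (Or.inl hb)) (by rw [hB.1 b hb]; decide) s hs

/-- Two distinct blocks of an S(5,6,12) meet in 0, 2, 3 or 4 points. -/
theorem s12_inter {b c : Finset α} (hb : b ∈ B) (hc : c ∈ B) (hbc : b ≠ c) :
    (b ∩ c).card = 0 ∨ (b ∩ c).card = 2 ∨ (b ∩ c).card = 3 ∨ (b ∩ c).card = 4 := by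
  have h := inter_card_mem _ b lam12 mu12 (s12_lam hα hB (Or.inl hb))
    (by rw [hB.1 b hb]; decide) (mem_blocks.2 hc)
  have hlt := block_inter_lt hB hb hc hbc
  rw [inter_comm c b] at h
  generalize (b ∩ c).card = i at h hlt
  interval_cases i <;> simp_all [mu12]

/-- The complement of a block of an S(5,6,12) is a block. -/
theorem s12_compl {b : Finset α} (hb : b ∈ B) : bᶜ ∈ B := by
  have h := s12_mu hα hB hb (empty_subset b)
  rw [card_empty, show mu12 0 = 1 from rfl, card_eq_one] at h
  obtain ⟨c, hc⟩ := h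
  have hc' : c ∈ (blocks B).filter (fun c => c ∩ b = ∅) := by rw [hc]; exact mem_singleton_self c
  rw [mem_filter, mem_blocks, ← disjoint_iff_inter_eq_empty] at hc'
  rw [← eq_of_subset_of_card_le (subset_compl_iff_disjoint_right.2 hc'.2)
    (by rw [card_compl, hB.1 b hb, hB.1 c hc'.1, hα])]
  exact hc'.1

end S12

end Cfsg.Agent.H10
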