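import Cfsg.Agent.H10.AG23Model
import Cfsg.Agent.H10.SteinerParams
import Cfsg.Agent.H10.SteinerIso

/-!
Uniqueness and rigidity of the affine plane of order 3, as an S(2,3,9).
-/

set_option autoImplicit false
set_option linter.unusedSectionVars false

open Finset

namespace Cfsg.Agent.H10

/-- Points of a mask set. -/
theorem A3.mem_maskSet {m : ℕ} {x : Fin 9} : x ∈ A3.maskSet m ↔ m.testBit x.val = true := by
  simp [A3.maskSet]

/-- The model is an S(2,3,9). -/
theorem a3_steiner : Cfsg.IsSteinerSystem 2 3 A3.modelLines := by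
  refine ⟨?_, fun s hs => ?_⟩
  · rintro l ⟨m, hm, rfl⟩
    rw [A3.maskSet, A3.card_maskSet m.testBit]
    simpa using List.all_eq_true.1 A3.lineMasks_card m hm
  · obtain ⟨a, b, hab, rfl⟩ := card_eq_two.1 hs
    obtain ⟨m, hm, hmab⟩ := List.any_eq_true.1 (List.all_eq_true.1
      (List.all_eq_true.1 A3.lineMasks_exists a (List.mem_range.2 a.isLt)) b (List.mem_range.2 b.isLt))
    rw [Bool.and_eq_true] at hmab
    refine ⟨A3.maskSet m, ⟨⟨m, hm, rfl⟩, by simp [insert_subset_iff, A3.maskSet, hmab.1, hmab.2]⟩, ?_⟩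
    rintro l ⟨⟨n, hn, rfl⟩, hsn⟩
    simp only [insert_subset_iff, singleton_subset_iff, A3.mem_maskSet] at hsn
    have h := List.all_eq_true.1 (List.all_eq_true.1 A3.lineMasks_inter m hm) n hn
    rw [Bool.or_eq_true, beq_iff_eq, decide_eq_true_eq] at h
    rcases h with rfl | h
    · rfl
    exfalso
    rw [← A3.card_maskSet fun x => m.testBit x && n.testBit x] at h
    exact hab (card_le_one.1 h a (by simp [hmab.1, hsn.1]) b (by simp [hmab.2, hsn.2]))

/-- A line of the model through three points flagged by the table. -/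
theorem a3_line_of_any {a b c : Fin 9}
    (h : A3.lineMasks.any (fun m => m.testBit a && m.testBit b && m.testBit c) = true) :
    ∃ l ∈ A3.modelLines, a ∈ l ∧ b ∈ l ∧ c ∈ l := by
  obtain ⟨m, hm, hmt⟩ := List.any_eq_true.1 h
  simp only [Bool.and_eq_true] at hmt
  exact ⟨A3.maskSet m, ⟨m, hm, rfl⟩, A3.mem_maskSet.2 hmt.1.1, A3.mem_maskSet.2 hmt.1.2,
    A3.mem_maskSet.2 hmt.2⟩

/-- An automorphism of the model fixing `0`, `1` and `3` is trivial. -/
theorem a3_rigid (g : Equiv.Perm (Fin 9)) (hg : imgSys g A3.modelLines = A3.modelLines)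
    (h0 : g 0 = 0) (h1 : g 1 = 1) (h3 : g 3 = 3) : g = 1 := by
  have step : ∀ t ∈ A3.derivation, g t.1 = t.1 → g t.2.1 = t.2.1 → g t.2.2 = t.2.2 := by
    intro t ht ha hb
    obtain ⟨hab, hac, hbc, hany⟩ := A3.derivation_lines t ht
    obtain ⟨l, hl, hla, hlb, hlc⟩ := a3_line_of_any hany
    have hgl : l.image g = l := by
      refine block_unique a3_steiner (hg ▸ image_mem_imgSys.2 hl) hl (s := {t.1, t.2.1})
        (card_pair hab).ge ?_ (by simp [insert_subset_iff, hla, hlb])
      simp only [insert_subset_iff, singleton_subset_iff]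
      exact ⟨mem_image.2 ⟨_, hla, ha⟩, mem_image.2 ⟨_, hlb, hb⟩⟩
    have hl3 : l = {t.1, t.2.1, t.2.2} := by
      refine (eq_of_subset_of_card_le (by simp [insert_subset_iff, hla, hlb, hlc]) ?_).symm
      rw [a3_steiner.1 l hl, card_eq_three.2 ⟨_, _, _, hab, hac, hbc, rfl⟩]
    have hmem : g t.2.2 ∈ l := hgl ▸ mem_image_of_mem g hlc
    rw [hl3] at hmem
    simp only [mem_insert, mem_singleton] at hmem
    rcases hmem with h | h | h
    · exact absurd (g.injective (h.trans ha.symm)) hac.symm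
    · exact absurd (g.injective (h.trans hb.symm)) hbc.symm
    · exact h
  simp only [A3.derivation, List.mem_cons, List.not_mem_nil, or_false, forall_eq_or_imp,
    forall_eq] at step
  obtain ⟨s1, s2, s3, s4, s5, s6⟩ := step
  refine Equiv.ext fun x => ?_
  fin_cases x
  exacts [h0, h1, s1 h0 h1, h3, s4 h0 (s3 h1 h3), s5 h1 (s2 h0 h3), s2 h0 h3,
    s6 h0 (s5 h1 (s2 h0 h3)), s3 h1 h3]

variable {α : Type*} [DecidableEq α] [Fintype α] {L : Set (Finset α)}
variable (hα : Fintype.card α = 9) (hL : Cfsg.IsSteinerSystem 2 3 L)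
include hα hL

/-- The line through two points of an S(2,3,9). -/
theorem s9_exists_line {p q : α} (h : p ≠ q) : ∃ l ∈ L, p ∈ l ∧ q ∈ l := by
  obtain ⟨l, ⟨hl, hs⟩, -⟩ := hL.2 {p, q} (card_pair h)
  simp only [insert_subset_iff, singleton_subset_iff] at hs
  exact ⟨l, hl, hs⟩

/-- Lines through two points of an S(2,3,9) are equal. -/
theorem s9_line_unique {p q : α} (h : p ≠ q) {l m : Finset α} (hl : l ∈ L) (hm : m ∈ L)
    (h1 : p ∈ l) (h2 : q ∈ l) (h3 : p ∈ m) (h4 : q ∈ m) : l = m :=
  block_unique hL hl hm (card_pair h).ge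
    (by simp [insert_subset_iff, h1, h2]) (by simp [insert_subset_iff, h3, h4])

/-- Exactly one line through a point off `v` misses `v`. -/
theorem s9_parallel {v : Finset α} (hv : v ∈ L) {x : α} (hx : x ∉ v) :
    ∃! w, w ∈ L ∧ x ∈ w ∧ Disjoint w v := by
  set S := (blocks L).filter (fun l => ({x} : Finset α) ⊆ l) with hS
  have hSc : S.card = 4 := by
    have h := lam_mul hL (s := ({x} : Finset α)) (by simp)
    rw [← hS, card_singleton, hα] at h
    simp at h
    omega
  have hv3 : v.card = 3 := hL.1 v hv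
  have hmeet : (S.filter (fun l => ¬ Disjoint l v)).card = 3 := by
    rw [← hv3]
    have hex : ∀ y ∈ v, ∃ l ∈ L, x ∈ l ∧ y ∈ l := fun y hy =>
      s9_exists_line hα hL (p := x) (q := y) (fun e => hx (e ▸ hy))
    choose f hf hxf hyf using hex
    symm
    refine card_bij f ?_ ?_ ?_
    · intro y hy
      simp only [hS, mem_filter, mem_blocks, singleton_subset_iff, not_disjoint_iff]
      exact ⟨⟨hf y hy, hxf y hy⟩, y, hyf y hy, hy⟩
    · intro y hy z hz h
      by_contra hyz
      exact hx (s9_line_unique hα hL hyz (hf y hy) hv (hyf y hy) (h ▸ hyf z hz) hy hz ▸ hxf y hy)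
    · intro l hl
      simp only [hS, mem_filter, mem_blocks, singleton_subset_iff, not_disjoint_iff] at hl
      obtain ⟨⟨hl, hxl⟩, y, hyl, hyv⟩ := hl
      exact ⟨y, hyv, s9_line_unique hα hL (fun e : x = y => hx (e ▸ hyv)) (hf y hyv) hl
        (hxf y hyv) (hyf y hyv) hxl hyl⟩
  have hsplit := card_filter_add_card_filter_not (s := S) (p := fun l => ¬ Disjoint l v)
  simp only [not_not] at hsplit
  obtain ⟨w, hw⟩ := card_eq_one.1 (show (S.filter (fun l => Disjoint l v)).card = 1 by omega)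
  have hmem : ∀ l, l = w ↔ (l ∈ L ∧ x ∈ l) ∧ Disjoint l v := fun l => by
    rw [← mem_singleton, ← hw]; simp [hS]
  exact ⟨w, ⟨((hmem w).1 rfl).1.1, ((hmem w).1 rfl).1.2, ((hmem w).1 rfl).2⟩,
    fun l ⟨h1, h2, h3⟩ => (hmem l).2 ⟨⟨h1, h2⟩, h3⟩⟩

/-- Any three non-collinear points go to `0`, `1`, `3` under an isomorphism with the model. -/
theorem s9_coord {p q r : α} (hpq : p ≠ q) (hr : ∀ l ∈ L, p ∈ l → q ∈ l → r ∉ l) :
    ∃ e : α ≃ Fin 9, imgSys e L = A3.modelLines ∧ e p = 0 ∧ e q = 1 ∧ e r = 3 := by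
  classical
  obtain ⟨h, hh, hph, hqh⟩ := s9_exists_line hα hL hpq
  have hrh : r ∉ h := hr h hh hph hqh
  obtain ⟨v, hv, hpv, hrv⟩ := s9_exists_line hα hL (p := p) (q := r) (fun e => hrh (e ▸ hph))
  have hhv : h ≠ v := fun e => hrh (e ▸ hrv)
  have only : ∀ x, x ∈ h → x ∈ v → x = p := fun x h1 h2 => by
    by_contra hx
    exact hhv (s9_line_unique hα hL hx hh hv h1 hph h2 hpv)
  -- the pencil parallel to `v`, read on `h`
  have pencil : ∀ (h v : Finset α), h ∈ L → v ∈ L → p ∈ h → p ∈ v → h ≠ v →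
      ∀ x, ∃ w, w ∈ L ∧ x ∈ w ∧ (w = v ∨ Disjoint w v) ∧ ∃ c ∈ h, c ∈ w := by
    intro h v hh hv hph hpv hne x
    by_cases hxv : x ∈ v
    · exact ⟨v, hv, hxv, Or.inl rfl, p, hph, hpv⟩
    obtain ⟨w, ⟨hw, hxw, hwv⟩, -⟩ := s9_parallel hα hL hv hxv
    refine ⟨w, hw, hxw, Or.inr hwv, ?_⟩
    by_contra hcon
    push Not at hcon
    have hwh : Disjoint h w := disjoint_left.2 hcon
    have hvw : Disjoint v w := hwv.symm
    have hpw : p ∉ w := fun e => disjoint_left.1 hwh hph e
    exact hne ((s9_parallel hα hL hw hpw).unique ⟨hh, hph, hwh⟩ ⟨hv, hpv, hvw⟩)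
  choose W hW hxW hWv C hCh hCW using pencil h v hh hv hph hpv hhv
  choose U hU hxU hUh R hRv hRU using pencil v h hv hh hpv hph hhv.symm
  -- a line of the pencil is determined by any of its points
  have uniq : ∀ (v : Finset α), v ∈ L → ∀ {a b : Finset α} {x : α}, a ∈ L → b ∈ L → x ∈ a → x ∈ b →
      (a = v ∨ Disjoint a v) → (b = v ∨ Disjoint b v) → a = b := by
    intro v hv a b x ha hb hxa hxb hav hbv
    by_cases hxv : x ∈ v
    · rcases hav with rfl | hd
      · rcases hbv with rfl | hd'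
        · rfl
        · exact absurd hxv (disjoint_left.1 hd' hxb)
      · exact absurd hxv (disjoint_left.1 hd hxa)
    · rcases hav with rfl | hd
      · exact absurd hxa hxv
      rcases hbv with rfl | hd'
      · exact absurd hxb hxv
      exact (s9_parallel hα hL hv hxv).unique ⟨ha, hxa, hd⟩ ⟨hb, hxb, hd'⟩
  have cellU : ∀ x y, C x = C y → W x = W y := fun x y e =>
    uniq v hv (hW x) (hW y) (hCW x) (e ▸ hCW y) (hWv x) (hWv y)
  have cellV : ∀ x y, R x = R y → U x = U y := fun x y e =>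
    uniq h hh (hU x) (hU y) (hRU x) (e ▸ hRU y) (hUh x) (hUh y)
  have hWU : ∀ x, W x ≠ U x := by
    intro x e
    rcases hWv x with h1 | h1
    · rcases hUh x with h2 | h2
      · exact hhv (h2.symm.trans (e.symm.trans h1))
      · exact disjoint_left.1 (e.symm ▸ h2 : Disjoint (W x) h) (h1 ▸ hpv) hph
    · rcases hUh x with h2 | h2
      · exact disjoint_left.1 h1 (e.symm ▸ h2 ▸ hph : p ∈ W x) hpv
      · exact disjoint_left.1 (e.symm ▸ h2 : Disjoint (W x) h) (hCW x) (hCh x)
  obtain ⟨q', hq'⟩ : ∃ q', h = {p, q, q'} ∧ q' ≠ p ∧ q' ≠ q := by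
    obtain ⟨q', hq'⟩ := card_eq_one.1 (show ((h.erase p).erase q).card = 1 by
      rw [card_erase_of_mem (by simp [hqh, hpq.symm]), card_erase_of_mem hph, hL.1 h hh])
    have hm : q' ∈ (h.erase p).erase q := by rw [hq']; exact mem_singleton_self q'
    simp only [mem_erase] at hm
    refine ⟨q', ?_, hm.2.1, hm.1⟩
    rw [← insert_erase hph, ← insert_erase (show q ∈ h.erase p by simp [hqh, hpq.symm]), hq']
  have hpr : p ≠ r := fun e => hrh (e ▸ hph)
  obtain ⟨r', hr'⟩ : ∃ r', v = {p, r, r'} ∧ r' ≠ p ∧ r' ≠ r := by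
    obtain ⟨r', hr'⟩ := card_eq_one.1 (show ((v.erase p).erase r).card = 1 by
      rw [card_erase_of_mem (by simp [hrv, hpr.symm]), card_erase_of_mem hpv, hL.1 v hv])
    have hm : r' ∈ (v.erase p).erase r := by rw [hr']; exact mem_singleton_self r'
    simp only [mem_erase] at hm
    refine ⟨r', ?_, hm.2.1, hm.1⟩
    rw [← insert_erase hpv, ← insert_erase (show r ∈ v.erase p by simp [hrv, hpr.symm]), hr']
  let ic : α → Fin 3 := fun x => if C x = p then 0 else if C x = q then 1 else 2
  let ir : α → Fin 3 := fun x => if R x = p then 0 else if R x = r then 1 else 2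
  have hic : ∀ x y, ic x = ic y → C x = C y := by
    intro x y hxy
    have hx := hCh x
    have hy := hCh y
    rw [hq'.1] at hx hy
    simp only [mem_insert, mem_singleton] at hx hy
    rcases hx with hx | hx | hx <;> rcases hy with hy | hy | hy <;>
      simp only [ic, hx, hy, if_pos, if_neg hpq.symm, if_neg hq'.2.1, if_neg hq'.2.2] at hxy ⊢ <;>
      first | rfl | exact absurd hxy (by decide)
  have hir : ∀ x y, ir x = ir y → R x = R y := by
    intro x y hxy
    have hx := hRv x
    have hy := hRv y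
    rw [hr'.1] at hx hy
    simp only [mem_insert, mem_singleton] at hx hy
    rcases hx with hx | hx | hx <;> rcases hy with hy | hy | hy <;>
      simp only [ir, hx, hy, if_pos, if_neg hpr.symm, if_neg hr'.2.1, if_neg hr'.2.2] at hxy ⊢ <;>
      first | rfl | exact absurd hxy (by decide)
  let φ : α → Fin 9 := fun x => ⟨(ic x).val + 3 * (ir x).val, by omega⟩
  have hφc : ∀ x, (φ x).val % 3 = (ic x).val := fun x => by simp only [φ]; omega
  have hφr : ∀ x, (φ x).val / 3 = (ir x).val := fun x => by simp only [φ]; omega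
  have sameC : ∀ x y, (φ x).val % 3 = (φ y).val % 3 → W x = W y := fun x y e =>
    cellU x y (hic x y (Fin.ext (by rw [← hφc, ← hφc, e])))
  have sameR : ∀ x y, (φ x).val / 3 = (φ y).val / 3 → U x = U y := fun x y e =>
    cellV x y (hir x y (Fin.ext (by rw [← hφr, ← hφr, e])))
  have hinj : Function.Injective φ := by
    intro x y hxy
    by_contra hne
    exact hWU x (s9_line_unique hα hL hne (hW x) (hU x) (hxW x)
      (sameC x y (by rw [hxy]) ▸ hxW y) (hxU x) (sameR x y (by rw [hxy]) ▸ hxU y))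
  let e : α ≃ Fin 9 := Equiv.ofBijective φ
    ((Fintype.bijective_iff_injective_and_card φ).2 ⟨hinj, by simp [hα]⟩)
  have hC : ∀ c ∈ h, C c = c := fun c hc => by
    by_contra hne
    have e1 : W c = h := s9_line_unique hα hL hne (hW c) hh (hCW c) (hxW c) (hCh c) hc
    rcases hWv c with h1 | h1
    · exact hhv (e1.symm.trans h1)
    · exact disjoint_left.1 (e1 ▸ h1 : Disjoint h v) hph hpv
  have hR : ∀ c ∈ v, R c = c := fun c hc => by
    by_contra hne
    have e1 : U c = v := s9_line_unique hα hL hne (hU c) hv (hRU c) (hxU c) (hRv c) hc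
    rcases hUh c with h1 | h1
    · exact hhv (h1.symm.trans e1)
    · exact disjoint_left.1 (e1 ▸ h1 : Disjoint v h) hpv hph
  have hCv : ∀ c ∈ v, C c = p := fun c hc => by
    have e1 : W c = v := uniq v hv (hW c) hv (hxW c) hc (hWv c) (Or.inl rfl)
    exact only _ (hCh c) (e1 ▸ hCW c)
  have hRh : ∀ c ∈ h, R c = p := fun c hc => by
    have e1 : U c = h := uniq h hh (hU c) hh (hxU c) hc (hUh c) (Or.inl rfl)
    exact only _ (e1 ▸ hRU c) (hRv c)
  refine ⟨e, ?_, ?_, ?_, ?_⟩
  · refine steiner_eq_of_subset (by norm_num) (steiner_image hL e) a3_steiner ?_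
    rintro _ ⟨l, hl, rfl⟩
    show l.image e ∈ A3.modelLines
    obtain ⟨a, b, c, hab, hac, hbc, habc⟩ := card_eq_three.1 (hL.1 l hl)
    subst habc
    have hne : ∀ {a b : α}, a ≠ b → φ a ≠ φ b := fun h e => h (hinj e)
    -- two equal columns (rows) on `l` force the third
    have col2 : ∀ {x y z : α}, x ∈ ({a, b, c} : Finset α) → y ∈ ({a, b, c} : Finset α) →
        z ∈ ({a, b, c} : Finset α) → x ≠ y → (φ x).val % 3 = (φ y).val % 3 →
        (φ x).val % 3 = (φ z).val % 3 := by
      intro x y z hx hy hz hxy e2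
      have e3 := s9_line_unique hα hL hxy hl (hW x) hx hy (hxW x) (sameC x y e2 ▸ hxW y)
      have e4 : W x = W z := uniq v hv (hW x) (hW z) (e3 ▸ hz) (hxW z) (hWv x) (hWv z)
      have e5 : C x = C z := by
        by_contra hne'
        have e6 : W x = h :=
          s9_line_unique hα hL hne' (hW x) hh (hCW x) (e4 ▸ hCW z) (hCh x) (hCh z)
        rcases hWv x with h1 | h1
        · exact hhv (e6.symm.trans h1)
        · exact disjoint_left.1 (e6 ▸ h1 : Disjoint h v) hph hpv
      rw [hφc, hφc]; simp only [ic, e5]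
    have row2 : ∀ {x y z : α}, x ∈ ({a, b, c} : Finset α) → y ∈ ({a, b, c} : Finset α) →
        z ∈ ({a, b, c} : Finset α) → x ≠ y → (φ x).val / 3 = (φ y).val / 3 →
        (φ x).val / 3 = (φ z).val / 3 := by
      intro x y z hx hy hz hxy e2
      have e3 := s9_line_unique hα hL hxy hl (hU x) hx hy (hxU x) (sameR x y e2 ▸ hxU y)
      have e4 : U x = U z := uniq h hh (hU x) (hU z) (e3 ▸ hz) (hxU z) (hUh x) (hUh z)
      have e5 : R x = R z := by
        by_contra hne'
        have e6 : U x = v :=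
          s9_line_unique hα hL hne' (hU x) hv (hRU x) (e4 ▸ hRU z) (hRv x) (hRv z)
        rcases hUh x with h1 | h1
        · exact hhv (h1.symm.trans e6)
        · exact disjoint_left.1 (e6 ▸ h1 : Disjoint v h) hpv hph
      rw [hφr, hφr]; simp only [ir, e5]
    have ha : a ∈ ({a, b, c} : Finset α) := by simp
    have hb : b ∈ ({a, b, c} : Finset α) := by simp
    have hc' : c ∈ ({a, b, c} : Finset α) := by simp
    obtain ⟨l', hl', h1, h2, h3⟩ := a3_line_of_any (A3.triple_line (φ a) (φ b) (φ c) (hne hab)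
      (hne hac) (hne hbc) (by
        by_cases c1 : (φ a).val % 3 = (φ b).val % 3
        · exact Or.inl ⟨c1, col2 ha hb hc' hab c1⟩
        by_cases c2 : (φ a).val % 3 = (φ c).val % 3
        · exact absurd (col2 ha hc' hb hac c2) c1
        by_cases c3 : (φ b).val % 3 = (φ c).val % 3
        · exact absurd (col2 hb hc' ha hbc c3).symm c1
        by_cases r1 : (φ a).val / 3 = (φ b).val / 3
        · exact Or.inr (Or.inl ⟨r1, row2 ha hb hc' hab r1⟩)
        by_cases r2 : (φ a).val / 3 = (φ c).val / 3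
        · exact absurd (row2 ha hc' hb hac r2) r1
        by_cases r3 : (φ b).val / 3 = (φ c).val / 3
        · exact absurd (row2 hb hc' ha hbc r3).symm r1
        exact Or.inr (Or.inr ⟨c1, c2, c3, r1, r2, r3⟩)))
    have : ({a, b, c} : Finset α).image e = l' := by
      refine eq_of_subset_of_card_le ?_ ?_
      · simp only [image_insert, image_singleton, insert_subset_iff, singleton_subset_iff]
        exact ⟨h1, h2, h3⟩
      · rw [card_image_of_injective _ e.injective, hL.1 _ hl, a3_steiner.1 _ hl']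
    rw [this]; exact hl'
  · show φ p = 0
    simp [φ, ic, ir, hC p hph, hR p hpv]
  · show φ q = 1
    simp [φ, ic, ir, hC q hqh, hRh q hqh, hpq.symm]
  · show φ r = 3
    simp [φ, ic, ir, hCv r hrv, hR r hrv, hpr.symm]

end Cfsg.Agent.H10
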