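import Mathlib

/-!
The affine plane of order 3 on `Fin 9` (the point `c + 3 * r` has column `c` and row `r`), its 54
four-point sets without a line, and their colouring in three classes of 18.
-/

set_option autoImplicit false

open Finset

namespace Cfsg.Agent.H10.A3

/-- The point set of a bit mask. -/
def maskSet (m : ℕ) : Finset (Fin 9) := univ.filter fun x => m.testBit x.val

/-- The lines, as bit masks. -/
def lineMasks : List ℕ :=
  [7, 73, 273, 161, 266, 146, 98, 140, 84, 292, 56, 448]

/-- The four-point sets without a line, by colour, as bit masks. -/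
def colourMasks : Fin 3 → List ℕ :=
  ![[27, 291, 195, 45, 149, 325, 393, 113, 78, 54, 390, 170, 338, 284, 228, 216, 360, 432],
    [43, 83, 387, 269, 53, 197, 153, 353, 30, 166, 326, 202, 306, 108, 404, 344, 424, 240],
    [139, 51, 323, 29, 101, 389, 297, 209, 46, 278, 198, 90, 418, 332, 180, 408, 232, 368]]

/-- Derivation steps of the colouring: a set, its colour, and two coloured sets each sharing three
points with it. -/
def colourSteps : List (ℕ × Fin 3 × ℕ × Fin 3 × ℕ × Fin 3) :=
  [(51, 2, 27, 0, 43, 1), (83, 1, 27, 0, 51, 2), (291, 0, 43, 1, 51, 2),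
    (195, 0, 139, 2, 83, 1), (323, 2, 83, 1, 291, 0), (387, 1, 139, 2, 291, 0),
    (153, 1, 27, 0, 139, 2), (297, 2, 43, 1, 291, 0), (393, 0, 139, 2, 153, 1),
    (113, 0, 51, 2, 83, 1), (209, 2, 153, 1, 113, 0), (353, 1, 297, 2, 291, 0),
    (90, 2, 27, 0, 83, 1), (170, 0, 43, 1, 139, 2), (202, 1, 90, 2, 170, 0),
    (306, 1, 51, 2, 291, 0), (338, 0, 90, 2, 83, 1), (418, 2, 170, 0, 306, 1),
    (216, 0, 90, 2, 153, 1), (344, 1, 90, 2, 338, 0), (408, 2, 153, 1, 393, 0),
    (232, 2, 170, 0, 202, 1), (360, 0, 232, 2, 353, 1), (424, 1, 232, 2, 360, 0),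
    (240, 1, 232, 2, 113, 0), (368, 2, 360, 0, 240, 1), (432, 0, 424, 1, 368, 2),
    (29, 2, 27, 0, 153, 1), (45, 0, 43, 1, 297, 2), (269, 1, 297, 2, 393, 0),
    (53, 1, 51, 2, 113, 0), (149, 0, 153, 1, 209, 2), (101, 2, 113, 0, 353, 1),
    (197, 1, 209, 2, 195, 0), (325, 0, 353, 1, 323, 2), (389, 2, 325, 0, 387, 1),
    (30, 1, 27, 0, 90, 2), (46, 2, 43, 1, 170, 0), (78, 0, 90, 2, 202, 1),
    (54, 0, 53, 1, 51, 2), (278, 2, 306, 1, 338, 0), (166, 1, 170, 0, 418, 2),
    (198, 2, 197, 1, 195, 0), (326, 1, 325, 0, 323, 2), (390, 0, 389, 2, 387, 1),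
    (284, 0, 344, 1, 29, 2), (108, 1, 232, 2, 360, 0), (332, 2, 325, 0, 108, 1),
    (180, 2, 166, 1, 432, 0), (404, 1, 390, 0, 389, 2), (228, 0, 232, 2, 240, 1)]

/-- Six collineations fixing the points `0` and `1`. -/
def planeMaps : Fin 6 → Fin 9 → Fin 9 :=
  ![![0, 1, 2, 3, 4, 5, 6, 7, 8], ![0, 1, 2, 4, 5, 3, 8, 6, 7], ![0, 1, 2, 5, 3, 4, 7, 8, 6],
    ![0, 1, 2, 6, 7, 8, 3, 4, 5], ![0, 1, 2, 7, 8, 6, 5, 3, 4], ![0, 1, 2, 8, 6, 7, 4, 5, 3]]

/-- Their action on the colours. -/
def colourMaps : Fin 6 → Fin 3 → Fin 3 :=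
  ![![0, 1, 2], ![2, 0, 1], ![1, 2, 0], ![0, 2, 1], ![1, 0, 2], ![2, 1, 0]]

/-- The inverse tables of `planeMaps`. -/
def planeMapsInv : Fin 6 → Fin 9 → Fin 9 :=
  ![![0, 1, 2, 3, 4, 5, 6, 7, 8], ![0, 1, 2, 5, 3, 4, 7, 8, 6], ![0, 1, 2, 4, 5, 3, 8, 6, 7],
    ![0, 1, 2, 6, 7, 8, 3, 4, 5], ![0, 1, 2, 7, 8, 6, 5, 3, 4], ![0, 1, 2, 8, 6, 7, 4, 5, 3]]

/-- The lines of the model. -/
def modelLines : Set (Finset (Fin 9)) := {l | ∃ m ∈ lineMasks, maskSet m = l}

/-- A colour class of the model. -/
def colourClass (k : Fin 3) : Finset (Finset (Fin 9)) := (colourMasks k).toFinset.image maskSet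

theorem card_maskSet (p : ℕ → Bool) :
    (univ.filter fun x : Fin 9 => p x.val).card = ((List.range 9).filter p).length := by
  rw [← List.toFinset_card_of_nodup (List.nodup_range.filter _), ← card_map Fin.valEmbedding]
  congr 1
  ext x
  simp [Fin.exists_iff]
  tauto

/-- Every set of points is the set of a mask below `512`. -/
theorem exists_mask (D : Finset (Fin 9)) : ∃ m < 512, maskSet m = D := by
  have hinj : Set.InjOn maskSet ↑(range 512) := by
    intro a ha b hb h
    rw [coe_range, Set.mem_Iio] at ha hb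
    refine Nat.eq_of_testBit_eq fun i => ?_
    rcases lt_or_ge i 9 with hi | hi
    · have := congrArg (fun S => decide ((⟨i, hi⟩ : Fin 9) ∈ S)) h
      simpa [maskSet] using this
    · rw [Nat.testBit_lt_two_pow (lt_of_lt_of_le ha (Nat.pow_le_pow_right (n := 2) (by norm_num) hi)),
        Nat.testBit_lt_two_pow (lt_of_lt_of_le hb (Nat.pow_le_pow_right (n := 2) (by norm_num) hi))]
  have hu : (range 512).image maskSet = (univ : Finset (Finset (Fin 9))) := by
    refine eq_univ_of_card _ ?_
    rw [card_image_of_injOn hinj, card_range, Fintype.card_finset, Fintype.card_fin]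
    norm_num
  obtain ⟨m, hm, he⟩ := mem_image.1 (hu ▸ mem_univ D)
  exact ⟨m, mem_range.1 hm, he⟩

theorem lineMasks_card : lineMasks.all
    (fun m => ((List.range 9).filter fun x => m.testBit x).length == 3) = true := by decide +kernel

theorem lineMasks_inter : lineMasks.all (fun m => lineMasks.all fun n =>
    m == n || ((List.range 9).filter fun x => m.testBit x && n.testBit x).length ≤ 1) = true := by
  decide +kernel

theorem lineMasks_exists : (List.range 9).all (fun a => (List.range 9).all fun b =>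
    lineMasks.any fun m => m.testBit a && m.testBit b) = true := by decide +kernel

theorem triple_line : ∀ a b c : Fin 9, a ≠ b → a ≠ c → b ≠ c →
    ((a.val % 3 = b.val % 3 ∧ a.val % 3 = c.val % 3) ∨
      (a.val / 3 = b.val / 3 ∧ a.val / 3 = c.val / 3) ∨
      (a.val % 3 ≠ b.val % 3 ∧ a.val % 3 ≠ c.val % 3 ∧ b.val % 3 ≠ c.val % 3 ∧
        a.val / 3 ≠ b.val / 3 ∧ a.val / 3 ≠ c.val / 3 ∧ b.val / 3 ≠ c.val / 3)) →
    lineMasks.any (fun m => m.testBit a && m.testBit b && m.testBit c) = true := by decide +kernel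

theorem colourClass_card : ∀ k, (colourClass k).card = 18 := by decide +kernel

theorem colourClass_disjoint : ∀ j k, j ≠ k →
    (colourMasks j).all (fun m => (colourMasks k).all fun n =>
      (List.range 9).any fun x => m.testBit x != n.testBit x) = true := by decide +kernel

theorem arcs_coloured : (List.range 512).all (fun m =>
    ((List.range 9).filter fun x => m.testBit x).length != 4
      || lineMasks.any (fun l => (List.range 9).all fun x => !l.testBit x || m.testBit x)
      || (colourMasks 0).contains m || (colourMasks 1).contains m || (colourMasks 2).contains m)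
    = true := by decide +kernel

theorem colour_arc : ∀ k, (colourMasks k).all (fun m =>
    ((List.range 9).filter fun x => m.testBit x).length == 4
      && lineMasks.all (fun l => (List.range 9).any fun x => l.testBit x && !m.testBit x)) = true := by
  decide +kernel

/-- Whether a derivation of a colouring is valid, starting from the coloured sets `known`. -/
def checkSteps : List (ℕ × Fin 3) → List (ℕ × Fin 3 × ℕ × Fin 3 × ℕ × Fin 3) → Bool
  | known, [] => (List.finRange 3).all fun k => (colourMasks k).all fun m => known.contains (m, k)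
  | known, (x, k, y, ky, z, kz) :: rest =>
    known.contains (y, ky) && known.contains (z, kz) && ky != kz && k != ky && k != kz
      && ((List.range 9).filter fun p => x.testBit p && y.testBit p).length == 3
      && ((List.range 9).filter fun p => x.testBit p && z.testBit p).length == 3
      && ((List.range 9).filter fun p => x.testBit p).length == 4
      && lineMasks.all (fun l => (List.range 9).any fun p => l.testBit p && !x.testBit p)
      && checkSteps ((x, k) :: known) rest

theorem checkSteps_ok : checkSteps [(27, 0), (43, 1), (139, 2)] colourSteps = true := by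
  decide +kernel

theorem planeMaps_inv : ∀ i x,
    planeMapsInv i (planeMaps i x) = x ∧ planeMaps i (planeMapsInv i x) = x := by decide +kernel

theorem planeMaps_fix : ∀ i, planeMaps i 0 = 0 ∧ planeMaps i 1 = 1 := by decide +kernel

theorem planeMaps_lines : ∀ i, ∀ m ∈ lineMasks,
    (maskSet m).image (planeMaps i) ∈ lineMasks.map maskSet := by decide +kernel

theorem planeMaps_colour : ∀ i k, ∀ m ∈ colourMasks k,
    (maskSet m).image (planeMaps i) ∈ (colourMasks (colourMaps i k)).map maskSet := by decide +kernel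

theorem colourMaps_all : ∀ π : Equiv.Perm (Fin 3), ∃ i, ∀ k, colourMaps i k = π k := by
  decide +kernel

theorem colourMaps_id : ∀ i, (∀ k, colourMaps i k = k) → ∀ x, planeMaps i x = x := by decide +kernel

theorem planeMaps_three : ∀ x : Fin 9, x ≠ 0 → x ≠ 1 → x ≠ 2 → ∃ i, planeMaps i 3 = x := by
  decide +kernel

/-- Each listed triple `(a, b, c)` is a line, and each third point is generated from `0, 1, 3`. -/
def derivation : List (Fin 9 × Fin 9 × Fin 9) :=
  [(0, 1, 2), (0, 3, 6), (1, 3, 8), (0, 8, 4), (1, 6, 5), (0, 5, 7)]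

theorem derivation_lines : ∀ t ∈ derivation, t.1 ≠ t.2.1 ∧ t.1 ≠ t.2.2 ∧ t.2.1 ≠ t.2.2 ∧
    lineMasks.any (fun m => m.testBit t.1 && m.testBit t.2.1 && m.testBit t.2.2) = true := by
  decide +kernel

end Cfsg.Agent.H10.A3
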