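import Cfsg.Agent.H10.Ext4
import Cfsg.Agent.H10.SteinerParams

/-!
Uniqueness of S(3,6,22), S(4,7,23), S(5,8,24), in the strong form that any `m + 2` points can be sent
to standard ones.
-/

set_option autoImplicit false
set_option linter.unusedSectionVars false

open Finset

namespace Cfsg.Agent.H10

/-- An S(3,6,22) is a one-point extension. -/
theorem isExt_of_22 {α : Type*} [DecidableEq α] [Fintype α] (hα : Fintype.card α = 22)
    {B : Set (Finset α)} (hB : Cfsg.IsSteinerSystem 3 6 B) : IsExt 1 B :=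
  ⟨hB, fun _ hb _ hc => (s22_even hα hB hb hc).add (by decide)⟩

/-- An S(4,7,23) is a two-point extension. -/
theorem isExt_of_23 {α : Type*} [DecidableEq α] [Fintype α] (hα : Fintype.card α = 23)
    {B : Set (Finset α)} (hB : Cfsg.IsSteinerSystem 4 7 B) : IsExt 2 B :=
  ⟨hB, fun _ hb _ hc => (s23_odd hα hB hb hc).add_odd (by decide)⟩

/-- An S(5,8,24) is a three-point extension. -/
theorem isExt_of_24 {α : Type*} [DecidableEq α] [Fintype α] (hα : Fintype.card α = 24)
    {B : Set (Finset α)} (hB : Cfsg.IsSteinerSystem 5 8 B) : IsExt 3 B :=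
  ⟨hB, fun _ hb _ hc => (s24_even hα hB hb hc).add (by decide)⟩

/-- The lines through a point of a plane of order 4 split the other points of a set. -/
theorem sum_lines_through {α : Type*} [DecidableEq α] [Fintype α] {L : Set (Finset α)}
    (hα : Fintype.card α = 21) (hL : Cfsg.IsSteinerSystem 2 5 L) (p : α) (X : Finset α) :
    ∑ l ∈ (blocks L).filter (fun l => {p} ⊆ l), ((l ∩ X).erase p).card = (X.erase p).card := by
  rw [← card_biUnion]
  · congr 1
    ext x
    simp only [mem_biUnion, mem_filter, mem_blocks, singleton_subset_iff, mem_erase, mem_inter]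
    refine ⟨fun ⟨l, _, hx, _, hxX⟩ => ⟨hx, hxX⟩, fun ⟨hxp, hxX⟩ => ?_⟩
    obtain ⟨l, hl, h1, h2⟩ := exists_line hα hL hxp
    exact ⟨l, ⟨hl, h2⟩, hxp, h1, hxX⟩
  · intro l hl m hm hlm
    simp only [coe_filter, mem_blocks, singleton_subset_iff] at hl hm
    rw [Function.onFun, disjoint_left]
    intro x hx hx'
    rw [mem_erase, mem_inter] at hx hx'
    exact hlm (line_unique hα hL hx.1 hl.1 hm.1 hx.2.1 hl.2 hx'.2.1 hm.2)

/-- A nonempty set of at most six points meeting every line evenly is a hyperoval. -/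
theorem hyperoval_of_even {α : Type*} [DecidableEq α] [Fintype α] {L : Set (Finset α)}
    (hα : Fintype.card α = 21) (hL : Cfsg.IsSteinerSystem 2 5 L) {X : Finset α} (h6 : X.card ≤ 6)
    (hne : X.Nonempty) (hev : ∀ l ∈ L, Even (l ∩ X).card) : IsHyperoval L X := by
  have main : ∀ p ∈ X, 6 ≤ X.card ∧ ∀ l ∈ L, p ∈ l → (l ∩ X).card ≤ 2 := by
    intro p hp
    set S := (blocks L).filter (fun l => ({p} : Finset α) ⊆ l) with hS
    have hSc : S.card = 5 := by
      rw [hS, plane_lam hα hL (Y := {p}) (Or.inr (by simp)) {p} subset_rfl]; simp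
    have hsum := sum_lines_through hα hL p X
    rw [← hS, card_erase_of_mem hp] at hsum
    have hval : ∀ l ∈ S, ((l ∩ X).erase p).card + 1 = (l ∩ X).card ∧ 2 ≤ (l ∩ X).card := by
      intro l hl
      rw [hS, mem_filter, mem_blocks, singleton_subset_iff] at hl
      have hpl : p ∈ l ∩ X := mem_inter.2 ⟨hl.2, hp⟩
      obtain ⟨k, hk⟩ := hev l hl.1
      have := card_pos.2 ⟨p, hpl⟩
      exact ⟨card_erase_add_one hpl, by omega⟩
    have hge : ∑ _l ∈ S, 1 ≤ ∑ l ∈ S, ((l ∩ X).erase p).card :=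
      sum_le_sum fun l hl => by have := hval l hl; omega
    rw [sum_const, hSc, smul_eq_mul] at hge
    refine ⟨by omega, fun l hl hpl => ?_⟩
    by_contra hgt
    have hlS : l ∈ S := by rw [hS]; simp [hl, hpl]
    have hlt : ∑ _l ∈ S, 1 < ∑ l ∈ S, ((l ∩ X).erase p).card :=
      sum_lt_sum (fun l' hl' => by have := hval l' hl'; omega)
        ⟨l, hlS, by have := hval l hlS; omega⟩
    rw [sum_const, hSc, smul_eq_mul] at hlt
    omega
  obtain ⟨p, hp⟩ := hne
  refine ⟨le_antisymm h6 (main p hp).1, fun l hl => ?_⟩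
  rcases (l ∩ X).eq_empty_or_nonempty with e | ⟨q, hq⟩
  · simp [e]
  · rw [mem_inter] at hq
    exact (main q hq.2).2 l hl hq.1

variable {m : ℕ}

/-- Blocks of a standard S(4,7,23) missing both extension points are determined. -/
theorem std_mem_two {B B' : Set (Finset (Fin 2 ⊕ Fin 21))} (hB : IsStd B) (hB' : IsStd B')
    {b : Finset (Fin 2 ⊕ Fin 21)} (hb : b ∈ B) (hl : b.toLeft = ∅) : b ∈ B' := by
  have h2 : (1 : ℕ) ≤ 2 := by norm_num
  set D := b.toRight with hD
  have hbD : b = (∅ : Finset (Fin 2)).disjSum D := by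
    conv_lhs => rw [← toLeft_disjSum_toRight (u := b), hl]
  have hDc : D.card = 7 := by
    have := hB.ext'.1.1 b hb
    rw [hbD, card_disjSum, card_empty] at this; omega
  obtain ⟨T, hT, hTc⟩ := exists_subset_card_eq (show 4 ≤ D.card by omega)
  obtain ⟨c, ⟨hc, hTsub⟩, -⟩ := hB'.ext'.1.2 ((∅ : Finset (Fin 2)).disjSum T) (by simp [hTc])
  rw [disjSum_subset_iff] at hTsub
  have htle : (∅ : Finset (Fin 2)).disjSum T ⊆ b := by
    rw [hbD]; exact disjSum_subset_iff.2 ⟨by simp, by rw [toRight_disjSum]; exact hT⟩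
  rcases Nat.eq_zero_or_pos c.toLeft.card with hc0 | hc0
  swap
  · have hcB : c ∈ B := std_mem_of_left h2 hB' (by norm_num) hB hc (by omega)
    have := block_unique hB.ext'.1 hb hcB (s := (∅ : Finset (Fin 2)).disjSum T) (by simp [hTc]) htle
      (disjSum_subset_iff.2 hTsub)
    rw [← this, hl, card_empty] at hc0; omega
  rw [card_eq_zero] at hc0
  set E := c.toRight with hE
  have hcE : c = (∅ : Finset (Fin 2)).disjSum E := by
    conv_lhs => rw [← toLeft_disjSum_toRight (u := c), hc0]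
  have hEc : E.card = 7 := by
    have := hB'.ext'.1.1 c hc
    rw [hcE, card_disjSum, card_empty] at this; omega
  rcases eq_or_ne D E with heq | hne
  · rw [hbD, heq, ← hcE]; exact hc
  exfalso
  have h4 : 4 ≤ (D ∩ E).card := hTc ▸ card_le_card (subset_inter hT hTsub.2)
  have hX6 : (symmDiff D E).card ≤ 6 := by
    have := card_symmDiff_add D E; omega
  have hXne : (symmDiff D E).Nonempty := by
    rw [nonempty_iff_ne_empty, ← bot_eq_empty, Ne, symmDiff_eq_bot]; exact hne
  -- parity of the traces of `D` and `E` on a set coming from a block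
  have par : ∀ (S : Finset (Fin 2)) (l : Finset (Fin 21)), S.disjSum l ∈ B → S.disjSum l ∈ B' →
      Even (l ∩ symmDiff D E).card := by
    intro S l hl1 hl2
    have e1 := hB.ext'.2 _ hl1 _ (hbD ▸ hb)
    have e2 := hB'.ext'.2 _ hl2 _ (hcE ▸ hc)
    rw [disjSum_inter, card_disjSum, inter_empty, card_empty, zero_add] at e1 e2
    have := card_inter_symmDiff l D E
    obtain ⟨u, hu⟩ := e1
    obtain ⟨v, hv⟩ := e2
    exact ⟨u + v - 3 - (l ∩ D ∩ E).card, by omega⟩
  have hhyp : IsHyperoval P4.modelLines (symmDiff D E) :=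
    hyperoval_of_even (by simp) modelLines_steiner hX6 hXne fun l hl =>
      par univ l (show l ∈ planeSys B from hB.lines ▸ hl) (show l ∈ planeSys B' from hB'.lines ▸ hl)
  have hin : ∀ i : Fin 2, symmDiff D E ∈ cls B i := by
    intro i
    obtain ⟨H, hH⟩ := card_pos.1 (show 0 < (cls B i).card by rw [card_cls h2 hB.ext']; norm_num)
    rw [cls_eq_evenClass h2 hB hH, mem_evenClass, inter_comm]
    refine ⟨hhyp, par (univ.erase i) H (mem_cls.1 hH) (mem_cls.1 ?_)⟩
    rw [← std_cls_eq h2 hB (by norm_num) hB']; exact hH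
  exact disjoint_left.1 (cls_disjoint h2 hB.ext' (show (0 : Fin 2) ≠ 1 by decide)) (hin 0) (hin 1)

/-- Blocks of a standard S(5,8,24) with at most one extension point are determined. -/
theorem std_mem_three {B B' : Set (Finset (Fin 3 ⊕ Fin 21))} (hB : IsStd B) (hB' : IsStd B')
    {b : Finset (Fin 3 ⊕ Fin 21)} (hb : b ∈ B) (hl : b.toLeft.card ≤ 1) : b ∈ B' := by
  have h3 : (1 : ℕ) ≤ 3 := by norm_num
  have hP := planeSys_steiner h3 hB.ext'
  set D := b.toRight with hD
  set i := b.toLeft.card with hi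
  have hDc : i + D.card = 8 := by rw [hi, hD, card_toLeft_add_card_toRight]; exact hB.ext'.1.1 b hb
  obtain ⟨p, hp⟩ := card_pos.1 (show 0 < D.card by omega)
  set S := (blocks (planeSys B)).filter (fun l => ({p} : Finset (Fin 21)) ⊆ l) with hS
  have hSc : S.card = 5 := by
    rw [hS, plane_lam (by simp) hP (Y := {p}) (Or.inr (by simp)) {p} subset_rfl]; simp
  have hsum := sum_lines_through (by simp) hP p D
  rw [← hS, card_erase_of_mem hp] at hsum
  have hval : ∀ l ∈ S, (univ : Finset (Fin 3)).disjSum l ∈ B ∧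
      ((l ∩ D).erase p).card + 1 = (l ∩ D).card ∧
      (b ∩ (univ : Finset (Fin 3)).disjSum l).card = i + (l ∩ D).card ∧
      (i + (l ∩ D).card = 2 ∨ i + (l ∩ D).card = 4) := by
    intro l hl
    rw [hS, mem_filter, mem_blocks, singleton_subset_iff] at hl
    have hpl : p ∈ l ∩ D := mem_inter.2 ⟨hl.2, hp⟩
    have hcard : (b ∩ (univ : Finset (Fin 3)).disjSum l).card = i + (l ∩ D).card := by
      conv_lhs => rw [← toLeft_disjSum_toRight (u := b)]
      rw [disjSum_inter, card_disjSum, inter_univ, ← hi, ← hD, inter_comm D]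
    refine ⟨hl.1, card_erase_add_one hpl, hcard, ?_⟩
    have hne : b ≠ (univ : Finset (Fin 3)).disjSum l := fun e => by
      rw [e, toLeft_disjSum] at hi
      simp at hi; omega
    have hpos := card_pos.2 ⟨p, hpl⟩
    rcases s24_inter (by simp) hB.ext'.1 hb hl.1 hne with e | e | e <;> omega
  obtain ⟨l, hl, hl4⟩ : ∃ l ∈ S, i + (l ∩ D).card = 4 := by
    by_contra hcon
    have h2 : ∀ l ∈ S, ((l ∩ D).erase p).card = 1 - i := fun l hl => by
      obtain ⟨-, h1, -, h | h⟩ := hval l hl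
      · omega
      · exact absurd ⟨l, hl, h⟩ hcon
    rw [sum_congr rfl h2, sum_const, hSc, smul_eq_mul] at hsum
    omega
  obtain ⟨hL, -, hcard, -⟩ := hval l hl
  set Lb := (univ : Finset (Fin 3)).disjSum l with hLb
  have hc : symmDiff b Lb ∈ B := s24_symmDiff (by simp) hB.ext'.1 hb hL (by omega)
  have hleft : (symmDiff b Lb).toLeft = b.toLeftᶜ := by
    ext x
    simp [hLb, mem_symmDiff]
  have hc' : symmDiff b Lb ∈ B' := std_mem_of_left h3 hB (by norm_num) hB' hc
    (by rw [hleft, card_compl, Fintype.card_fin]; omega)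
  have hL' : Lb ∈ B' := std_mem_of_left h3 hB (by norm_num) hB' hL (by simp [hLb])
  have h4 : (symmDiff b Lb ∩ Lb).card = 4 := by
    have := card_inter_symmDiff Lb b Lb
    rw [inter_self, hB.ext'.1.1 _ hL, inter_comm Lb b, hcard, inter_assoc, inter_self, hcard,
      inter_comm Lb] at this
    omega
  have := s24_symmDiff (by simp) hB'.ext'.1 hc' hL' h4
  rwa [symmDiff_symmDiff_cancel_right] at this

/-- Two systems in standard position are equal. -/
theorem std_eq (hm1 : 1 ≤ m) (hm3 : m ≤ 3) {B B' : Set (Finset (Fin m ⊕ Fin 21))}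
    (hB : IsStd B) (hB' : IsStd B') : B = B' := by
  refine steiner_eq_of_subset (by omega) hB.ext'.1 hB'.ext'.1 fun b hb => ?_
  by_cases h : m ≤ b.toLeft.card + 1
  · exact std_mem_of_left hm1 hB hm3 hB' hb h
  interval_cases m
  · omega
  · exact std_mem_two hB hB' hb (card_eq_zero.1 (by omega))
  · exact std_mem_three hB hB' hb (by omega)

/-- Moving an extension into standard position, with two given points of the plane fixed. -/
theorem exists_std_position (hm1 : 1 ≤ m) {B : Set (Finset (Fin m ⊕ Fin 21))} (hB : IsExt m B)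
    {p q : Fin 21} (hpq : p ≠ q) :
    ∃ g : Equiv.Perm (Fin 21), IsStd (imgSys ((Equiv.refl (Fin m)).sumCongr g) B) ∧
      g p = P4.ovalPt 0 ∧ g q = P4.ovalPt 1 := by
  have hP := planeSys_steiner hm1 hB
  let i0 : Fin m := ⟨0, hm1⟩
  obtain ⟨H, hH, hp, hq⟩ := exists_cls_through hm1 hB i0 hpq
  have hHh : IsHyperoval (planeSys B) H := cls_hyperoval hm1 hB hH
  obtain ⟨σ₀⟩ := exists_label_equiv (by simp) hP hHh
  let σ₁ := σ₀.trans (Equiv.swap (σ₀ ⟨p, hp⟩) 0)
  let σ := σ₁.trans (Equiv.swap (σ₁ ⟨q, hq⟩) 1)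
  have hσp : σ ⟨p, hp⟩ = 0 := by
    have h1 : σ₁ ⟨p, hp⟩ = 0 := by simp [σ₁]
    have h2 : σ₁ ⟨q, hq⟩ ≠ 0 := fun e => hpq (congrArg Subtype.val (σ₁.injective (h1.trans e.symm)))
    show Equiv.swap (σ₁ ⟨q, hq⟩) 1 (σ₁ ⟨p, hp⟩) = 0
    rw [h1, Equiv.swap_apply_of_ne_of_ne h2.symm (by decide)]
  have hσq : σ ⟨q, hq⟩ = 1 := by simp [σ]
  obtain ⟨g, hg, hgσ⟩ := exists_coord (by simp) hP hHh σ
  set B1 := imgSys ((Equiv.refl (Fin m)).sumCongr g) B with hB1
  have hE1 : IsExt m B1 := hB.image _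
  have hl1 : planeSys B1 = P4.modelLines := by rw [hB1, planeSys_image, hg]
  have himg : H.image g = P4.oval0 := by
    ext x
    simp only [mem_image, P4.oval0, mem_univ, true_and]
    constructor
    · rintro ⟨y, hy, rfl⟩; exact ⟨σ ⟨y, hy⟩, (hgσ ⟨y, hy⟩).symm⟩
    · rintro ⟨a, rfl⟩
      exact ⟨σ.symm a, (σ.symm a).2, by rw [hgσ, Equiv.apply_symm_apply]⟩
  have h0 : ∀ i : Fin m, (i : ℕ) = 0 → P4.oval0 ∈ cls B1 i := by
    intro i hi
    rw [show i = i0 from Fin.ext hi, hB1, mem_cls_image, ← himg]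
    simpa [image_image] using hH
  have hgp : g p = P4.ovalPt 0 := by rw [show p = ((⟨p, hp⟩ : ↥H) : Fin 21) from rfl, hgσ, hσp]
  have hgq : g q = P4.ovalPt 1 := by rw [show q = ((⟨q, hq⟩ : ↥H) : Fin 21) from rfl, hgσ, hσq]
  rcases (show m = 1 ∨ 2 ≤ m by omega) with rfl | hm2
  · exact ⟨g, ⟨hE1, hl1, h0, fun i hi => absurd i.isLt (by omega)⟩, hgp, hgq⟩
  let i1 : Fin m := ⟨1, hm2⟩
  have hev1 : ∀ i, ∀ D ∈ cls B1 i, D.card = 6 ∧ IsArc P4.modelLines D :=
    fun i D hD => hl1 ▸ cls_hyperoval hm1 hE1 hD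
  have hc0 : cls B1 i0 = evenClass P4.modelLines P4.oval0 :=
    eq_evenClass (by simp) modelLines_steiner (hev1 i0) (card_cls hm1 hE1 i0)
      (fun _ hD _ hD' => cls_even hm1 hE1 hD hD') (h0 i0 rfl)
  have hout : ∀ R : Finset (Fin 21), Odd (R ∩ P4.oval0).card → R ∉ cls B1 i0 := by
    intro R hR hmem
    rw [hc0, mem_evenClass] at hmem
    exact Nat.not_even_iff_odd.2 hR hmem.2
  have hsw : IsHyperoval P4.modelLines (P4.oval1.image P4.swap45) := by
    have h := P4.oval1_hyperoval.2.image P4.swap45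
    rw [mem_setSystemAut_iff.1 P4.swap45_mem] at h
    exact ⟨by rw [card_image_of_injective _ P4.swap45.injective, P4.oval1_hyperoval.1], h⟩
  have hor : P4.oval1 ∈ cls B1 i1 ∨ P4.oval1.image P4.swap45 ∈ cls B1 i1 := by
    by_contra h
    rw [not_or] at h
    refine Nat.not_even_iff_odd.2 P4.odd_swap_oval1 ?_
    rw [inter_comm]
    exact third_class_even (by simp) modelLines_steiner (hev1 i0) (hev1 i1) (card_cls hm1 hE1 i0)
      (card_cls hm1 hE1 i1) (fun _ hD _ hD' => cls_even hm1 hE1 hD hD')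
      (fun _ hD _ hD' => cls_even hm1 hE1 hD hD')
      (cls_disjoint hm1 hE1 (fun e => by simpa [i0, i1] using congrArg Fin.val e))
      P4.oval1_hyperoval hsw (hout _ P4.odd_oval1_oval0) h.1 (hout _ P4.odd_swap_oval0) h.2
  rcases hor with h | h
  · exact ⟨g, ⟨hE1, hl1, h0, fun i hi => (show i = i1 from Fin.ext hi) ▸ h⟩, hgp, hgq⟩
  · have hcomp : imgSys ((Equiv.refl (Fin m)).sumCongr (g.trans P4.swap45)) B
        = imgSys ((Equiv.refl (Fin m)).sumCongr P4.swap45) B1 := by
      rw [hB1, ← imgSys_trans]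
      congr 1
      ext x; cases x <;> simp
    have hinv : P4.swap45.symm = P4.swap45 := rfl
    refine ⟨g.trans P4.swap45, ?_, ?_, ?_⟩
    · rw [hcomp]
      refine ⟨hE1.image _, by rw [planeSys_image, hl1, mem_setSystemAut_iff.1 P4.swap45_mem],
        fun i hi => ?_, fun i hi => ?_⟩
      · rw [mem_cls_image, hinv, P4.swap45_oval0]; exact h0 i hi
      · rw [mem_cls_image, hinv, show i = i1 from Fin.ext hi]; exact h
    · rw [Equiv.trans_apply, hgp]; exact P4.swap45_fix 0 (by decide)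
    · rw [Equiv.trans_apply, hgq]; exact P4.swap45_fix 1 (by decide)

/-- The standard tuple: the extension points, then two points of the hyperoval. -/
def stdTuple (m : ℕ) (i : Fin (m + 2)) : Fin m ⊕ Fin 21 :=
  if h : (i : ℕ) < m then Sum.inl ⟨i, h⟩
  else Sum.inr (P4.ovalPt ⟨i - m, by omega⟩)

variable {α : Type*} [DecidableEq α] [Fintype α]

/-- A bijection with prescribed values on an embedded family. -/
theorem exists_equiv_extend (hα : Fintype.card α = m + 21) (x : Fin m ↪ α) :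
    ∃ f : α ≃ Fin m ⊕ Fin 21, ∀ i, f (x i) = Sum.inl i := by
  classical
  have hc : Fintype.card {a : α // a ∉ Set.range x} = 21 := by
    rw [Fintype.card_of_subtype ((univ.map x)ᶜ) (fun a => by simp), card_compl, card_map, hα,
      card_univ, Fintype.card_fin]
    omega
  refine ⟨(Equiv.sumCompl (fun a => a ∈ Set.range x)).symm.trans
    ((Equiv.ofInjective x x.injective).symm.sumCongr (Fintype.equivFinOfCardEq hc)), fun i => ?_⟩
  rw [Equiv.trans_apply, Equiv.sumCompl_symm_apply_of_pos (by simp)]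
  simp [Equiv.sumCongr_apply]

/-- Any `m + 2` points of an extension go to the standard ones in standard position. -/
theorem exists_std (hm1 : 1 ≤ m) (hα : Fintype.card α = m + 21) {B : Set (Finset α)}
    (hB : IsExt m B) (x : Fin (m + 2) ↪ α) :
    ∃ e : α ≃ Fin m ⊕ Fin 21, IsStd (imgSys e B) ∧ ∀ i, e (x i) = stdTuple m i := by
  obtain ⟨f, hf⟩ := exists_equiv_extend hα ((Fin.castAddEmb 2).trans x)
  have hr : ∀ j : Fin 2, ∃ p, f (x (Fin.natAdd m j)) = Sum.inr p := by
    intro j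
    rcases hfx : f (x (Fin.natAdd m j)) with i | p
    · exfalso
      have h2 := x.injective (f.injective (hfx.trans (hf i).symm))
      have := congrArg Fin.val h2
      simp at this
      omega
    · exact ⟨p, rfl⟩
  obtain ⟨p, hp⟩ := hr 0
  obtain ⟨q, hq⟩ := hr 1
  have hpq : p ≠ q := fun e => by
    have := x.injective (f.injective (hp.trans ((congrArg Sum.inr e).trans hq.symm)))
    simp [Fin.ext_iff] at this
  obtain ⟨g, hg, hgp, hgq⟩ := exists_std_position hm1 (hB.image f) hpq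
  refine ⟨f.trans ((Equiv.refl _).sumCongr g), by rw [imgSys_trans]; exact hg, fun i => ?_⟩
  by_cases hi : (i : ℕ) < m
  · have h := hf ⟨i, hi⟩
    rw [show ((Fin.castAddEmb 2).trans x) ⟨i, hi⟩ = x i from congrArg x (Fin.ext rfl)] at h
    simp [stdTuple, hi, h]
  · rcases (by omega : (i : ℕ) = m ∨ (i : ℕ) = m + 1) with h | h
    · rw [show i = Fin.natAdd m (0 : Fin 2) from Fin.ext (by simp [h])]
      simp [stdTuple, hp, hgp]
    · rw [show i = Fin.natAdd m (1 : Fin 2) from Fin.ext (by simp [h])]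
      simp [stdTuple, hq, hgq]

/-- An extension has an isomorphism with a standard one. -/
theorem exists_std' (hm1 : 1 ≤ m) (hα : Fintype.card α = m + 21) {B : Set (Finset α)}
    (hB : IsExt m B) : ∃ e : α ≃ Fin m ⊕ Fin 21, IsStd (imgSys e B) := by
  obtain ⟨x⟩ : Nonempty (Fin (m + 2) ↪ α) := Function.Embedding.nonempty_of_card_le (by simp [hα])
  obtain ⟨e, he, -⟩ := exists_std hm1 hα hB x
  exact ⟨e, he⟩

/-- Two extensions of the same kind are isomorphic. -/
theorem ext_iso {β : Type*} [DecidableEq β] [Fintype β] (hm1 : 1 ≤ m) (hm3 : m ≤ 3)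
    (hα : Fintype.card α = m + 21) (hβ : Fintype.card β = m + 21) {B : Set (Finset α)}
    {B' : Set (Finset β)} (hB : IsExt m B) (hB' : IsExt m B') : Cfsg.SetSystemIso B B' := by
  obtain ⟨e, he⟩ := exists_std' hm1 hα hB
  obtain ⟨f, hf⟩ := exists_std' hm1 hβ hB'
  exact setSystemIso_iff.2 ⟨e.trans f.symm,
    by rw [imgSys_trans, std_eq hm1 hm3 he hf, imgSys_symm_eq rfl]⟩

end Cfsg.Agent.H10
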