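import Cfsg.Agent.H10.AG23
import Cfsg.Agent.H10.Ext4Unique

/-!
The Steiner system S(5,6,12) as a three-point extension of the affine plane of order 3.
-/

set_option autoImplicit false
set_option linter.unusedSectionVars false

open Finset MulAction

namespace Cfsg.Agent.H10

/-- The lines: plane parts of the blocks through the three extension points. -/
def planeSys9 (B : Set (Finset (Fin 3 ⊕ Fin 9))) : Set (Finset (Fin 9)) :=
  {D | (univ : Finset (Fin 3)).disjSum D ∈ B}

/-- Plane parts of the blocks through exactly the two extension points other than `i`. -/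
noncomputable def cls9 (B : Set (Finset (Fin 3 ⊕ Fin 9))) (i : Fin 3) : Finset (Finset (Fin 9)) := by
  classical
  exact univ.filter fun D => (univ.erase i).disjSum D ∈ B

/-- Membership in `cls9`. -/
@[simp] theorem mem_cls9 {B : Set (Finset (Fin 3 ⊕ Fin 9))} {i : Fin 3} {D : Finset (Fin 9)} :
    D ∈ cls9 B i ↔ (univ.erase i).disjSum D ∈ B := by
  classical
  simp [cls9]

/-- An S(5,6,12) in standard position. -/
structure IsStd9 (B : Set (Finset (Fin 3 ⊕ Fin 9))) : Prop where
  steiner : Cfsg.IsSteinerSystem 5 6 B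
  lines : planeSys9 B = A3.modelLines
  classes : ∀ i, cls9 B i = A3.colourClass i

/-- Coordinate changes in the plane act on each kind of block separately. -/
theorem disjSum_mem_imgSys9 {B : Set (Finset (Fin 3 ⊕ Fin 9))} {g : Equiv.Perm (Fin 9)}
    {S : Finset (Fin 3)} {D : Finset (Fin 9)} :
    S.disjSum D ∈ imgSys ((Equiv.refl (Fin 3)).sumCongr g) B ↔ S.disjSum (D.image g.symm) ∈ B := by
  rw [mem_imgSys]
  have : ((Equiv.refl (Fin 3)).sumCongr g).symm = (Equiv.refl (Fin 3)).sumCongr g.symm := by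
    ext x; cases x <;> simp
  rw [this, disjSum_image]

/-- The lines after a coordinate change. -/
theorem planeSys9_image (B : Set (Finset (Fin 3 ⊕ Fin 9))) (g : Equiv.Perm (Fin 9)) :
    planeSys9 (imgSys ((Equiv.refl (Fin 3)).sumCongr g) B) = imgSys g (planeSys9 B) := by
  ext D
  rw [mem_imgSys]
  exact disjSum_mem_imgSys9

/-- The classes after a coordinate change. -/
theorem cls9_image (B : Set (Finset (Fin 3 ⊕ Fin 9))) (g : Equiv.Perm (Fin 9)) (i : Fin 3) :
    cls9 (imgSys ((Equiv.refl (Fin 3)).sumCongr g) B) i = (cls9 B i).image (Finset.image g) := by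
  ext D
  rw [mem_cls9, disjSum_mem_imgSys9, mem_image]
  constructor
  · exact fun h => ⟨_, mem_cls9.2 h, by simp [image_image]⟩
  · rintro ⟨D', hD', rfl⟩
    simpa [image_image] using hD'

section Ext
variable {B : Set (Finset (Fin 3 ⊕ Fin 9))} (hB : Cfsg.IsSteinerSystem 5 6 B)
include hB

/-- The lines form an S(2,3,9). -/
theorem planeSys9_steiner : Cfsg.IsSteinerSystem 2 3 (planeSys9 B) := by
  constructor
  · intro D hD
    have := hB.1 _ hD
    simp only [card_disjSum, card_univ, Fintype.card_fin] at this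
    omega
  · intro s hs
    obtain ⟨b, ⟨hb, hsb⟩, hu⟩ := hB.2 ((univ : Finset (Fin 3)).disjSum s) (by simp [hs])
    rw [disjSum_subset_iff] at hsb
    have he : b = (univ : Finset (Fin 3)).disjSum b.toRight := by
      conv_lhs => rw [← toLeft_disjSum_toRight (u := b)]
      rw [eq_univ_of_forall fun x => hsb.1 (mem_univ x)]
    refine ⟨b.toRight, ⟨?_, hsb.2⟩, ?_⟩
    · show _ ∈ B; rw [← he]; exact hb
    · rintro D ⟨hD, hsD⟩
      have hD' := hu ((univ : Finset (Fin 3)).disjSum D)
        ⟨hD, disjSum_subset_iff.2 ⟨by simp, by rw [toRight_disjSum]; exact hsD⟩⟩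
      rw [← hD', toRight_disjSum]

/-- Class members are four-point sets without a line. -/
theorem cls9_arc {i : Fin 3} {D : Finset (Fin 9)} (hD : D ∈ cls9 B i) :
    D.card = 4 ∧ ∀ l ∈ planeSys9 B, ¬ l ⊆ D := by
  rw [mem_cls9] at hD
  have hc := hB.1 _ hD
  simp only [card_disjSum, card_erase_of_mem (mem_univ i), card_univ, Fintype.card_fin] at hc
  refine ⟨by omega, fun l hl hlD => ?_⟩
  have hne : (univ : Finset (Fin 3)).disjSum l ≠ (univ.erase i).disjSum D := fun e => by
    have : Sum.inl i ∈ (univ.erase i).disjSum D := e ▸ inl_mem_disjSum.2 (mem_univ i)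
    simp at this
  have hlt := block_inter_lt hB hl hD hne
  rw [disjSum_inter, card_disjSum, univ_inter, inter_eq_left.2 hlD,
    (planeSys9_steiner hB).1 l hl, card_erase_of_mem (mem_univ i), card_univ, Fintype.card_fin] at hlt
  omega

/-- Different classes are disjoint. -/
theorem cls9_disjoint {i j : Fin 3} (hij : i ≠ j) : Disjoint (cls9 B i) (cls9 B j) := by
  rw [disjoint_left]
  intro D hD hD'
  have h4 := (cls9_arc hB hD).1
  rw [mem_cls9] at hD hD'
  have hne : (univ.erase i).disjSum D ≠ (univ.erase j).disjSum D := fun e => by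
    have h : Sum.inl i ∈ (univ.erase j).disjSum D := inl_mem_disjSum.2 (by simp [hij])
    rw [← e] at h; simp at h
  have hlt := block_inter_lt hB hD hD' hne
  rw [disjSum_inter, card_disjSum, inter_self, h4, erase_inter, univ_inter,
    card_erase_of_mem (by simp [hij]), card_erase_of_mem (mem_univ j), card_univ,
    Fintype.card_fin] at hlt
  omega

/-- Two members of one class share at most two points. -/
theorem cls9_share {i : Fin 3} {D D' : Finset (Fin 9)} (hD : D ∈ cls9 B i) (hD' : D' ∈ cls9 B i)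
    (h3 : 3 ≤ (D ∩ D').card) : D = D' := by
  rw [mem_cls9] at hD hD'
  have e := block_eq_of_inter hB hD hD' (by
    rw [disjSum_inter, card_disjSum, inter_self, card_erase_of_mem (mem_univ i), card_univ,
      Fintype.card_fin]
    omega)
  simpa using congrArg Finset.toRight e

/-- Each class has 18 members. -/
theorem card_cls9 (i : Fin 3) : (cls9 B i).card = 18 := by
  set s := (univ.erase i).disjSum (∅ : Finset (Fin 9)) with hs
  have hsc : s.card = 2 := by simp [hs]
  have h30 := s12_lam (by simp) hB (Y := s) (Or.inr (by omega)) s subset_rfl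
  rw [hsc] at h30
  set u := (univ : Finset (Fin 3)).disjSum (∅ : Finset (Fin 9)) with hu
  have huc : u.card = 3 := by simp [hu]
  have h12 := s12_lam (by simp) hB (Y := u) (Or.inr (by omega)) u subset_rfl
  rw [huc] at h12
  have hsplit := card_filter_add_card_filter_not (s := (blocks B).filter (fun b => s ⊆ b))
    (p := fun b => i ∈ b.toLeft)
  have e1 : ((blocks B).filter (fun b => s ⊆ b)).filter (fun b => i ∈ b.toLeft)
      = (blocks B).filter (fun b => u ⊆ b) := by
    ext b
    simp only [mem_filter, hs, hu, disjSum_subset_iff, empty_subset, and_true]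
    exact ⟨fun h => ⟨h.1.1, insert_erase (mem_univ i) ▸ insert_subset h.2 h.1.2⟩,
      fun h => ⟨⟨h.1, (erase_subset _ _).trans h.2⟩, h.2 (mem_univ i)⟩⟩
  have e2 : (((blocks B).filter (fun b => s ⊆ b)).filter (fun b => ¬ i ∈ b.toLeft)).card
      = (cls9 B i).card := by
    have key : ∀ b : Finset (Fin 3 ⊕ Fin 9), univ.erase i ⊆ b.toLeft → i ∉ b.toLeft →
        b.toLeft = univ.erase i := fun b h1 h2 =>
      subset_antisymm (fun x hx => mem_erase.2 ⟨fun e : x = i => h2 (e ▸ hx), mem_univ x⟩) h1
    refine card_bij' (fun b _ => b.toRight) (fun D _ => (univ.erase i).disjSum D) ?_ ?_ ?_ ?_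
    · intro b hb
      simp only [mem_filter, mem_blocks, hs, disjSum_subset_iff, mem_cls9] at hb ⊢
      rw [← key b hb.1.2.1 hb.2, toLeft_disjSum_toRight]
      exact hb.1.1
    · intro D hD
      simp only [mem_filter, mem_blocks, hs, disjSum_subset_iff, toLeft_disjSum,
        toRight_disjSum, mem_cls9] at hD ⊢
      exact ⟨⟨hD, subset_rfl, empty_subset _⟩, notMem_erase i _⟩
    · intro b hb
      simp only [mem_filter, hs, disjSum_subset_iff] at hb
      rw [← key b hb.1.2.1 hb.2, toLeft_disjSum_toRight]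
    · intro D hD; simp
  rw [e1, e2, h30, h12] at hsplit
  simp [lam12] at hsplit
  omega

end Ext

/-- A model colour class member has a mask. -/
theorem mem_colourClass {k : Fin 3} {D : Finset (Fin 9)} :
    D ∈ A3.colourClass k ↔ ∃ m ∈ A3.colourMasks k, A3.maskSet m = D := by
  simp [A3.colourClass]

/-- Distinct colours are disjoint. -/
theorem colourClass_disjoint {j k : Fin 3} (h : j ≠ k) :
    Disjoint (A3.colourClass j) (A3.colourClass k) := by
  rw [disjoint_left]
  intro D hj hk
  obtain ⟨m, hm, rfl⟩ := mem_colourClass.1 hj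
  obtain ⟨n, hn, he⟩ := mem_colourClass.1 hk
  obtain ⟨x, hx, hne⟩ := List.any_eq_true.1
    (List.all_eq_true.1 (List.all_eq_true.1 (A3.colourClass_disjoint j k h) m hm) n hn)
  rw [List.mem_range] at hx
  have := congrArg (fun S => decide ((⟨x, hx⟩ : Fin 9) ∈ S)) he
  simp [A3.maskSet] at this
  rw [this] at hne
  simp at hne

/-- A four-point set without a line is coloured. -/
theorem exists_colour {D : Finset (Fin 9)} (h4 : D.card = 4)
    (hl : ∀ l ∈ A3.modelLines, ¬ l ⊆ D) : ∃ k, D ∈ A3.colourClass k := by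
  obtain ⟨m, hm, rfl⟩ := A3.exists_mask D
  have h := List.all_eq_true.1 A3.arcs_coloured m (List.mem_range.2 hm)
  simp only [Bool.or_eq_true, bne_iff_ne, ne_eq, List.contains_iff_mem] at h
  rcases h with (((h | h) | h) | h) | h
  · rw [A3.maskSet, A3.card_maskSet m.testBit] at h4
    exact absurd h4 h
  · obtain ⟨l, hlm, hsub⟩ := List.any_eq_true.1 h
    refine absurd (fun x hx => ?_) (hl _ ⟨l, hlm, rfl⟩)
    have := List.all_eq_true.1 hsub x.val (List.mem_range.2 x.isLt)
    rw [A3.mem_maskSet] at hx ⊢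
    simpa [hx] using this
  · exact ⟨0, mem_colourClass.2 ⟨m, h, rfl⟩⟩
  · exact ⟨1, mem_colourClass.2 ⟨m, h, rfl⟩⟩
  · exact ⟨2, mem_colourClass.2 ⟨m, h, rfl⟩⟩

/-- With standard lines, every coloured set is in some class. -/
theorem cls9_cover {B : Set (Finset (Fin 3 ⊕ Fin 9))} (hB : Cfsg.IsSteinerSystem 5 6 B)
    (hl : planeSys9 B = A3.modelLines) {k : Fin 3} {D : Finset (Fin 9)}
    (hD : D ∈ A3.colourClass k) : ∃ i, D ∈ cls9 B i := by
  have hsub : univ.biUnion (cls9 B) ⊆ univ.biUnion A3.colourClass := by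
    intro E hE
    obtain ⟨i, -, hi⟩ := mem_biUnion.1 hE
    obtain ⟨j, hj⟩ := exists_colour (cls9_arc hB hi).1 (hl ▸ (cls9_arc hB hi).2)
    exact mem_biUnion.2 ⟨j, mem_univ j, hj⟩
  have he := eq_of_subset_of_card_le hsub (by
    rw [card_biUnion (fun i _ j _ h => cls9_disjoint hB h),
      card_biUnion (fun i _ j _ h => colourClass_disjoint h),
      sum_congr rfl (fun i _ => card_cls9 hB i), sum_congr rfl (fun i _ => A3.colourClass_card i)])
  obtain ⟨i, -, hi⟩ := mem_biUnion.1 (he.symm ▸ mem_biUnion.2 ⟨k, mem_univ k, hD⟩)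
  exact ⟨i, hi⟩

/-- A valid derivation propagates the classes of the coloured sets. -/
theorem checkSteps_sound {B : Set (Finset (Fin 3 ⊕ Fin 9))} (hB : Cfsg.IsSteinerSystem 5 6 B)
    (hl : planeSys9 B = A3.modelLines) (π : Equiv.Perm (Fin 3)) :
    ∀ (steps : List (ℕ × Fin 3 × ℕ × Fin 3 × ℕ × Fin 3)) (known : List (ℕ × Fin 3)),
      A3.checkSteps known steps = true →
      (∀ p ∈ known, A3.maskSet p.1 ∈ cls9 B (π p.2)) →
      ∀ k, A3.colourClass k ⊆ cls9 B (π k) := by
  intro steps
  induction steps with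
  | nil =>
    intro known h hk k D hD
    obtain ⟨m, hm, rfl⟩ := mem_colourClass.1 hD
    rw [A3.checkSteps] at h
    have := List.all_eq_true.1 (List.all_eq_true.1 h k (List.mem_finRange k)) m hm
    exact hk (m, k) (List.contains_iff_mem.1 this)
  | cons s rest ih =>
    obtain ⟨x, k₀, y, ky, z, kz⟩ := s
    intro known h hk
    rw [A3.checkSteps] at h
    simp only [Bool.and_eq_true, bne_iff_ne, ne_eq, beq_iff_eq, List.contains_iff_mem] at h
    obtain ⟨⟨⟨⟨⟨⟨⟨⟨⟨hy, hz⟩, hyz⟩, hky⟩, hkz⟩, hxy⟩, hxz⟩, hx4⟩, harc⟩, hrest⟩ := h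
    refine ih _ hrest fun p hp => ?_
    rcases List.mem_cons.1 hp with rfl | hp
    swap
    · exact hk p hp
    show A3.maskSet x ∈ cls9 B (π k₀)
    have h4 : (A3.maskSet x).card = 4 := by rw [A3.maskSet, A3.card_maskSet x.testBit]; exact hx4
    have hnl : ∀ l ∈ A3.modelLines, ¬ l ⊆ A3.maskSet x := by
      rintro _ ⟨m, hm, rfl⟩ hsub
      obtain ⟨p, hp, hpb⟩ := List.any_eq_true.1 (List.all_eq_true.1 harc m hm)
      rw [List.mem_range] at hp
      simp only [Bool.and_eq_true, Bool.not_eq_true'] at hpb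
      have := A3.mem_maskSet.1 (hsub (A3.mem_maskSet.2 (show m.testBit (⟨p, hp⟩ : Fin 9).val = true
        from hpb.1)))
      simp [hpb.2] at this
    obtain ⟨j, hj⟩ := exists_colour h4 hnl
    obtain ⟨i, hi⟩ := cls9_cover hB hl hj
    have hne : ∀ w kw, (w, kw) ∈ known →
        ((List.range 9).filter fun p => x.testBit p && w.testBit p).length = 3 → i ≠ π kw := by
      intro w kw hw hxw e
      have hc : (A3.maskSet x ∩ A3.maskSet w).card = 3 := by
        rw [A3.maskSet, A3.maskSet, ← filter_and]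
        have := A3.card_maskSet fun p => x.testBit p && w.testBit p
        simp only [Bool.and_eq_true] at this
        rw [this, hxw]
      have heq := cls9_share hB hi (e ▸ hk (w, kw) hw) hc.ge
      rw [← heq, inter_self] at hc
      omega
    have h1 := hne y ky hy hxy
    have h2 := hne z kz hz hxz
    obtain ⟨k', rfl⟩ := π.surjective i
    have h1' : k' ≠ ky := fun e => h1 (e ▸ rfl)
    have h2' : k' ≠ kz := fun e => h2 (e ▸ rfl)
    have : k' = k₀ := by
      omega
    exact this ▸ hi

/-- The permutation of `Fin 9` given by a table. -/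
def planePerm (i : Fin 6) : Equiv.Perm (Fin 9) :=
  ⟨A3.planeMaps i, A3.planeMapsInv i, fun x => (A3.planeMaps_inv i x).1,
    fun x => (A3.planeMaps_inv i x).2⟩

/-- The tables are automorphisms of the model plane. -/
theorem planePerm_lines (i : Fin 6) : imgSys (planePerm i) A3.modelLines = A3.modelLines := by
  refine mem_setSystemAut_iff.1 (mem_setSystemAut_of_forall ?_)
  rintro _ ⟨m, hm, rfl⟩
  exact List.mem_map.1 (A3.planeMaps_lines i m hm)

/-- The tables permute the colours. -/
theorem planePerm_colour (i : Fin 6) (k : Fin 3) :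
    (A3.colourClass k).image (Finset.image (planePerm i))
      = A3.colourClass (A3.colourMaps i k) := by
  refine eq_of_subset_of_card_le ?_ ?_
  · intro D hD
    obtain ⟨D', hD', rfl⟩ := mem_image.1 hD
    obtain ⟨m, hm, rfl⟩ := mem_colourClass.1 hD'
    exact mem_colourClass.2 (List.mem_map.1 (A3.planeMaps_colour i k m hm))
  · rw [card_image_of_injective _ (image_injective (planePerm i).injective),
      A3.colourClass_card, A3.colourClass_card]

/-- Moving an S(5,6,12) into standard position, fixing two given points of the plane. -/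
theorem exists_std9_position {B : Set (Finset (Fin 3 ⊕ Fin 9))} (hB : Cfsg.IsSteinerSystem 5 6 B)
    {p q : Fin 9} (hpq : p ≠ q) :
    ∃ g : Equiv.Perm (Fin 9), IsStd9 (imgSys ((Equiv.refl (Fin 3)).sumCongr g) B) ∧
      g p = 0 ∧ g q = 1 := by
  have hP := planeSys9_steiner hB
  obtain ⟨h, hh, hph, hqh⟩ := s9_exists_line (by simp) hP hpq
  obtain ⟨r, -, hr⟩ := exists_mem_notMem_of_card_lt_card (s := h) (t := (univ : Finset (Fin 9)))
    (by rw [hP.1 h hh]; simp)
  obtain ⟨e, he, hep, heq, -⟩ := s9_coord (by simp) hP (r := r) hpq (fun l hl hpl hql hrl =>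
    hr (s9_line_unique (by simp) hP hpq hl hh hpl hql hph hqh ▸ hrl))
  set B1 := imgSys ((Equiv.refl (Fin 3)).sumCongr e) B with hB1
  have hS1 : Cfsg.IsSteinerSystem 5 6 B1 := steiner_image hB _
  have hl1 : planeSys9 B1 = A3.modelLines := by rw [hB1, planeSys9_image, he]
  have hbase : ∀ k : Fin 3, ∃ i, A3.maskSet (![27, 43, 139] k) ∈ cls9 B1 i := fun k =>
    cls9_cover hS1 hl1 (k := k) (mem_colourClass.2 ⟨![27, 43, 139] k, by
      fin_cases k <;> decide, rfl⟩)
  choose f hf using hbase
  have hfinj : Function.Injective f := by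
    intro a b hab
    by_contra hne
    have key : ∀ a b : Fin 3, a ≠ b → 3 ≤ (A3.maskSet (![27, 43, 139] a) ∩
        A3.maskSet (![27, 43, 139] b)).card ∧
          A3.maskSet (![27, 43, 139] a) ≠ A3.maskSet (![27, 43, 139] b) := by decide +kernel
    exact (key a b hne).2 (cls9_share hS1 (hf a) (hab ▸ hf b) (key a b hne).1)
  set π : Equiv.Perm (Fin 3) := Equiv.ofBijective f
    (Finite.injective_iff_bijective.1 hfinj) with hπ
  have hall : ∀ k, cls9 B1 (π k) = A3.colourClass k := fun k =>
    (eq_of_subset_of_card_le (checkSteps_sound hS1 hl1 π A3.colourSteps _ A3.checkSteps_ok (by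
      intro p hp
      simp only [List.mem_cons, List.not_mem_nil, or_false] at hp
      rcases hp with rfl | rfl | rfl
      · exact hf 0
      · exact hf 1
      · exact hf 2) k) (by rw [A3.colourClass_card, card_cls9 hS1])).symm
  obtain ⟨i, hi⟩ := A3.colourMaps_all π
  refine ⟨e.trans (planePerm i), ?_, ?_, ?_⟩
  · have hcomp : imgSys ((Equiv.refl (Fin 3)).sumCongr (e.trans (planePerm i))) B
        = imgSys ((Equiv.refl (Fin 3)).sumCongr (planePerm i)) B1 := by
      rw [hB1, ← imgSys_trans]
      congr 1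
      ext x; cases x <;> simp
    rw [hcomp]
    refine ⟨steiner_image hS1 _, by rw [planeSys9_image, hl1, planePerm_lines], fun k => ?_⟩
    obtain ⟨j, rfl⟩ := π.surjective k
    rw [cls9_image, hall, planePerm_colour, hi]
  · rw [Equiv.trans_apply, hep]; exact (A3.planeMaps_fix i).1
  · rw [Equiv.trans_apply, heq]; exact (A3.planeMaps_fix i).2

/-- Two systems in standard position are equal. -/
theorem std9_eq {B B' : Set (Finset (Fin 3 ⊕ Fin 9))} (hB : IsStd9 B) (hB' : IsStd9 B') :
    B = B' := by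
  have big : ∀ {B B' : Set (Finset (Fin 3 ⊕ Fin 9))}, IsStd9 B → IsStd9 B' →
      ∀ b ∈ B, 2 ≤ b.toLeft.card → b ∈ B' := by
    intro B B' hB hB' b hb hl
    have hle : b.toLeft.card ≤ 3 := by simpa using card_le_univ b.toLeft
    rcases (by omega : b.toLeft.card = 3 ∨ b.toLeft.card = 2) with h | h
    · have he : b = (univ : Finset (Fin 3)).disjSum b.toRight := by
        conv_lhs => rw [← toLeft_disjSum_toRight (u := b)]
        rw [eq_univ_of_card b.toLeft (by simp [h])]
      have h1 : b.toRight ∈ planeSys9 B := show _ ∈ B from he ▸ hb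
      rw [hB.lines, ← hB'.lines] at h1
      rw [he]; exact h1
    · obtain ⟨i, hi⟩ : ∃ i, b.toLeft = univ.erase i := by
        obtain ⟨i, hi⟩ := card_eq_one.1 (show (b.toLeftᶜ).card = 1 by
          rw [card_compl, Fintype.card_fin]; omega)
        exact ⟨i, by rw [← compl_compl b.toLeft, hi, compl_eq_univ_sdiff, erase_eq]⟩
      have he : b = (univ.erase i).disjSum b.toRight := by
        conv_lhs => rw [← toLeft_disjSum_toRight (u := b), hi]
      have h1 : b.toRight ∈ cls9 B i := mem_cls9.2 (he ▸ hb)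
      rw [hB.classes, ← hB'.classes, mem_cls9] at h1
      rw [he]; exact h1
  refine steiner_eq_of_subset (by norm_num) hB.steiner hB'.steiner fun b hb => ?_
  rcases le_or_gt 2 b.toLeft.card with h | h
  · exact big hB hB' b hb h
  · have hc := s12_compl (by simp) hB.steiner hb
    have hl : (bᶜ).toLeft = b.toLeftᶜ := by ext x; simp
    have := s12_compl (by simp) hB'.steiner
      (big hB hB' _ hc (by rw [hl, card_compl, Fintype.card_fin]; omega))
    rwa [compl_compl] at this

/-- The standard five points. -/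
def stdTuple9 : Fin 5 → Fin 3 ⊕ Fin 9 :=
  ![Sum.inl 0, Sum.inl 1, Sum.inl 2, Sum.inr 0, Sum.inr 1]

variable {α : Type*} [DecidableEq α] [Fintype α] {B : Set (Finset α)}

/-- Any five points of an S(5,6,12) go to the standard ones in standard position. -/
theorem exists_std9 (hα : Fintype.card α = 12) (hB : Cfsg.IsSteinerSystem 5 6 B)
    (x : Fin 5 ↪ α) :
    ∃ e : α ≃ Fin 3 ⊕ Fin 9, IsStd9 (imgSys e B) ∧ ∀ i, e (x i) = stdTuple9 i := by
  classical
  let y : Fin 3 ↪ α := (Fin.castAddEmb 2).trans x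
  have hc : Fintype.card {a : α // a ∉ Set.range y} = 9 := by
    rw [Fintype.card_of_subtype ((univ.map y)ᶜ) (fun a => by simp), card_compl, card_map, hα,
      card_univ, Fintype.card_fin]
  obtain ⟨f, hf⟩ : ∃ f : α ≃ Fin 3 ⊕ Fin 9, ∀ i, f (y i) = Sum.inl i := by
    refine ⟨(Equiv.sumCompl (fun a => a ∈ Set.range y)).symm.trans
      ((Equiv.ofInjective y y.injective).symm.sumCongr (Fintype.equivFinOfCardEq hc)), fun i => ?_⟩
    rw [Equiv.trans_apply, Equiv.sumCompl_symm_apply_of_pos (by simp)]
    simp [Equiv.sumCongr_apply]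
  have hr : ∀ j : Fin 2, ∃ p, f (x (Fin.natAdd 3 j)) = Sum.inr p := by
    intro j
    rcases hfx : f (x (Fin.natAdd 3 j)) with i | p
    · exfalso
      have h2 := x.injective (f.injective (hfx.trans (hf i).symm))
      have h3 : 3 + (j : ℕ) = (i : ℕ) := congrArg Fin.val h2
      have := i.isLt
      omega
    · exact ⟨p, rfl⟩
  obtain ⟨p, hp⟩ := hr 0
  obtain ⟨q, hq⟩ := hr 1
  have hpq : p ≠ q := fun e => by
    have := x.injective (f.injective (hp.trans ((congrArg Sum.inr e).trans hq.symm)))
    simp [Fin.ext_iff] at this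
  obtain ⟨g, hg, hgp, hgq⟩ := exists_std9_position (steiner_image hB f) hpq
  refine ⟨f.trans ((Equiv.refl _).sumCongr g), by rw [imgSys_trans]; exact hg, fun i => ?_⟩
  fin_cases i
  · show Sum.map id g (f (y 0)) = _
    rw [hf]; rfl
  · show Sum.map id g (f (y 1)) = _
    rw [hf]; rfl
  · show Sum.map id g (f (y 2)) = _
    rw [hf]; rfl
  · show Sum.map id g (f (x (Fin.natAdd 3 (0 : Fin 2)))) = _
    rw [hp, Sum.map_inr, hgp]; rfl
  · show Sum.map id g (f (x (Fin.natAdd 3 (1 : Fin 2)))) = _
    rw [hq, Sum.map_inr, hgq]; rfl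

/-- The automorphism group of an S(5,6,12) is five-fold transitive. -/
theorem s12_aut_transitive (hα : Fintype.card α = 12) (hB : Cfsg.IsSteinerSystem 5 6 B) :
    IsMultiplyPretransitive (Cfsg.setSystemAut B) α 5 := by
  refine ⟨fun x y => ?_⟩
  obtain ⟨e, he, hex⟩ := exists_std9 hα hB x
  obtain ⟨f, hf, hfy⟩ := exists_std9 hα hB y
  refine ⟨⟨e.trans f.symm, trans_symm_mem_setSystemAut (std9_eq he hf) rfl⟩, ?_⟩
  ext i
  show f.symm (e (x i)) = y i
  rw [Equiv.symm_apply_eq, hex, hfy]

/-- An automorphism of an S(5,6,12) fixing five points is trivial. -/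
theorem s12_aut_eq_one (hα : Fintype.card α = 12) (hB : Cfsg.IsSteinerSystem 5 6 B)
    (x : Fin 5 ↪ α) {g : Equiv.Perm α} (hg : g ∈ Cfsg.setSystemAut B)
    (hfix : ∀ i, g (x i) = x i) : g = 1 := by
  obtain ⟨e, he, hex⟩ := exists_std9 hα hB x
  set k := e.permCongr g with hk
  have hkfix : ∀ i, k (stdTuple9 i) = stdTuple9 i := fun i => by
    rw [hk, Equiv.permCongr_apply, ← hex, Equiv.symm_apply_apply, hfix]
  have hkl : ∀ i : Fin 3, k (Sum.inl i) = Sum.inl i := by
    intro i
    fin_cases i
    exacts [hkfix 0, hkfix 1, hkfix 2]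
  have hr : ∀ y, ∃ z, k (Sum.inr y) = Sum.inr z := by
    intro y
    rcases hy : k (Sum.inr y) with i | z
    · rw [← hkl i] at hy; exact absurd (k.injective hy) (by simp)
    · exact ⟨z, rfl⟩
  choose k' hk' using hr
  have hk'b : Function.Bijective k' := Finite.injective_iff_bijective.1 fun a b hab => by
    have h2 : k (Sum.inr a) = k (Sum.inr b) := by rw [hk', hk', hab]
    exact Sum.inr_injective (k.injective h2)
  set g' := Equiv.ofBijective k' hk'b with hg'
  have heq : k = (Equiv.refl (Fin 3)).sumCongr g' :=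
    Equiv.ext fun z => by cases z <;> simp [hkl, hk', hg']
  have hM : imgSys k (imgSys e B) = imgSys e B :=
    mem_setSystemAut_iff.1 (permCongr_mem_setSystemAut rfl hg)
  rw [heq] at hM
  have hgl : imgSys g' A3.modelLines = A3.modelLines := by rw [← he.lines, ← planeSys9_image, hM]
  have h0 : g' 0 = 0 := Sum.inr_injective (show (Sum.inr (g' 0) : Fin 3 ⊕ Fin 9) = _ from
    (hk' 0).symm.trans (hkfix 3))
  have h1 : g' 1 = 1 := Sum.inr_injective (show (Sum.inr (g' 1) : Fin 3 ⊕ Fin 9) = _ from
    (hk' 1).symm.trans (hkfix 4))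
  have h2 : g' 3 ≠ 2 := by
    intro e2
    have hl : ({0, 1, 2} : Finset (Fin 9)) ∈ A3.modelLines := ⟨7, by decide, by decide⟩
    have himg : ({0, 1, 2} : Finset (Fin 9)).image g' = {0, 1, 2} :=
      block_unique a3_steiner (hgl ▸ image_mem_imgSys.2 hl) hl (s := {0, 1})
        (by decide) (by simp [insert_subset_iff, h0, h1]) (by decide)
    have : g' 3 ∈ ({0, 1, 2} : Finset (Fin 9)).image g' := himg.symm ▸ (by rw [e2]; decide)
    rw [mem_image] at this
    obtain ⟨y, hy, hy'⟩ := this
    rw [g'.injective hy'] at hy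
    revert hy; decide
  obtain ⟨i, hi⟩ := A3.planeMaps_three (g' 3) (fun h => by
    rw [← h0] at h; exact absurd (g'.injective h) (by decide)) (fun h => by
    rw [← h1] at h; exact absurd (g'.injective h) (by decide)) h2
  have hgi : g' = planePerm i := by
    have := a3_rigid ((planePerm i)⁻¹ * g')
      (mem_setSystemAut_iff.1 (Subgroup.mul_mem _
        (Subgroup.inv_mem _ (mem_setSystemAut_iff.2 (planePerm_lines i))) (mem_setSystemAut_iff.2 hgl)))
      ?_ ?_ ?_
    · exact (inv_mul_eq_one.1 this).symm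
    · simp only [Equiv.Perm.mul_apply, Equiv.Perm.inv_eq_iff_eq, h0]; exact (A3.planeMaps_fix i).1.symm
    · simp only [Equiv.Perm.mul_apply, Equiv.Perm.inv_eq_iff_eq, h1]; exact (A3.planeMaps_fix i).2.symm
    · simp only [Equiv.Perm.mul_apply, Equiv.Perm.inv_eq_iff_eq]; exact hi.symm
  have hid : ∀ k, A3.colourMaps i k = k := by
    intro j
    by_contra hne
    have := he.classes j
    rw [← hM, cls9_image, he.classes, hgi, planePerm_colour] at this
    have hd := colourClass_disjoint hne
    rw [this, disjoint_self, bot_eq_empty] at hd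
    simpa [hd] using A3.colourClass_card j
  have hg1 : k = 1 := by
    rw [heq, hgi]
    ext z
    cases z with
    | inl a => simp
    | inr b => simp [planePerm, A3.colourMaps_id i hid b]
  rw [hk] at hg1
  refine e.permCongr.injective ?_
  rw [hg1]
  ext z
  simp

/-- Uniqueness of S(5,6,12). -/
theorem s12_iso {β : Type*} [DecidableEq β] [Fintype β] (hα : Fintype.card α = 12)
    (hβ : Fintype.card β = 12) {B' : Set (Finset β)} (hB : Cfsg.IsSteinerSystem 5 6 B)
    (hB' : Cfsg.IsSteinerSystem 5 6 B') : Cfsg.SetSystemIso B B' := by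
  obtain ⟨x⟩ : Nonempty (Fin 5 ↪ α) := Function.Embedding.nonempty_of_card_le (by simp [hα])
  obtain ⟨y⟩ : Nonempty (Fin 5 ↪ β) := Function.Embedding.nonempty_of_card_le (by simp [hβ])
  obtain ⟨e, he, -⟩ := exists_std9 hα hB x
  obtain ⟨f, hf, -⟩ := exists_std9 hβ hB' y
  exact setSystemIso_iff.2 ⟨e.trans f.symm,
    by rw [imgSys_trans, std9_eq he hf, imgSys_symm_eq rfl]⟩

/-- The automorphism group of an S(5,6,12) has order 95040. -/
theorem s12_aut_card (hα : Fintype.card α = 12) (hB : Cfsg.IsSteinerSystem 5 6 B) :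
    Nat.card (Cfsg.setSystemAut B) = 95040 := by
  obtain ⟨x⟩ : Nonempty (Fin 5 ↪ α) := Function.Embedding.nonempty_of_card_le (by simp [hα])
  have hb : Function.Bijective (fun g : Cfsg.setSystemAut B => g • x) := by
    refine ⟨fun g h hgh => ?_, fun y => (s12_aut_transitive hα hB).exists_smul_eq x y⟩
    have hfix : ∀ i, ((h⁻¹ * g : Cfsg.setSystemAut B) : Equiv.Perm α) (x i) = x i := by
      intro i
      have e : (g : Equiv.Perm α) (x i) = (h : Equiv.Perm α) (x i) := DFunLike.congr_fun hgh i
      simp [e]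
    have := s12_aut_eq_one hα hB x (h⁻¹ * g).2 hfix
    exact (inv_mul_eq_one.1 (Subtype.ext this)).symm
  rw [Nat.card_eq_of_bijective _ hb, Nat.card_eq_fintype_card, Fintype.card_embedding_eq, hα,
    Fintype.card_fin]
  rfl

end Cfsg.Agent.H10
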