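import Cfsg.Agent.H10.Ext4Model

/-!
The Steiner systems S(3,6,22), S(4,7,23), S(5,8,24) as `m`-point extensions of the plane of order 4.
-/

set_option autoImplicit false
set_option linter.unusedSectionVars false

open Finset

namespace Cfsg.Agent.H10

/-- An S(m+2, m+5) all whose blocks meet with cardinality of the parity of `m + 1`. -/
def IsExt {α : Type*} [DecidableEq α] (m : ℕ) (B : Set (Finset α)) : Prop :=
  Cfsg.IsSteinerSystem (m + 2) (m + 5) B ∧ ∀ b ∈ B, ∀ c ∈ B, Even ((b ∩ c).card + (m + 1))

/-- The image of an extension is an extension. -/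
theorem IsExt.image {α β : Type*} [DecidableEq α] [DecidableEq β] {m : ℕ} {B : Set (Finset α)}
    (hB : IsExt m B) (e : α ≃ β) : IsExt m (imgSys e B) := by
  refine ⟨steiner_image hB.1 e, ?_⟩
  rintro _ ⟨b, hb, rfl⟩ _ ⟨c, hc, rfl⟩
  rw [← image_inter _ _ e.injective, card_image_of_injective _ e.injective]
  exact hB.2 b hb c hc

variable {m : ℕ}

/-- The lines: plane parts of the blocks through all the extension points. -/
def planeSys (B : Set (Finset (Fin m ⊕ Fin 21))) : Set (Finset (Fin 21)) :=
  {D | (univ : Finset (Fin m)).disjSum D ∈ B}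

/-- Plane parts of the blocks through all extension points except `i`. -/
noncomputable def cls (B : Set (Finset (Fin m ⊕ Fin 21))) (i : Fin m) : Finset (Finset (Fin 21)) := by
  classical
  exact univ.filter fun D => (univ.erase i).disjSum D ∈ B

/-- Membership in `cls`. -/
@[simp] theorem mem_cls {B : Set (Finset (Fin m ⊕ Fin 21))} {i : Fin m} {D : Finset (Fin 21)} :
    D ∈ cls B i ↔ (univ.erase i).disjSum D ∈ B := by
  classical
  simp [cls]

/-- Intersections of disjoint sums. -/
theorem disjSum_inter {β γ : Type*} [DecidableEq β] [DecidableEq γ] (S S' : Finset β)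
    (D D' : Finset γ) : S.disjSum D ∩ S'.disjSum D' = (S ∩ S').disjSum (D ∩ D') := by
  ext x; cases x <;> simp

/-- Inclusions of disjoint sums. -/
theorem disjSum_subset_iff {β γ : Type*} {S : Finset β} {D : Finset γ} {b : Finset (β ⊕ γ)} :
    S.disjSum D ⊆ b ↔ S ⊆ b.toLeft ∧ D ⊆ b.toRight := by
  constructor
  · exact fun h => ⟨fun x hx => mem_toLeft.2 (h (inl_mem_disjSum.2 hx)),
      fun x hx => mem_toRight.2 (h (inr_mem_disjSum.2 hx))⟩
  · rintro ⟨h1, h2⟩ (x | x) hx
    · exact mem_toLeft.1 (h1 (inl_mem_disjSum.1 hx))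
    · exact mem_toRight.1 (h2 (inr_mem_disjSum.1 hx))

/-- Images of disjoint sums under a map of the second summand. -/
theorem disjSum_image {β γ δ : Type*} [DecidableEq β] [DecidableEq γ] [DecidableEq δ]
    (g : γ ≃ δ) (S : Finset β) (D : Finset γ) :
    (S.disjSum D).image ((Equiv.refl β).sumCongr g) = S.disjSum (D.image g) := by
  ext x; cases x <;> simp

/-- Coordinate changes in the plane act on each kind of block separately. -/
theorem disjSum_mem_imgSys {B : Set (Finset (Fin m ⊕ Fin 21))} {g : Equiv.Perm (Fin 21)}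
    {S : Finset (Fin m)} {D : Finset (Fin 21)} :
    S.disjSum D ∈ imgSys ((Equiv.refl (Fin m)).sumCongr g) B ↔ S.disjSum (D.image g.symm) ∈ B := by
  rw [mem_imgSys]
  have : ((Equiv.refl (Fin m)).sumCongr g).symm = (Equiv.refl (Fin m)).sumCongr g.symm := by
    ext x; cases x <;> simp
  rw [this, disjSum_image]

/-- The lines after a coordinate change. -/
theorem planeSys_image (B : Set (Finset (Fin m ⊕ Fin 21))) (g : Equiv.Perm (Fin 21)) :
    planeSys (imgSys ((Equiv.refl (Fin m)).sumCongr g) B) = imgSys g (planeSys B) := by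
  ext D
  rw [mem_imgSys]
  exact disjSum_mem_imgSys

/-- The classes after a coordinate change. -/
theorem mem_cls_image {B : Set (Finset (Fin m ⊕ Fin 21))} {g : Equiv.Perm (Fin 21)} {i : Fin m}
    {D : Finset (Fin 21)} :
    D ∈ cls (imgSys ((Equiv.refl (Fin m)).sumCongr g) B) i ↔ D.image g.symm ∈ cls B i := by
  rw [mem_cls, mem_cls, disjSum_mem_imgSys]

/-- Hyperovals go to hyperovals under isomorphisms of planes. -/
theorem IsArc.image {β γ : Type*} [DecidableEq β] [DecidableEq γ] {L : Set (Finset β)}
    {S : Finset β} (h : IsArc L S) (e : β ≃ γ) : IsArc (imgSys e L) (S.image e) := by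
  rintro _ ⟨l, hl, rfl⟩
  rw [← image_inter _ _ e.injective, card_image_of_injective _ e.injective]
  exact h l hl

section Ext
variable (hm1 : 1 ≤ m) {B : Set (Finset (Fin m ⊕ Fin 21))} (hB : IsExt m B)
include hm1 hB

omit hm1 hB in
theorem card_points : Fintype.card (Fin m ⊕ Fin 21) = m + 21 := by simp

/-- The lines form a plane of order 4. -/
theorem planeSys_steiner : Cfsg.IsSteinerSystem 2 5 (planeSys B) := by
  constructor
  · intro D hD
    have := hB.1.1 _ hD
    simp only [card_disjSum, card_univ, Fintype.card_fin] at this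
    omega
  · intro s hs
    obtain ⟨b, ⟨hb, hsb⟩, hu⟩ := hB.1.2 ((univ : Finset (Fin m)).disjSum s) (by simp [hs])
    rw [disjSum_subset_iff] at hsb
    have he : b = (univ : Finset (Fin m)).disjSum b.toRight := by
      conv_lhs => rw [← toLeft_disjSum_toRight (u := b)]
      rw [eq_univ_of_forall fun x => hsb.1 (mem_univ x)]
    refine ⟨b.toRight, ⟨?_, hsb.2⟩, ?_⟩
    · show _ ∈ B; rw [← he]; exact hb
    · rintro D ⟨hD, hsD⟩
      have hD' := hu ((univ : Finset (Fin m)).disjSum D)
        ⟨hD, disjSum_subset_iff.2 ⟨by simp, by simpa using hsD⟩⟩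
      rw [← hD', toRight_disjSum]

/-- Class members are hyperovals. -/
theorem cls_hyperoval {i : Fin m} {D : Finset (Fin 21)} (hD : D ∈ cls B i) :
    D.card = 6 ∧ IsArc (planeSys B) D := by
  rw [mem_cls] at hD
  have hc := hB.1.1 _ hD
  simp only [card_disjSum, card_erase_of_mem (mem_univ i), card_univ, Fintype.card_fin] at hc
  refine ⟨by omega, fun l hl => ?_⟩
  have he : ((univ : Finset (Fin m)).disjSum l ∩ (univ.erase i).disjSum D).card
      = (m - 1) + (l ∩ D).card := by
    rw [disjSum_inter, card_disjSum, univ_inter, card_erase_of_mem (mem_univ i), card_univ,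
      Fintype.card_fin]
  have hne : (univ : Finset (Fin m)).disjSum l ≠ (univ.erase i).disjSum D := fun e => by
    have : Sum.inl i ∈ (univ.erase i).disjSum D := e ▸ inl_mem_disjSum.2 (mem_univ i)
    simp at this
  have hlt := block_inter_lt hB.1 hl hD hne
  rw [he] at hlt
  omega

/-- Class members are indeed disjoint for different points. -/
theorem cls_disjoint {i j : Fin m} (hij : i ≠ j) : Disjoint (cls B i) (cls B j) := by
  rw [disjoint_left]
  intro D hD hD'
  have h6 := (cls_hyperoval hm1 hB hD).1
  rw [mem_cls] at hD hD'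
  have hne : (univ.erase i).disjSum D ≠ (univ.erase j).disjSum D := fun e => by
    have h : Sum.inl i ∈ (univ.erase j).disjSum D := inl_mem_disjSum.2 (by simp [hij])
    rw [← e] at h; simp at h
  have hlt := block_inter_lt hB.1 hD hD' hne
  rw [disjSum_inter, card_disjSum, inter_self, h6, erase_inter, univ_inter,
    card_erase_of_mem (by simp [hij]), card_erase_of_mem (mem_univ j), card_univ,
    Fintype.card_fin] at hlt
  omega

/-- Members of one class meet evenly. -/
theorem cls_even {i : Fin m} {D D' : Finset (Fin 21)} (hD : D ∈ cls B i) (hD' : D' ∈ cls B i) :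
    Even (D ∩ D').card := by
  rw [mem_cls] at hD hD'
  have h := hB.2 _ hD _ hD'
  rw [disjSum_inter, card_disjSum, inter_self, card_erase_of_mem (mem_univ i), card_univ,
    Fintype.card_fin, show m - 1 + (D ∩ D').card + (m + 1) = (D ∩ D').card + 2 * m by omega] at h
  rwa [Nat.even_add, iff_true_right (even_two_mul m)] at h

/-- Members of different classes meet oddly. -/
theorem cls_odd {i j : Fin m} (hij : i ≠ j) {D D' : Finset (Fin 21)} (hD : D ∈ cls B i)
    (hD' : D' ∈ cls B j) : Odd (D ∩ D').card := by
  rw [mem_cls] at hD hD'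
  have h := hB.2 _ hD _ hD'
  have h2 : 2 ≤ m := by
    have := i.isLt; have := j.isLt
    have : (i : ℕ) ≠ j := fun e => hij (Fin.ext e)
    omega
  rw [disjSum_inter, card_disjSum, erase_inter, univ_inter, card_erase_of_mem (by simp [hij]),
    card_erase_of_mem (mem_univ j), card_univ, Fintype.card_fin,
    show m - 1 - 1 + (D ∩ D').card + (m + 1) = ((D ∩ D').card + 1) + 2 * (m - 1) by omega] at h
  rw [Nat.even_add, iff_true_right (even_two_mul _), Nat.even_add_one] at h
  exact Nat.not_even_iff_odd.1 h

/-- Blocks through the extension points other than `i` and a set in the plane, avoiding `i`. -/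
theorem card_cls_through (i : Fin m) (u : Finset (Fin 21)) (hu : u.card ≤ 2) :
    ((cls B i).filter (fun D => u ⊆ D)).card + [21, 5, 1].getD u.card 0
      = [77, 21, 5].getD u.card 0 := by
  set s := (univ.erase i).disjSum u with hs
  have hsc : s.card = m - 1 + u.card := by simp [hs]
  have hlam := lam_mul hB.1 (s := s) (by omega)
  rw [hsc, card_points, show m + 5 - (m - 1 + u.card) = 6 - u.card by omega,
    show m + 2 - (m - 1 + u.card) = 3 - u.card by omega,
    show m + 21 - (m - 1 + u.card) = 22 - u.card by omega] at hlam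
  have h77 : ((blocks B).filter (fun b => s ⊆ b)).card = [77, 21, 5].getD u.card 0 := by
    interval_cases u.card <;> simp [Nat.choose] at hlam ⊢ <;> omega
  have hL := plane_lam (by simp) (planeSys_steiner hm1 hB) (Y := u) (Or.inr hu) u subset_rfl
  have h21 : ((blocks (planeSys B)).filter (fun l => u ⊆ l)).card = [21, 5, 1].getD u.card 0 := by
    rw [hL]; interval_cases u.card <;> rfl
  have hsplit := card_filter_add_card_filter_not (s := (blocks B).filter (fun b => s ⊆ b))
    (p := fun b => i ∈ b.toLeft)
  have e1 : (((blocks B).filter (fun b => s ⊆ b)).filter (fun b => i ∈ b.toLeft)).card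
      = ((blocks (planeSys B)).filter (fun l => u ⊆ l)).card := by
    refine card_bij' (fun b _ => b.toRight) (fun l _ => univ.disjSum l) ?_ ?_ ?_ ?_
    · intro b hb
      simp only [mem_filter, mem_blocks, hs, disjSum_subset_iff] at hb ⊢
      refine ⟨?_, hb.1.2.2⟩
      have : (univ : Finset (Fin m)) ⊆ b.toLeft := by
        rw [← insert_erase (mem_univ i)]; exact insert_subset hb.2 hb.1.2.1
      show _ ∈ B
      rw [← eq_univ_of_forall fun x => this (mem_univ x), toLeft_disjSum_toRight]
      exact hb.1.1
    · intro l hl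
      simp only [mem_filter, mem_blocks, hs, disjSum_subset_iff, toLeft_disjSum,
        toRight_disjSum] at hl ⊢
      exact ⟨⟨hl.1, erase_subset _ _, hl.2⟩, mem_univ i⟩
    · intro b hb
      simp only [mem_filter, hs, disjSum_subset_iff] at hb
      have : (univ : Finset (Fin m)) ⊆ b.toLeft := by
        rw [← insert_erase (mem_univ i)]; exact insert_subset hb.2 hb.1.2.1
      rw [← eq_univ_of_forall fun x => this (mem_univ x), toLeft_disjSum_toRight]
    · intro l hl; simp
  have e2 : (((blocks B).filter (fun b => s ⊆ b)).filter (fun b => ¬ i ∈ b.toLeft)).card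
      = ((cls B i).filter (fun D => u ⊆ D)).card := by
    have key : ∀ b : Finset (Fin m ⊕ Fin 21), univ.erase i ⊆ b.toLeft → i ∉ b.toLeft →
        b.toLeft = univ.erase i := fun b h1 h2 =>
      subset_antisymm (fun x hx => mem_erase.2 ⟨fun e : x = i => h2 (e ▸ hx), mem_univ x⟩) h1
    refine card_bij' (fun b _ => b.toRight) (fun D _ => (univ.erase i).disjSum D) ?_ ?_ ?_ ?_
    · intro b hb
      simp only [mem_filter, mem_blocks, hs, disjSum_subset_iff, mem_cls] at hb ⊢
      rw [← key b hb.1.2.1 hb.2, toLeft_disjSum_toRight]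
      exact ⟨hb.1.1, hb.1.2.2⟩
    · intro D hD
      simp only [mem_filter, mem_blocks, hs, disjSum_subset_iff, toLeft_disjSum,
        toRight_disjSum, mem_cls] at hD ⊢
      exact ⟨⟨hD.1, subset_rfl, hD.2⟩, notMem_erase i _⟩
    · intro b hb
      simp only [mem_filter, hs, disjSum_subset_iff] at hb
      rw [← key b hb.1.2.1 hb.2, toLeft_disjSum_toRight]
    · intro D hD; simp
  omega

/-- Each class has 56 members. -/
theorem card_cls (i : Fin m) : (cls B i).card = 56 := by
  have := card_cls_through hm1 hB i ∅ (by simp)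
  simp at this
  omega

/-- A class member through two given points. -/
theorem exists_cls_through (i : Fin m) {p q : Fin 21} (hpq : p ≠ q) :
    ∃ D ∈ cls B i, p ∈ D ∧ q ∈ D := by
  have := card_cls_through hm1 hB i {p, q} (card_pair hpq).le
  rw [card_pair hpq] at this
  simp at this
  obtain ⟨D, hD⟩ := card_pos.1 (show 0 < ((cls B i).filter (fun D => {p, q} ⊆ D)).card by omega)
  simp only [mem_filter, insert_subset_iff, singleton_subset_iff] at hD
  exact ⟨D, hD.1, hD.2⟩

end Ext

/-- An extension in standard position. -/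
structure IsStd (B : Set (Finset (Fin m ⊕ Fin 21))) : Prop where
  ext' : IsExt m B
  lines : planeSys B = P4.modelLines
  zero : ∀ i : Fin m, (i : ℕ) = 0 → P4.oval0 ∈ cls B i
  one : ∀ i : Fin m, (i : ℕ) = 1 → P4.oval1 ∈ cls B i

section Std
variable (hm1 : 1 ≤ m) {B : Set (Finset (Fin m ⊕ Fin 21))} (hB : IsStd B)
include hm1 hB

/-- In standard position the class of a member consists of the hyperovals meeting it evenly. -/
theorem cls_eq_evenClass {i : Fin m} {H : Finset (Fin 21)} (hH : H ∈ cls B i) :
    cls B i = evenClass P4.modelLines H :=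
  eq_evenClass (by simp) modelLines_steiner
    (fun D hD => hB.lines ▸ cls_hyperoval hm1 hB.ext' hD) (card_cls hm1 hB.ext' i)
    (fun _ hD _ hD' => cls_even hm1 hB.ext' hD hD') hH

/-- The first class. -/
theorem std_cls_zero {i : Fin m} (hi : (i : ℕ) = 0) :
    cls B i = evenClass P4.modelLines P4.oval0 :=
  cls_eq_evenClass hm1 hB (hB.zero i hi)

/-- The second class. -/
theorem std_cls_one {i : Fin m} (hi : (i : ℕ) = 1) :
    cls B i = evenClass P4.modelLines P4.oval1 :=
  cls_eq_evenClass hm1 hB (hB.one i hi)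

/-- Standard systems have the same classes. -/
theorem std_cls_eq (hm3 : m ≤ 3) {B' : Set (Finset (Fin m ⊕ Fin 21))} (hB' : IsStd B')
    (i : Fin m) : cls B i = cls B' i := by
  have hi := i.isLt
  rcases (by omega : (i : ℕ) = 0 ∨ (i : ℕ) = 1 ∨ (i : ℕ) = 2) with h | h | h
  · rw [std_cls_zero hm1 hB h, std_cls_zero hm1 hB' h]
  · rw [std_cls_one hm1 hB h, std_cls_one hm1 hB' h]
  · have key : ∀ {B'' : Set (Finset (Fin m ⊕ Fin 21))}, IsStd B'' → cls B'' i
        = arcs P4.modelLines 6 \
          (evenClass P4.modelLines P4.oval0 ∪ evenClass P4.modelLines P4.oval1) := by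
      intro B'' hB''
      let i0 : Fin m := ⟨0, by omega⟩
      let i1 : Fin m := ⟨1, by omega⟩
      have h0 : i ≠ i0 := fun e => by rw [e] at h; simp [i0] at h
      have h1 : i ≠ i1 := fun e => by rw [e] at h; simp [i1] at h
      have h01 : i0 ≠ i1 := fun e => by simpa [i0, i1] using congrArg Fin.val e
      rw [← std_cls_zero hm1 hB'' (i := i0) rfl, ← std_cls_one hm1 hB'' (i := i1) rfl]
      refine eq_of_subset_of_card_le (fun D hD => ?_) ?_
      · rw [mem_sdiff, mem_union, mem_arcs]
        refine ⟨hB''.lines ▸ cls_hyperoval hm1 hB''.ext' hD, ?_⟩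
        rintro (h' | h')
        · exact disjoint_left.1 (cls_disjoint hm1 hB''.ext' h0) hD h'
        · exact disjoint_left.1 (cls_disjoint hm1 hB''.ext' h1) hD h'
      · rw [card_sdiff_of_subset, card_union_of_disjoint (cls_disjoint hm1 hB''.ext' h01),
          card_cls hm1 hB''.ext', card_cls hm1 hB''.ext', card_cls hm1 hB''.ext',
          card_hyperovals (by simp) modelLines_steiner]
        refine union_subset (fun D hD => ?_) (fun D hD => ?_) <;>
          exact mem_arcs.2 (hB''.lines ▸ cls_hyperoval hm1 hB''.ext' hD)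
    rw [key hB, key hB']

/-- Blocks missing at most one extension point are shared by all standard systems. -/
theorem std_mem_of_left (hm3 : m ≤ 3) {B' : Set (Finset (Fin m ⊕ Fin 21))} (hB' : IsStd B')
    {b : Finset (Fin m ⊕ Fin 21)} (hb : b ∈ B) (hl : m ≤ b.toLeft.card + 1) : b ∈ B' := by
  have hle : b.toLeft.card ≤ m := by simpa using card_le_univ b.toLeft
  rcases (by omega : b.toLeft.card = m ∨ b.toLeft.card + 1 = m) with h | h
  · have he : b = (univ : Finset (Fin m)).disjSum b.toRight := by
      conv_lhs => rw [← toLeft_disjSum_toRight (u := b)]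
      rw [eq_univ_of_card b.toLeft (by simp [h])]
    have h1 : b.toRight ∈ planeSys B := show _ ∈ B from he ▸ hb
    rw [hB.lines, ← hB'.lines] at h1
    rw [he]; exact h1
  · obtain ⟨i, hi⟩ : ∃ i, b.toLeft = univ.erase i := by
      obtain ⟨i, hi⟩ := card_eq_one.1 (show (b.toLeftᶜ).card = 1 by
        rw [card_compl, Fintype.card_fin]; omega)
      exact ⟨i, by rw [← compl_compl b.toLeft, hi, compl_eq_univ_sdiff, erase_eq]⟩
    have he : b = (univ.erase i).disjSum b.toRight := by
      conv_lhs => rw [← toLeft_disjSum_toRight (u := b), hi]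
    have h1 : b.toRight ∈ cls B i := mem_cls.2 (he ▸ hb)
    rw [std_cls_eq hm1 hB hm3 hB', mem_cls] at h1
    rw [he]; exact h1

end Std

end Cfsg.Agent.H10
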