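import Cfsg.Agent.H10.Ext4Unique

/-!
Automorphism groups of S(3,6,22), S(4,7,23), S(5,8,24): transitivity on `m + 2` points and order.
-/

set_option autoImplicit false
set_option linter.unusedSectionVars false
set_option linter.style.haveILetI false

open Finset MulAction

namespace Cfsg.Agent.H10

variable {m : ℕ} {α : Type*} [DecidableEq α] [Fintype α] {B : Set (Finset α)}

/-- The automorphism group of an extension is `m + 2`-fold transitive. -/
theorem ext_aut_transitive (hm1 : 1 ≤ m) (hm3 : m ≤ 3) (hα : Fintype.card α = m + 21)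
    (hB : IsExt m B) : IsMultiplyPretransitive (Cfsg.setSystemAut B) α (m + 2) := by
  refine ⟨fun x y => ?_⟩
  obtain ⟨e, he, hex⟩ := exists_std hm1 hα hB x
  obtain ⟨f, hf, hfy⟩ := exists_std hm1 hα hB y
  refine ⟨⟨e.trans f.symm, trans_symm_mem_setSystemAut (std_eq hm1 hm3 he hf) rfl⟩, ?_⟩
  ext i
  show f.symm (e (x i)) = y i
  rw [Equiv.symm_apply_eq, hex, hfy]

/-- Plane automorphisms preserving the classes that define the standard extension. -/
def IsClassAut (m : ℕ) (g : Equiv.Perm (Fin 21)) : Prop :=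
  g ∈ Cfsg.setSystemAut P4.modelLines ∧ Even (P4.oval0.image g ∩ P4.oval0).card ∧
    (2 ≤ m → Even (P4.oval1.image g ∩ P4.oval1).card)

/-- The image of a hyperoval under a plane automorphism is a hyperoval. -/
theorem hyperoval_image {g : Equiv.Perm (Fin 21)} (hg : g ∈ Cfsg.setSystemAut P4.modelLines)
    {H : Finset (Fin 21)} (hH : IsHyperoval P4.modelLines H) :
    IsHyperoval P4.modelLines (H.image g) := by
  refine ⟨by rw [card_image_of_injective _ g.injective, hH.1], ?_⟩
  have h := hH.2.image g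
  rwa [mem_setSystemAut_iff.1 hg] at h

/-- Intersection numbers are preserved by bijections. -/
theorem card_image_inter_image {β : Type*} [DecidableEq β] (g : α ≃ β) (S T : Finset α) :
    (S.image g ∩ T.image g).card = (S ∩ T).card := by
  rw [← image_inter _ _ g.injective, card_image_of_injective _ g.injective]

/-- A standard system is preserved exactly by the class automorphisms. -/
theorem sumCongr_mem_iff (hm1 : 1 ≤ m) (hm3 : m ≤ 3) {M : Set (Finset (Fin m ⊕ Fin 21))}
    (hM : IsStd M) (g : Equiv.Perm (Fin 21)) :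
    (Equiv.refl (Fin m)).sumCongr g ∈ Cfsg.setSystemAut M ↔ IsClassAut m g := by
  have hflip : ∀ (R : Finset (Fin 21)), IsHyperoval P4.modelLines R →
      g ∈ Cfsg.setSystemAut P4.modelLines →
      (R.image g.symm ∈ evenClass P4.modelLines R ↔ Even (R.image g ∩ R).card) := by
    intro R hR hg
    have e : (R.image g.symm ∩ R).card = (R ∩ R.image g).card := by
      rw [← card_image_inter_image g]; simp [image_image]
    rw [mem_evenClass, e, inter_comm R]
    exact ⟨fun h => h.2, fun h =>
      ⟨hyperoval_image (g := g⁻¹) (Subgroup.inv_mem _ hg) hR, h⟩⟩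
  constructor
  · intro h
    rw [mem_setSystemAut_iff] at h
    have hg : g ∈ Cfsg.setSystemAut P4.modelLines := by
      rw [mem_setSystemAut_iff, ← hM.lines, ← planeSys_image, h]
    refine ⟨hg, ?_, fun h2 => ?_⟩
    · rw [← hflip _ P4.oval0_hyperoval hg, ← std_cls_zero hm1 hM (i := ⟨0, hm1⟩) rfl,
        ← mem_cls_image, h]
      exact hM.zero _ rfl
    · rw [← hflip _ P4.oval1_hyperoval hg, ← std_cls_one hm1 hM (i := ⟨1, h2⟩) rfl,
        ← mem_cls_image, h]
      exact hM.one _ rfl
  · rintro ⟨hg, h0, h1⟩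
    rw [mem_setSystemAut_iff]
    refine std_eq hm1 hm3 ⟨hM.ext'.image _, ?_, fun i hi => ?_, fun i hi => ?_⟩ hM
    · rw [planeSys_image, hM.lines, mem_setSystemAut_iff.1 hg]
    · rw [mem_cls_image, std_cls_zero hm1 hM hi]
      exact (hflip _ P4.oval0_hyperoval hg).2 h0
    · rw [mem_cls_image, std_cls_one hm1 hM hi]
      exact (hflip _ P4.oval1_hyperoval hg).2 (h1 (by omega))

/-- There are `56 * 720` plane automorphisms preserving the first class. -/
theorem card_classAut_one :
    Nat.card {g : Equiv.Perm (Fin 21) // IsClassAut 1 g} = 40320 := by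
  classical
  have hcoord : ∀ q : Σ H : ↥(evenClass P4.modelLines P4.oval0), (Fin 6 ≃ ↥(H.1)),
      ∃ g : {g : Equiv.Perm (Fin 21) // IsClassAut 1 g},
        P4.oval0.image g.1 = q.1.1 ∧ ∀ a, g.1 (P4.ovalPt a) = q.2 a := by
    rintro ⟨⟨H, hH⟩, σ⟩
    rw [mem_evenClass] at hH
    obtain ⟨e, he, heσ⟩ := exists_coord (by simp) modelLines_steiner hH.1 σ.symm
    have hap : ∀ a, e.symm (P4.ovalPt a) = σ a := fun a => by
      rw [Equiv.symm_apply_eq, heσ, Equiv.symm_apply_apply]
    have himg : P4.oval0.image e.symm = H := by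
      ext x
      simp only [P4.oval0, image_image, mem_image, mem_univ, true_and, Function.comp_apply, hap]
      exact ⟨fun ⟨a, ha⟩ => ha ▸ (σ a).2, fun hx => ⟨σ.symm ⟨x, hx⟩, by simp⟩⟩
    refine ⟨⟨e.symm, mem_setSystemAut_iff.2 (imgSys_symm_eq he), ?_, fun h => absurd h (by norm_num)⟩,
      himg, hap⟩
    rw [himg]; exact hH.2
  choose Ψ hΨ1 hΨ2 using hcoord
  have hinj : Function.Injective Ψ := by
    rintro ⟨H, σ⟩ ⟨H', σ'⟩ h
    obtain rfl : H = H' := Subtype.ext (by
      have := hΨ1 ⟨H, σ⟩; rw [h, hΨ1] at this; exact this.symm)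
    have : σ = σ' := Equiv.ext fun a => Subtype.ext (by
      have := hΨ2 ⟨H, σ⟩ a; rw [h, hΨ2] at this; exact this.symm)
    rw [this]
  have hsurj : Function.Surjective Ψ := by
    rintro ⟨g, hg⟩
    have hH : P4.oval0.image g ∈ evenClass P4.modelLines P4.oval0 :=
      mem_evenClass.2 ⟨hyperoval_image hg.1 P4.oval0_hyperoval, hg.2.1⟩
    let σ : Fin 6 ≃ ↥(P4.oval0.image g) := Equiv.ofBijective
      (fun a => ⟨g (P4.ovalPt a), mem_image_of_mem g (mem_image_of_mem _ (mem_univ a))⟩)
      ⟨fun a b h => Fin.castLE_injective _ (g.injective (congrArg Subtype.val h)), fun ⟨x, hx⟩ => by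
        simp only [P4.oval0, image_image, mem_image, mem_univ, true_and, Function.comp_apply] at hx
        obtain ⟨a, ha⟩ := hx
        exact ⟨a, Subtype.ext ha⟩⟩
    refine ⟨⟨⟨_, hH⟩, σ⟩, ?_⟩
    set h := Ψ ⟨⟨_, hH⟩, σ⟩ with hh
    have h2 : ∀ a, h.1 (P4.ovalPt a) = g (P4.ovalPt a) := fun a => hΨ2 ⟨⟨_, hH⟩, σ⟩ a
    have := model_rigid (g⁻¹ * h.1)
      (mem_setSystemAut_iff.1 (Subgroup.mul_mem _ (Subgroup.inv_mem _ hg.1) h.2.1))
      (fun a => by simp [h2])
    exact Subtype.ext (inv_mul_eq_one.1 this).symm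
  have key : ∀ H : ↥(evenClass P4.modelLines P4.oval0), Fintype.card (Fin 6 ≃ ↥(H.1)) = 720 := by
    intro H
    have h6 : H.1.card = 6 := (mem_evenClass.1 H.2).1.1
    rw [Fintype.card_equiv (H.1.equivFinOfCardEq h6).symm]
    decide
  rw [← Nat.card_eq_of_bijective Ψ ⟨hinj, hsurj⟩, Nat.card_eq_fintype_card, Fintype.card_sigma]
  rw [sum_congr rfl (fun H _ => key H), sum_const, card_univ, Fintype.card_coe,
    card_evenClass (by simp) modelLines_steiner P4.oval0_hyperoval]
  decide

/-- With a second class, half of these automorphisms remain. -/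
theorem card_classAut_two (hm2 : 2 ≤ m) {M : Set (Finset (Fin m ⊕ Fin 21))} (hM : IsStd M) :
    Nat.card {g : Equiv.Perm (Fin 21) // IsClassAut m g} = 20160 := by
  classical
  have hm1 : 1 ≤ m := by omega
  set i0 : Fin m := ⟨0, hm1⟩
  set i1 : Fin m := ⟨1, hm2⟩
  have hc0 := std_cls_zero hm1 hM (i := i0) rfl
  have hc1 := std_cls_one hm1 hM (i := i1) rfl
  have hh : ∀ i, ∀ D ∈ cls M i, D.card = 6 ∧ IsArc P4.modelLines D :=
    fun i D hD => hM.lines ▸ cls_hyperoval hm1 hM.ext' hD
  set τ := P4.swap45 with hτ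
  have hτ2 : τ * τ = 1 := Equiv.ext fun x => P4.swapTable_inv x
  have hττ : ∀ R : Finset (Fin 21), (R.image τ).image τ = R := by
    intro R
    rw [image_image]
    conv_rhs => rw [← image_id (s := R)]
    exact image_congr fun x _ => P4.swapTable_inv x
  have hτK : IsClassAut 1 τ := by
    refine ⟨P4.swap45_mem, ?_, fun h => absurd h (by norm_num)⟩
    rw [P4.swap45_oval0, inter_self, P4.oval0_hyperoval.1]; decide
  -- `g` in the first group never sends `oval1` into the first class
  have hn0 : ∀ g, IsClassAut 1 g → P4.oval1.image g ∉ cls M i0 := by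
    intro g hg hmem
    have h0 : P4.oval0.image g ∈ cls M i0 := by
      rw [hc0]; exact mem_evenClass.2 ⟨hyperoval_image hg.1 P4.oval0_hyperoval, hg.2.1⟩
    have := cls_even hm1 hM.ext' hmem h0
    rw [card_image_inter_image] at this
    exact Nat.not_even_iff_odd.2 P4.odd_oval1_oval0 this
  have hτg : ∀ g, IsClassAut 1 g → IsClassAut 1 (τ * g) := by
    intro g hg
    refine ⟨Subgroup.mul_mem _ hτK.1 hg.1, ?_, fun h => absurd h (by norm_num)⟩
    rw [Equiv.Perm.coe_mul, ← image_image]
    nth_rewrite 2 [← P4.swap45_oval0]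
    rw [card_image_inter_image]; exact hg.2.1
  have hswap : ∀ g, IsClassAut 1 g →
      (¬ Even (P4.oval1.image g ∩ P4.oval1).card ↔ Even (P4.oval1.image (τ * g) ∩ P4.oval1).card) := by
    intro g hg
    have hg1 := hyperoval_image hg.1 P4.oval1_hyperoval
    have ht1 := hyperoval_image hτK.1 P4.oval1_hyperoval
    have hc : ∀ R, IsHyperoval P4.modelLines R →
        (R ∈ cls M i1 ↔ Even (R ∩ P4.oval1).card) := fun R hR => by
      rw [hc1, mem_evenClass]; exact ⟨fun h => h.2, fun h => ⟨hR, h⟩⟩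
    rw [Equiv.Perm.coe_mul, ← image_image]
    constructor
    · intro h
      have := third_class_even (by simp) modelLines_steiner (hh i0) (hh i1)
        (card_cls hm1 hM.ext' i0) (card_cls hm1 hM.ext' i1)
        (fun _ hD _ hD' => cls_even hm1 hM.ext' hD hD') (fun _ hD _ hD' => cls_even hm1 hM.ext' hD hD')
        (cls_disjoint hm1 hM.ext' (fun e => by simpa [i0, i1] using congrArg Fin.val e))
        hg1 ht1 (hn0 g hg) ((hc _ hg1).not.2 h) (hn0 τ hτK)
        ((hc _ ht1).not.2 (Nat.not_even_iff_odd.2 P4.odd_swap_oval1))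
      rw [← card_image_inter_image τ, hττ] at this
      exact this
    · intro h h'
      have hX := hyperoval_image hτK.1 hg1
      have hmem := (hc _ hX).2 h
      have : P4.oval1.image τ ∈ cls M i1 := by
        rw [cls_eq_evenClass hm1 hM hmem, mem_evenClass, inter_comm, card_image_inter_image]
        exact ⟨ht1, h'⟩
      exact Nat.not_even_iff_odd.2 P4.odd_swap_oval1 ((hc _ ht1).1 this)
  set K := (univ : Finset (Equiv.Perm (Fin 21))).filter (fun g => IsClassAut 1 g) with hK
  have hKc : K.card = 40320 := by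
    rw [← card_classAut_one, Nat.card_eq_fintype_card, Fintype.card_subtype]
  set P := fun g : Equiv.Perm (Fin 21) => Even (P4.oval1.image g ∩ P4.oval1).card with hP
  have hhalf : (K.filter P).card = (K.filter (fun g => ¬ P g)).card := by
    refine card_bij' (fun g _ => τ * g) (fun g _ => τ * g) ?_ ?_ ?_ ?_
    · intro g hg
      simp only [hK, mem_filter, mem_univ, true_and] at hg ⊢
      exact ⟨hτg g hg.1, fun h => (hswap g hg.1).2 h hg.2⟩
    · intro g hg
      simp only [hK, mem_filter, mem_univ, true_and] at hg ⊢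
      exact ⟨hτg g hg.1, (hswap g hg.1).1 hg.2⟩
    · intro g _; simp [← mul_assoc, hτ2]
    · intro g _; simp [← mul_assoc, hτ2]
  have hsum := card_filter_add_card_filter_not (s := K) (p := P)
  have : Nat.card {g : Equiv.Perm (Fin 21) // IsClassAut m g} = (K.filter P).card := by
    rw [Nat.card_eq_fintype_card, Fintype.card_subtype]
    refine congrArg card ?_
    ext g
    simp only [hK, hP, mem_filter, mem_univ, true_and]
    exact ⟨fun h => ⟨⟨h.1, h.2.1, fun h' => absurd h' (by norm_num)⟩, h.2.2 hm2⟩,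
      fun h => ⟨h.1.1, h.1.2.1, fun _ => h.2⟩⟩
  omega

/-- The pointwise stabiliser of `m` points is the group of class automorphisms. -/
theorem card_stabilizer_tuple (hm1 : 1 ≤ m) (hm3 : m ≤ 3) (hα : Fintype.card α = m + 21)
    (hB : IsExt m B) (x : Fin (m + 2) ↪ α) :
    Nat.card (stabilizer (Cfsg.setSystemAut B) ((Fin.castAddEmb 2).trans x : Fin m ↪ α))
      = Nat.card {g : Equiv.Perm (Fin 21) // IsClassAut m g} := by
  classical
  obtain ⟨e, he, hex⟩ := exists_std hm1 hα hB x
  set M := imgSys e B with hMdef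
  have hex' : ∀ i : Fin m, e (x (Fin.castAdd 2 i)) = Sum.inl i := fun i => by
    rw [hex]; simp [stdTuple]
  have hfixx : ∀ g : stabilizer (Cfsg.setSystemAut B) ((Fin.castAddEmb 2).trans x : Fin m ↪ α),
      ∀ i : Fin m, (g.1.1 : Equiv.Perm α) (x (Fin.castAdd 2 i)) = x (Fin.castAdd 2 i) :=
    fun g i => DFunLike.congr_fun g.2 i
  have hdec : ∀ g : stabilizer (Cfsg.setSystemAut B) ((Fin.castAddEmb 2).trans x : Fin m ↪ α),
      ∃ h : {g : Equiv.Perm (Fin 21) // IsClassAut m g},
        e.permCongr g.1.1 = (Equiv.refl (Fin m)).sumCongr h.1 := by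
    intro g
    set k := e.permCongr g.1.1 with hk
    have hkl : ∀ i, k (Sum.inl i) = Sum.inl i := by
      intro i
      rw [hk, Equiv.permCongr_apply, ← hex' i, Equiv.symm_apply_apply, hfixx]
    have hr : ∀ y, ∃ z, k (Sum.inr y) = Sum.inr z := by
      intro y
      rcases hy : k (Sum.inr y) with i | z
      · rw [← hkl i] at hy; exact absurd (k.injective hy) (by simp)
      · exact ⟨z, rfl⟩
    choose k' hk' using hr
    have hk'b : Function.Bijective k' := Finite.injective_iff_bijective.1 fun a b hab => by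
      have h2 : k (Sum.inr a) = k (Sum.inr b) := by rw [hk', hk', hab]
      exact Sum.inr_injective (k.injective h2)
    have heq : k = (Equiv.refl (Fin m)).sumCongr (Equiv.ofBijective k' hk'b) :=
      Equiv.ext fun z => by cases z <;> simp [hkl, hk']
    have hmem : k ∈ Cfsg.setSystemAut M := permCongr_mem_setSystemAut rfl g.1.2
    rw [heq, sumCongr_mem_iff hm1 hm3 he] at hmem
    exact ⟨⟨_, hmem⟩, heq⟩
  choose Φ hΦ using hdec
  refine Nat.card_eq_of_bijective Φ ⟨fun a b hab => ?_, fun h => ?_⟩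
  · have := (hΦ a).trans ((congrArg (fun h => (Equiv.refl (Fin m)).sumCongr h.1) hab).trans (hΦ b).symm)
    exact Subtype.ext (Subtype.ext (e.permCongr.injective this))
  · have hk : (Equiv.refl (Fin m)).sumCongr h.1 ∈ Cfsg.setSystemAut M :=
      (sumCongr_mem_iff hm1 hm3 he h.1).2 h.2
    have hmem := permCongr_mem_setSystemAut (imgSys_symm_eq (rfl : imgSys e B = M)) hk
    have hfix : (⟨_, hmem⟩ : Cfsg.setSystemAut B) • ((Fin.castAddEmb 2).trans x : Fin m ↪ α)
        = (Fin.castAddEmb 2).trans x := by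
      ext i
      show e.symm.permCongr ((Equiv.refl (Fin m)).sumCongr h.1) (x (Fin.castAdd 2 i)) = _
      rw [Equiv.permCongr_apply, Equiv.symm_symm, hex']
      show e.symm (Sum.inl i) = x (Fin.castAdd 2 i)
      rw [← hex', Equiv.symm_apply_apply]
    refine ⟨⟨⟨_, hmem⟩, hfix⟩, ?_⟩
    have hΦ' := hΦ ⟨⟨_, hmem⟩, hfix⟩
    refine Subtype.ext (Equiv.ext fun y => Sum.inr_injective (α := Fin m) ?_)
    have := congrArg (fun k : Equiv.Perm (Fin m ⊕ Fin 21) => k (Sum.inr y)) hΦ'
    simpa [Equiv.permCongr_apply] using this.symm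

/-- The order of the automorphism group of an extension. -/
theorem ext_aut_card (hm1 : 1 ≤ m) (hm3 : m ≤ 3) (hα : Fintype.card α = m + 21) (hB : IsExt m B) :
    Nat.card (Cfsg.setSystemAut B)
      = (m + 21).descFactorial m * (if m = 1 then 40320 else 20160) := by
  classical
  haveI := ext_aut_transitive hm1 hm3 hα hB
  have hmt : IsMultiplyPretransitive (Cfsg.setSystemAut B) α m :=
    isMultiplyPretransitive_of_le (n := m + 2) (by omega)
      (by rw [Nat.card_eq_fintype_card, hα]; omega)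
  haveI : IsPretransitive (Cfsg.setSystemAut B) (Fin m ↪ α) := hmt
  obtain ⟨x⟩ : Nonempty (Fin (m + 2) ↪ α) := Function.Embedding.nonempty_of_card_le (by simp [hα])
  have h := (stabilizer (Cfsg.setSystemAut B)
    ((Fin.castAddEmb 2).trans x : Fin m ↪ α)).index_mul_card
  have hidx := @index_stabilizer_of_transitive (Cfsg.setSystemAut B) (Fin m ↪ α) _ _
    ((Fin.castAddEmb 2).trans x) hmt
  rw [hidx, card_stabilizer_tuple hm1 hm3 hα hB x] at h
  rw [← h, Nat.card_eq_fintype_card, Fintype.card_embedding_eq, Fintype.card_fin, hα]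
  split_ifs with h1
  · subst h1; rw [card_classAut_one]
  · obtain ⟨e, he⟩ := exists_std' hm1 hα hB
    rw [card_classAut_two (by omega) he]

/-- An odd automorphism of an S(3,6,22) fixing any three given points. -/
theorem exists_odd_fixing (hα : Fintype.card α = 22) (hB : IsExt 1 B) (x : Fin 3 ↪ α) :
    ∃ g : Equiv.Perm α, g ∈ Cfsg.setSystemAut B ∧ Equiv.Perm.sign g = -1 ∧ ∀ i, g (x i) = x i := by
  obtain ⟨e, he, hex⟩ := exists_std le_rfl hα hB x
  have hcl : IsClassAut 1 P4.swap45 :=
    ⟨P4.swap45_mem, by rw [P4.swap45_oval0, inter_self, P4.oval0_hyperoval.1]; decide,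
      fun h => absurd h (by norm_num)⟩
  refine ⟨e.symm.permCongr ((Equiv.refl (Fin 1)).sumCongr P4.swap45),
    permCongr_mem_setSystemAut (imgSys_symm_eq rfl)
      ((sumCongr_mem_iff le_rfl (by norm_num) he _).2 hcl), ?_, fun i => ?_⟩
  · rw [Equiv.Perm.sign_permCongr, Equiv.Perm.sign_sumCongr, Equiv.Perm.sign_refl, one_mul,
      P4.swap45_sign]
  · rw [Equiv.permCongr_apply, Equiv.symm_symm, hex, Equiv.symm_apply_eq, hex]
    fin_cases i <;> simp [stdTuple, P4.swap45_fix]

end Cfsg.Agent.H10
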