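import Cfsg.Agent.H10.Plane4

/-!
Hyperovals of a plane of order 4 through a given arc, and the 56 hyperovals meeting a given one
evenly.
-/

set_option autoImplicit false
set_option linter.unusedSectionVars false

open Finset

namespace Cfsg.Agent.H10

variable {α : Type*} [DecidableEq α] [Fintype α] {L : Set (Finset α)}

/-- The hyperovals meeting `H` evenly. -/
noncomputable def evenClass (L : Set (Finset α)) (H : Finset α) : Finset (Finset α) :=
  (arcs L 6).filter fun D => Even (D ∩ H).card

/-- Membership in `evenClass`. -/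
@[simp] theorem mem_evenClass {H D : Finset α} :
    D ∈ evenClass L H ↔ (D.card = 6 ∧ IsArc L D) ∧ Even (D ∩ H).card := by
  simp [evenClass]

variable (hα : Fintype.card α = 21) (hL : Cfsg.IsSteinerSystem 2 5 L)
include hα hL

/-- Double counting of the hyperovals through a small arc. -/
theorem through_step {u : Finset α} (hu : IsArc L u) :
    ((arcs L 6).filter (fun H => u ⊆ H)).card * (6 - u.card)
      = ∑ x ∈ freePts L u, ((arcs L 6).filter (fun H => insert x u ⊆ H)).card := by
  have h1 : ∀ H ∈ (arcs L 6).filter (fun H => u ⊆ H),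
      ((freePts L u).filter (fun x => x ∈ H)).card = 6 - u.card := by
    intro H hH
    rw [mem_filter, mem_arcs] at hH
    have : (freePts L u).filter (fun x => x ∈ H) = H \ u := by
      ext x
      simp only [mem_filter, mem_sdiff]
      exact ⟨fun h => ⟨h.2, (mem_freePts.1 h.1).1⟩, fun h =>
        ⟨((isArc_insert h.2).1 (hH.1.2.mono (insert_subset h.1 hH.2))).2, h.1⟩⟩
    rw [this, card_sdiff_of_subset hH.2, hH.1.1]
  calc ((arcs L 6).filter (fun H => u ⊆ H)).card * (6 - u.card)
      = ∑ H ∈ (arcs L 6).filter (fun H => u ⊆ H),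
          ((freePts L u).filter (fun x => x ∈ H)).card := by
        rw [sum_congr rfl h1, sum_const, smul_eq_mul]
    _ = ∑ x ∈ freePts L u,
          (((arcs L 6).filter (fun H => u ⊆ H)).filter (fun H => x ∈ H)).card := by
        simp only [card_filter]
        exact sum_comm
    _ = _ := by
        refine sum_congr rfl fun x _ => ?_
        rw [filter_filter]
        exact congrArg card (filter_congr fun H _ => by rw [insert_subset_iff, and_comm])

/-- The hyperovals through an arc inside a hyperoval, or through any arc of at most four points. -/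
theorem through_arc {u : Finset α} (hu : IsArc L u)
    (hc : u.card ≤ 4 ∨ ∃ H ∈ arcs L 6, u ⊆ H) :
    ((arcs L 6).filter (fun H => u ⊆ H)).card = [168, 48, 12, 3, 1, 1, 1].getD u.card 0 := by
  have four : ∀ u : Finset α, IsArc L u → 4 ≤ u.card →
      (u.card = 4 ∨ ∃ H ∈ arcs L 6, u ⊆ H) →
      ((arcs L 6).filter (fun H => u ⊆ H)).card = 1 := by
    intro u hu h4 hor
    obtain ⟨Q, hQ, hQc⟩ := exists_subset_card_eq h4
    have hone : ∀ H ∈ arcs L 6, u ⊆ H → H = Q ∪ freePts L Q := fun H hH huH =>
      hyperoval_unique hα hL hQc (mem_arcs.1 hH) (hQ.trans huH)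
    rw [card_eq_one]
    refine ⟨Q ∪ freePts L Q, ?_⟩
    ext H
    simp only [mem_filter, mem_singleton]
    refine ⟨fun h => hone H h.1 h.2, fun h => ?_⟩
    subst h
    refine ⟨mem_arcs.2 (hyperoval_of_quad hα hL (hu.mono hQ) hQc), ?_⟩
    rcases hor with h | ⟨H', hH', huH'⟩
    · rw [eq_of_subset_of_card_le hQ (by omega)]
      exact subset_union_left
    · exact (hone H' hH' huH') ▸ huH'
  have step : ∀ n f N : ℕ, n ≤ 3 → [21, 20, 16, 9].getD n 0 = f →
      (∀ v : Finset α, IsArc L v → v.card = n + 1 →
        ((arcs L 6).filter (fun H => v ⊆ H)).card = N) →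
      ∀ v : Finset α, IsArc L v → v.card = n →
        ((arcs L 6).filter (fun H => v ⊆ H)).card * (6 - n) = f * N := by
    intro n f N hn hf hN v hv hvc
    subst hvc
    rw [through_step hα hL hv, sum_congr rfl (g := fun _ => N) (fun x hx => ?_), sum_const,
      smul_eq_mul, card_free_small hα hL hv hn, hf]
    exact hN _ ((isArc_insert (mem_freePts.1 hx).1).2 ⟨hv, hx⟩)
      (by rw [card_insert_of_notMem (mem_freePts.1 hx).1])
  have n4 : ∀ v : Finset α, IsArc L v → v.card = 4 →
      ((arcs L 6).filter (fun H => v ⊆ H)).card = 1 := fun v hv h => four v hv h.ge (Or.inl h)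
  have n3 : ∀ v : Finset α, IsArc L v → v.card = 3 →
      ((arcs L 6).filter (fun H => v ⊆ H)).card = 3 := fun v hv h => by
    have := step 3 9 1 le_rfl rfl n4 v hv h; omega
  have n2 : ∀ v : Finset α, IsArc L v → v.card = 2 →
      ((arcs L 6).filter (fun H => v ⊆ H)).card = 12 := fun v hv h => by
    have := step 2 16 3 (by omega) rfl n3 v hv h; omega
  have n1 : ∀ v : Finset α, IsArc L v → v.card = 1 →
      ((arcs L 6).filter (fun H => v ⊆ H)).card = 48 := fun v hv h => by
    have := step 1 20 12 (by omega) rfl n2 v hv h; omega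
  rcases le_or_gt 4 u.card with h | h
  · have h6 : u.card ≤ 6 := by
      rcases hc with h' | ⟨H, hH, huH⟩
      · omega
      · rw [← (mem_arcs.1 hH).1]; exact card_le_card huH
    rw [four u hu h (hc.imp (fun h' => le_antisymm h' h) id)]
    interval_cases u.card <;> rfl
  · interval_cases hn : u.card
    · rw [card_eq_zero] at hn
      subst hn
      simpa using card_hyperovals hα hL
    · simpa using n1 u hu hn
    · simpa using n2 u hu hn
    · simpa using n3 u hu hn

/-- Exactly 56 hyperovals meet a given one evenly. -/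
theorem card_evenClass {H : Finset α} (hH : IsHyperoval L H) : (evenClass L H).card = 56 := by
  have hcount := card_inter_card_eq (arcs L 6) H (fun i => [168, 48, 12, 3, 1, 1, 1].getD i 0)
    (fun i => [10, 12, 3, 2, 0, 0, 1].getD i 0)
    (fun u hu => through_arc hα hL (hH.2.mono hu) (Or.inr ⟨H, mem_arcs.2 hH, hu⟩))
    (by rw [hH.1]; decide)
  rw [hH.1] at hcount
  have h7 : ∀ D : Finset α, (D ∩ H).card ≤ 6 := fun D => hH.1 ▸ card_le_card inter_subset_right
  rw [evenClass, card_eq_sum_card_fiberwise (f := fun D => (D ∩ H).card) (t := range 7)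
    (fun D _ => by simp [Nat.lt_succ_of_le (h7 D)])]
  rw [sum_congr rfl
    (g := fun i => if Even i then ((arcs L 6).filter (fun D => (D ∩ H).card = i)).card else 0)
    (fun i _ => ?_)]
  · rw [sum_congr rfl
      (g := fun i => if Even i then Nat.choose 6 i * [10, 12, 3, 2, 0, 0, 1].getD i 0 else 0)
      (fun i _ => by rw [hcount i])]
    decide
  · rw [filter_filter]
    split_ifs with hi
    · exact congrArg card (filter_congr fun D _ => ⟨fun h => h.2, fun h => ⟨h ▸ hi, h⟩⟩)
    · rw [card_eq_zero, filter_eq_empty_iff]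
      exact fun D _ h => hi (h.2 ▸ h.1)

/-- A set of 56 hyperovals meeting each other evenly is the class of each of its members. -/
theorem eq_evenClass {C : Finset (Finset α)} (hC : ∀ D ∈ C, D.card = 6 ∧ IsArc L D)
    (h56 : C.card = 56) (hev : ∀ D ∈ C, ∀ D' ∈ C, Even (D ∩ D').card) {H : Finset α} (hH : H ∈ C) :
    C = evenClass L H :=
  eq_of_subset_of_card_le (fun D hD => mem_evenClass.2 ⟨hC D hD, hev D hD H hH⟩)
    (by rw [h56, card_evenClass hα hL (hC H hH)])

/-- Given two such sets meeting each other oddly, the hyperovals outside both meet evenly. -/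
theorem third_class_even {C C' : Finset (Finset α)} (hC : ∀ D ∈ C, D.card = 6 ∧ IsArc L D)
    (hC' : ∀ D ∈ C', D.card = 6 ∧ IsArc L D) (h56 : C.card = 56) (h56' : C'.card = 56)
    (hev : ∀ D ∈ C, ∀ D' ∈ C, Even (D ∩ D').card) (hev' : ∀ D ∈ C', ∀ D' ∈ C', Even (D ∩ D').card)
    (hdisj : Disjoint C C') {D E : Finset α} (hD : D.card = 6 ∧ IsArc L D)
    (hE : E.card = 6 ∧ IsArc L E) (hDC : D ∉ C) (hDC' : D ∉ C') (hEC : E ∉ C) (hEC' : E ∉ C') :
    Even (D ∩ E).card := by
  set R := arcs L 6 \ (C ∪ C') with hR
  have hRc : R.card = 56 := by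
    rw [hR, card_sdiff_of_subset, card_union_of_disjoint hdisj, card_hyperovals hα hL, h56, h56']
    exact union_subset (fun X hX => mem_arcs.2 (hC X hX)) (fun X hX => mem_arcs.2 (hC' X hX))
  have hsub : evenClass L D ⊆ R := by
    intro X hX
    rw [mem_evenClass] at hX
    rw [hR, mem_sdiff, mem_union, mem_arcs]
    refine ⟨hX.1, ?_⟩
    rintro (h | h)
    · rw [eq_evenClass hα hL hC h56 hev h, mem_evenClass] at hDC
      exact hDC ⟨hD, by rw [inter_comm]; exact hX.2⟩
    · rw [eq_evenClass hα hL hC' h56' hev' h, mem_evenClass] at hDC'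
      exact hDC' ⟨hD, by rw [inter_comm]; exact hX.2⟩
  have he : evenClass L D = R := eq_of_subset_of_card_le hsub
    (by rw [hRc, card_evenClass hα hL hD])
  have hER : E ∈ R := by simp [hR, hE, hEC, hEC']
  rw [← he, mem_evenClass, inter_comm] at hER
  exact hER.2

end Cfsg.Agent.H10
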