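import Cfsg.Agent.H10.Plane4Coord
import Cfsg.Agent.H10.Plane4Classes

/-!
Distinguished hyperovals of the model plane of order 4, and an automorphism fixing one of them and
moving the class of the other.
-/

set_option autoImplicit false

open Finset

namespace Cfsg.Agent.H10.P4

/-- The standard hyperoval `{0, ..., 5}`. -/
def oval0 : Finset (Fin 21) := univ.image ovalPt

/-- A hyperoval meeting `oval0` oddly. -/
def oval1 : Finset (Fin 21) := {0, 1, 2, 13, 17, 19}

/-- The table of the automorphism extending the transposition `(4 5)`. -/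
def swapTable : Fin 21 → Fin 21 :=
  ![0, 1, 2, 3, 5, 4, 6, 8, 7, 9, 11, 10, 12, 14, 13, 18, 19, 20, 15, 16, 17]

theorem swapTable_inv : ∀ x, swapTable (swapTable x) = x := by decide +kernel

/-- The automorphism extending the transposition `(4 5)`. -/
def swap45 : Equiv.Perm (Fin 21) :=
  ⟨swapTable, swapTable, swapTable_inv, swapTable_inv⟩

theorem swap45_lines : ∀ m ∈ lineMasks, (maskSet m).image swap45 ∈ lineMasks.map maskSet := by
  decide +kernel

/-- `swap45` maps lines to lines. -/
theorem swap45_mem : swap45 ∈ Cfsg.setSystemAut modelLines := by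
  refine mem_setSystemAut_of_forall ?_
  rintro l ⟨m, hm, rfl⟩
  exact List.mem_map.1 (swap45_lines m hm)

theorem oval0_arc_masks : ∀ m ∈ lineMasks, (maskSet m ∩ oval0).card ≤ 2 := by decide +kernel

theorem oval1_arc_masks : ∀ m ∈ lineMasks, (maskSet m ∩ oval1).card ≤ 2 := by decide +kernel

/-- `oval0` is a hyperoval. -/
theorem oval0_hyperoval : IsHyperoval modelLines oval0 :=
  ⟨by decide, by rintro l ⟨m, hm, rfl⟩; exact oval0_arc_masks m hm⟩

/-- `oval1` is a hyperoval. -/
theorem oval1_hyperoval : IsHyperoval modelLines oval1 :=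
  ⟨by decide, by rintro l ⟨m, hm, rfl⟩; exact oval1_arc_masks m hm⟩

theorem odd_oval1_oval0 : Odd (oval1 ∩ oval0).card := by decide

theorem odd_swap_oval0 : Odd (oval1.image swap45 ∩ oval0).card := by decide

theorem odd_swap_oval1 : Odd (oval1.image swap45 ∩ oval1).card := by decide

theorem swap45_oval0 : oval0.image swap45 = oval0 := by decide

theorem swap45_fix : ∀ a : Fin 6, (a : ℕ) < 2 → swap45 (ovalPt a) = ovalPt a := by decide

theorem swap45_sign : Equiv.Perm.sign swap45 = -1 := by
  rw [Equiv.Perm.sign_of_pow_two_eq_one (by ext x; simp [pow_two, swap45, swapTable_inv])]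
  decide

end Cfsg.Agent.H10.P4
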