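import Cfsg.Agent.H10.SimpleCriteria

/-!
Simplicity of a group from its order and a transitive action of prime, or twice prime, degree.
-/

set_option autoImplicit false
set_option linter.unusedSectionVars false
set_option linter.style.haveILetI false

open MulAction

namespace Cfsg.Agent.H10

variable {G X : Type*} [Group G] [MulAction G X]

/-- With a self-centralizing Sylow subgroup of prime order `p`, the normalizer has order
`p * (M % p)`, where `M` is the index of the Sylow subgroup. -/
theorem card_normalizer_eq_of_self_centralizing [Finite G] {p M : ℕ} [Fact p.Prime]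
    (hG : Nat.card G = p * M) (P : Sylow p G) (hP : Nat.card (P : Subgroup G) = p)
    (hC : Nat.card (Subgroup.centralizer ((P : Subgroup G) : Set G)) = p) :
    Nat.card (Subgroup.normalizer ((P : Subgroup G) : Set G)) = p * (M % p) := by
  have hp : p.Prime := Fact.out
  haveI : IsCyclic (P : Subgroup G) := isCyclic_of_prime_card hP
  set N := Subgroup.normalizer ((P : Subgroup G) : Set G) with hN
  obtain ⟨e, he⟩ : p ∣ Nat.card N := hP ▸ Subgroup.card_dvd_of_le Subgroup.le_normalizer
  have key := Subgroup.card_dvd_of_injective _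
    (QuotientGroup.kerLift_injective (P : Subgroup G).normalizerMonoidHom)
  rw [IsCyclic.card_mulAut, hP, Nat.totient_prime hp] at key
  have hker : Nat.card (P : Subgroup G).normalizerMonoidHom.ker = p := by
    rw [Subgroup.normalizerMonoidHom_ker,
      Nat.card_congr (Subgroup.subgroupOfEquivOfLe
        (fun x hx => Subgroup.centralizer_le_normalizer _ hx)).toEquiv, hC]
  have hmul := Subgroup.card_eq_card_quotient_mul_card_subgroup
    (P : Subgroup G).normalizerMonoidHom.ker
  rw [hker, he, mul_comm p e] at hmul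
  rw [← Nat.eq_of_mul_eq_mul_right hp.pos hmul] at key
  have he1 : e < p := by
    have := Nat.le_of_dvd (by have := hp.one_lt; omega) key
    have := hp.one_lt
    omega
  have hidx : N.index * Nat.card N = Nat.card G := by rw [Subgroup.index_mul_card]
  rw [he, hG, ← mul_assoc, mul_comm N.index p, mul_assoc] at hidx
  have hM : N.index * e = M := Nat.eq_of_mul_eq_mul_left hp.pos hidx
  have h1 : N.index ≡ 1 [MOD p] := P.card_eq_index_normalizer ▸ card_sylow_modEq_one p G
  have h2 := h1.mul_right e
  rw [hM, one_mul, Nat.ModEq, Nat.mod_eq_of_lt he1] at h2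
  rw [he, h2]

/-- An element commuting with a fixed-point-free `π` of prime order, of order prime to it, and
fixing every orbit, is trivial. -/
theorem eq_one_of_fixes_orbits [FaithfulSMul G X] {p : ℕ} [Fact p.Prime] {π g : G}
    (hπ : orderOf π = p) (hfree : ∀ x : X, π • x ≠ x) (hco : Commute g π)
    (hg : (orderOf g).Coprime p) (horb : ∀ x : X, ∃ k : ℕ, g • x = π ^ k • x) : g = 1 := by
  refine FaithfulSMul.eq_of_smul_eq_smul (α := X) fun x => ?_
  rw [one_smul]
  obtain ⟨k, hk⟩ := horb x
  have hm : ∀ m : ℕ, g ^ m • x = π ^ (k * m) • x := by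
    intro m
    induction m with
    | zero => simp
    | succ m ih =>
      rw [pow_succ', mul_smul, ih, ← mul_smul, (hco.pow_right _).eq, mul_smul, hk, ← mul_smul,
        ← pow_add]
      ring_nf
  by_cases hpk : p ∣ k
  · rw [hk, orderOf_dvd_iff_pow_eq_one.1 (hπ ▸ hpk), one_smul]
  exfalso
  have h1 := hm (orderOf g)
  rw [pow_orderOf_eq_one, one_smul] at h1
  have hne : ¬ p ∣ k * orderOf g := fun h =>
    hpk ((Nat.Coprime.symm hg).dvd_of_dvd_mul_right h)
  obtain ⟨j, hj⟩ := exists_pow_eq_self_of_coprime (x := π) (n := k * orderOf g)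
    (by rw [hπ]; exact ((Fact.out : p.Prime).coprime_iff_not_dvd.2 hne).symm)
  have hfix : ∀ i : ℕ, (π ^ (k * orderOf g)) ^ i • x = x := by
    intro i
    induction i with
    | zero => simp
    | succ i ih => rw [pow_succ, mul_smul, ← h1, ih]
  exact hfree x (by rw [← hj]; exact hfix j)

/-- The `p` translates of a point under a fixed-point-free element of prime order are distinct. -/
theorem orbit_injective {p : ℕ} [Fact p.Prime] {π : G} (hπ : orderOf π = p)
    (hfree : ∀ x : X, π • x ≠ x) (x : X) :
    Function.Injective (fun k : Fin p => π ^ (k : ℕ) • x) := by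
  have hp : p.Prime := Fact.out
  have key : ∀ i j : ℕ, i < j → j < p → π ^ i • x ≠ π ^ j • x := by
    intro i j hij hjp h
    have h' : π ^ (j - i) • x = x := by
      rw [show j = (j - i) + i by omega, pow_add, mul_smul] at h
      have e : π ^ i • (π ^ (j - i) • x) = π ^ i • x := by
        rw [← mul_smul, (Commute.pow_pow_self π i (j - i)).eq, mul_smul]; exact h.symm
      exact smul_left_cancel _ e
    obtain ⟨l, hl⟩ := exists_pow_eq_self_of_coprime (x := π) (n := j - i)
      (by rw [hπ]; exact ((hp.coprime_iff_not_dvd).2 fun hd => by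
            have := Nat.le_of_dvd (by omega) hd; omega).symm)
    have hfix : ∀ n : ℕ, (π ^ (j - i)) ^ n • x = x := by
      intro n
      induction n with
      | zero => simp
      | succ n ih => rw [pow_succ, mul_smul, h', ih]
    exact hfree x (by rw [← hl]; exact hfix l)
  intro a b hab
  rcases lt_trichotomy (a : ℕ) (b : ℕ) with h | h | h
  · exact absurd hab (key a b h b.2)
  · exact Fin.ext h
  · exact absurd hab.symm (key b a h a.2)

/-- A Sylow subgroup of prime order is generated by a fixed-point-free element, if point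
stabilisers have order prime to `p`. -/
theorem exists_free_generator [Finite G] {p : ℕ} [Fact p.Prime] (P : Sylow p G)
    (hP : Nat.card (P : Subgroup G) = p) (hs : ∀ x : X, ¬ p ∣ Nat.card (stabilizer G x)) :
    ∃ π : G, π ∈ (P : Subgroup G) ∧ orderOf π = p ∧ ∀ x : X, π • x ≠ x := by
  have hp : p.Prime := Fact.out
  obtain ⟨π, hπ⟩ := exists_prime_orderOf_dvd_card' p (dvd_of_eq hP.symm)
  refine ⟨π, π.2, by rw [Subgroup.orderOf_coe, hπ], fun x hx => hs x ?_⟩
  have hm : (π : G) ∈ stabilizer G x := hx
  rw [← hπ, ← Subgroup.orderOf_coe, ← Subgroup.orderOf_mk (π : G) hm]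
  exact orderOf_dvd_natCard _

/-- If the only element of order prime to `p` centralizing the Sylow subgroup is trivial, the
centralizer has order `p`. -/
theorem card_centralizer_eq [Finite G] {p : ℕ} [Fact p.Prime] (P : Sylow p G)
    (hP : Nat.card (P : Subgroup G) = p) (hp2 : ¬ p ^ 2 ∣ Nat.card G)
    (h : ∀ g : G, (∀ m ∈ (P : Subgroup G), Commute g m) → (orderOf g).Coprime p → g = 1) :
    Nat.card (Subgroup.centralizer ((P : Subgroup G) : Set G)) = p := by
  have hp : p.Prime := Fact.out
  haveI : IsCyclic (P : Subgroup G) := isCyclic_of_prime_card hP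
  set C := Subgroup.centralizer ((P : Subgroup G) : Set G) with hC
  have hPC : (P : Subgroup G) ≤ C := by
    intro x hx
    rw [hC, Subgroup.mem_centralizer_iff]
    intro m hm
    letI := IsCyclic.commGroup (α := (P : Subgroup G))
    exact congrArg Subtype.val (mul_comm (⟨m, hm⟩ : (P : Subgroup G)) ⟨x, hx⟩)
  obtain ⟨c, hc⟩ : p ∣ Nat.card C := hP ▸ Subgroup.card_dvd_of_le hPC
  by_contra hne
  have hc1 : c ≠ 1 := fun e => hne (by rw [hc, e, mul_one])
  set q := c.minFac with hq
  haveI : Fact q.Prime := ⟨Nat.minFac_prime hc1⟩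
  have hqp : q ≠ p := by
    intro e
    refine hp2 (dvd_trans ?_ (Subgroup.card_subgroup_dvd_card C))
    rw [pow_two, hc]
    exact mul_dvd_mul_left p (e ▸ Nat.minFac_dvd c)
  obtain ⟨g, hg⟩ := exists_prime_orderOf_dvd_card' q
    (((Nat.minFac_dvd c).trans (dvd_mul_left c p)).trans (dvd_of_eq hc.symm) : q ∣ Nat.card C)
  have hgcop : (orderOf (g : G)).Coprime p := by
    rw [Subgroup.orderOf_coe, hg]
    exact (Nat.coprime_primes Fact.out hp).2 hqp
  have h1 := h g (fun m hm => ((Subgroup.mem_centralizer_iff.1 g.2) m hm).symm) hgcop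
  rw [← Subgroup.orderOf_coe, h1, orderOf_one] at hg
  exact (Fact.out : q.Prime).one_lt.ne hg

/-- A transitive group of prime degree `p` and order `p * M` is simple if `M % p` is prime and
differs from `M`. -/
theorem isSimpleGroup_of_prime_degree [Finite G] [Finite X] [FaithfulSMul G X] [IsPretransitive G X]
    {p M : ℕ} [Fact p.Prime] (hX : Nat.card X = p) (hG : Nat.card G = p * M) (hM : ¬ p ∣ M)
    (hd : (M % p).Prime) (hne : M ≠ M % p) : IsSimpleGroup G := by
  classical
  have hp : p.Prime := Fact.out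
  haveI : Nonempty X := (Nat.card_pos_iff.1 (hX ▸ hp.pos)).1
  haveI : IsPreprimitive G X := IsPreprimitive.of_prime_card (hX ▸ hp)
  have hp2 : ¬ p ^ 2 ∣ Nat.card G := by
    rw [hG, pow_two, Nat.mul_dvd_mul_iff_left hp.pos]; exact hM
  obtain ⟨P⟩ := (inferInstance : Nonempty (Sylow p G))
  have hP : Nat.card (P : Subgroup G) = p := by
    rw [P.card_eq_multiplicity, hG, Nat.factorization_mul hp.ne_zero (by rintro rfl; simp at hM),
      Finsupp.add_apply, hp.factorization_self, Nat.factorization_eq_zero_of_not_dvd hM, pow_one]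
  have hs : ∀ x : X, ¬ p ∣ Nat.card (stabilizer G x) := by
    intro x hdvd
    have h := (stabilizer G x).card_mul_index
    rw [index_stabilizer_of_transitive, hX, hG, mul_comm p M] at h
    exact hM (Nat.eq_of_mul_eq_mul_right hp.pos h ▸ hdvd)
  obtain ⟨π, hπP, hπ, hfree⟩ := exists_free_generator P hP hs
  have hC := card_centralizer_eq P hP hp2 fun g hg hco => by
    refine eq_one_of_fixes_orbits (X := X) hπ hfree (hg π hπP) hco fun x => ?_
    have hb := (orbit_injective hπ hfree x).bijective_of_nat_card_le (by simp [hX])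
    obtain ⟨k, hk⟩ := hb.2 (g • x)
    exact ⟨k, hk.symm⟩
  exact isSimpleGroup_of_normalizer (X := X) hd (dvd_of_eq hX.symm) P hP
    (card_normalizer_eq_of_self_centralizing hG P hP hC)
    (fun e => hne (Nat.eq_of_mul_eq_mul_left hp.pos (hG.symm.trans e)))

/-- A primitive group of even permutations of degree `2 * p`, `p` an odd prime, of order `p * M` is
simple if `M % p` is prime and differs from `M`. -/
theorem isSimpleGroup_of_twice_prime_degree [Finite G] [Fintype X] [DecidableEq X]
    [FaithfulSMul G X] [IsPreprimitive G X] {p M : ℕ} [Fact p.Prime] (hp_odd : Odd p)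
    (hX : Fintype.card X = 2 * p) (hG : Nat.card G = p * M) (hM : ¬ p ∣ M)
    (heven : ∀ g : G, Equiv.Perm.sign (MulAction.toPerm g : Equiv.Perm X) = 1)
    (hd : (M % p).Prime) (hne : M ≠ M % p) : IsSimpleGroup G := by
  classical
  have hp : p.Prime := Fact.out
  haveI : Nonempty X := Fintype.card_pos_iff.1 (by rw [hX]; have := hp.pos; omega)
  have hp2 : ¬ p ^ 2 ∣ Nat.card G := by
    rw [hG, pow_two, Nat.mul_dvd_mul_iff_left hp.pos]; exact hM
  obtain ⟨P⟩ := (inferInstance : Nonempty (Sylow p G))
  have hP : Nat.card (P : Subgroup G) = p := by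
    rw [P.card_eq_multiplicity, hG, Nat.factorization_mul hp.ne_zero (by rintro rfl; simp at hM),
      Finsupp.add_apply, hp.factorization_self, Nat.factorization_eq_zero_of_not_dvd hM, pow_one]
  have hs : ∀ x : X, ¬ p ∣ Nat.card (stabilizer G x) := by
    intro x hdvd
    have h := (stabilizer G x).card_mul_index
    rw [index_stabilizer_of_transitive, @Nat.card_eq_fintype_card X, hX, hG, mul_comm p M,
      ← mul_assoc] at h
    exact hM (hdvd.trans ⟨2, (Nat.eq_of_mul_eq_mul_right hp.pos h).symm⟩)
  obtain ⟨π, hπP, hπ, hfree⟩ := exists_free_generator P hP hs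
  have hC := card_centralizer_eq P hP hp2 fun g hg hco => by
    have hgc : Commute g π := hg π hπP
    let O : X → Finset X := fun x => Finset.univ.image fun k : Fin p => π ^ (k : ℕ) • x
    have hO : ∀ x, (O x).card = p := fun x => by
      rw [Finset.card_image_of_injective _ (orbit_injective hπ hfree x), Finset.card_univ,
        Fintype.card_fin]
    have hmem : ∀ x y, y ∈ O x ↔ ∃ k : ℕ, π ^ k • x = y := fun x y => by
      simp only [O, Finset.mem_image, Finset.mem_univ, true_and]
      refine ⟨fun ⟨k, hk⟩ => ⟨k, hk⟩, fun ⟨k, hk⟩ => ⟨⟨k % p, Nat.mod_lt _ hp.pos⟩, ?_⟩⟩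
      show π ^ (k % p) • x = y
      rw [← hπ, pow_mod_orderOf, hk]
    have hsymm : ∀ x y, y ∈ O x → x ∈ O y := by
      intro x y hy
      obtain ⟨k, hk⟩ := (hmem _ _).1 hy
      refine (hmem _ _).2 ⟨(p - 1) * k, ?_⟩
      rw [← hk, ← mul_smul, ← pow_add, show (p - 1) * k + k = p * k by
        obtain ⟨p', hp'⟩ : ∃ p', p = p' + 1 := ⟨p - 1, by have := hp.pos; omega⟩
        rw [hp', Nat.add_sub_cancel]; ring]
      rw [pow_mul, ← hπ, pow_orderOf_eq_one, one_pow, one_smul]
    have htrans : ∀ x y z, y ∈ O x → z ∈ O y → z ∈ O x := by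
      intro x y z hy hz
      obtain ⟨k, hk⟩ := (hmem _ _).1 hy
      obtain ⟨l, hl⟩ := (hmem _ _).1 hz
      exact (hmem _ _).2 ⟨l + k, by rw [pow_add, mul_smul, hk, hl]⟩
    have hout : ∀ x y z, y ∉ O x → z ∉ O x → z ∈ O y := by
      intro x y z hy hz
      by_contra hzy
      have hd : Disjoint (O x) (O y) := by
        rw [Finset.disjoint_left]
        exact fun w hwx hwy => hy (htrans x w y hwx (hsymm y w hwy))
      have hu : O x ∪ O y = Finset.univ := Finset.eq_univ_of_card _ (by
        rw [Finset.card_union_of_disjoint hd, hO, hO, hX]; ring)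
      have hz' : z ∈ O x ∪ O y := hu ▸ Finset.mem_univ z
      rw [Finset.mem_union] at hz'
      exact hz'.elim hz hzy
    have hmap : ∀ x y, y ∈ O x → g • y ∈ O (g • x) := by
      intro x y hy
      obtain ⟨k, hk⟩ := (hmem _ _).1 hy
      exact (hmem _ _).2 ⟨k, by rw [← hk, ← mul_smul, ← mul_smul, (hgc.pow_right k).eq]⟩
    have hmap' : ∀ x y, g • y ∈ O (g • x) → y ∈ O x := by
      intro x y hy
      obtain ⟨k, hk⟩ := (hmem _ _).1 hy
      refine (hmem _ _).2 ⟨k, smul_left_cancel g ?_⟩
      rw [← mul_smul, (hgc.pow_right k).eq, mul_smul, hk]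
    by_cases hfix : ∀ x, g • x ∈ O x
    · exact eq_one_of_fixes_orbits (X := X) hπ hfree hgc hco fun x => by
        obtain ⟨k, hk⟩ := (hmem _ _).1 (hfix x); exact ⟨k, hk.symm⟩
    exfalso
    obtain ⟨x₀, hx₀⟩ := not_forall.1 hfix
    have hswap : ∀ y, g • y ∉ O y := by
      intro y hy
      by_cases hyx : y ∈ O x₀
      · exact hx₀ (htrans _ _ _ (htrans _ _ _ hyx hy) (hsymm _ _ (hmap _ _ hyx)))
      · -- `y` is in the orbit of `g • x₀`
        have h1 : y ∈ O (g • x₀) := hsymm _ _ (hout x₀ y (g • x₀) hyx hx₀)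
        have h2 : g • y ∈ O (g • x₀) := htrans _ _ _ h1 hy
        exact hyx (hmap' _ _ h2)
    have hsq : g ^ 2 = 1 := by
      refine eq_one_of_fixes_orbits (X := X) hπ hfree (hgc.pow_left 2)
        (hco.coprime_dvd_left (orderOf_dvd_of_pow_eq_one (by
          rw [← pow_mul, mul_comm, pow_mul, pow_orderOf_eq_one, one_pow]))) fun y => ?_
      have : g ^ 2 • y ∈ O y := by
        rw [pow_two, mul_smul]
        by_contra hne2
        exact hswap (g • y) (hout y _ _ (hswap y) hne2)
      obtain ⟨k, hk⟩ := (hmem _ _).1 this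
      exact ⟨k, hk.symm⟩
    have hperm : (MulAction.toPerm g : Equiv.Perm X) ^ 2 = 1 := by
      ext y
      simp [pow_two, ← mul_smul, ← pow_two g, hsq]
    have hsupp : (MulAction.toPerm g : Equiv.Perm X).support = Finset.univ := by
      rw [Finset.eq_univ_iff_forall]
      intro y
      rw [Equiv.Perm.mem_support]
      intro h
      exact hswap y (by simp only [MulAction.toPerm_apply] at h
                        rw [h]; exact (hmem _ _).2 ⟨0, by simp⟩)
    have h := heven g
    have hfp : Fintype.card (Function.fixedPoints (MulAction.toPerm g : Equiv.Perm X)) = 0 :=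
      Fintype.card_eq_zero_iff.2 ⟨fun y =>
        Equiv.Perm.mem_support.1 (hsupp.symm ▸ Finset.mem_univ (y : X)) y.2⟩
    rw [Equiv.Perm.sign_of_pow_two_eq_one hperm, hfp, Nat.sub_zero, hX] at h
    rw [Nat.mul_div_cancel_left _ (by norm_num), hp_odd.neg_one_pow] at h
    exact absurd h (by decide)
  exact isSimpleGroup_of_normalizer (X := X) hd
    (by rw [Nat.card_eq_fintype_card, hX]; exact dvd_mul_left p 2) P hP
    (card_normalizer_eq_of_self_centralizing hG P hP hC)
    (fun e => hne (Nat.eq_of_mul_eq_mul_left hp.pos (hG.symm.trans e)))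

end Cfsg.Agent.H10
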