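import Cfsg.Agent.H10.Ext4Aut
import Cfsg.Agent.H10.SimpleDegree

/-!
Simplicity of the automorphism groups of S(5,8,24) and S(4,7,23), and of the even automorphisms of
S(3,6,22).
-/

set_option autoImplicit false
set_option linter.unusedSectionVars false
set_option linter.style.haveILetI false

open Finset MulAction

namespace Cfsg.Agent.H10

/-- The action of a point stabiliser on the other points is faithful. -/
theorem faithful_ofStabilizer {G X : Type*} [Group G] [MulAction G X] [FaithfulSMul G X] (x : X) :
    FaithfulSMul (stabilizer G x) (SubMulAction.ofStabilizer G x) := by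
  refine ⟨fun {g h} hgh => Subtype.ext (FaithfulSMul.eq_of_smul_eq_smul (α := X) fun y => ?_)⟩
  by_cases hy : y = x
  · subst hy; exact g.2.trans h.2.symm
  · exact congrArg Subtype.val (hgh ⟨y, hy⟩)

variable {α : Type*} [DecidableEq α] [Fintype α] {B : Set (Finset α)}

/-- The automorphism group of an S(4,7,23) is simple. -/
theorem s23_aut_simple (hα : Fintype.card α = 23) (hB : Cfsg.IsSteinerSystem 4 7 B) :
    IsSimpleGroup (Cfsg.setSystemAut B) := by
  haveI : Fact (Nat.Prime 23) := ⟨by norm_num⟩
  have h4 := ext_aut_transitive (m := 2) (by norm_num) (by norm_num) hα (isExt_of_23 hα hB)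
  haveI h2 : IsMultiplyPretransitive (Cfsg.setSystemAut B) α 2 :=
    isMultiplyPretransitive_of_le (n := 4) (by norm_num) (by simp [hα])
  haveI : IsPretransitive (Cfsg.setSystemAut B) α := isPretransitive_of_is_two_pretransitive
  refine isSimpleGroup_of_prime_degree (X := α) (p := 23) (M := 443520)
    (by rw [Nat.card_eq_fintype_card, hα]) ?_ (by norm_num) (by norm_num) (by norm_num)
  rw [ext_aut_card (m := 2) (by norm_num) (by norm_num) hα (isExt_of_23 hα hB)]
  rfl

/-- The automorphism group of an S(5,8,24) is simple. -/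
theorem s24_aut_simple (hα : Fintype.card α = 24) (hB : Cfsg.IsSteinerSystem 5 8 B) :
    IsSimpleGroup (Cfsg.setSystemAut B) := by
  haveI : Fact (Nat.Prime 23) := ⟨by norm_num⟩
  have h5 := ext_aut_transitive (m := 3) (by norm_num) (by norm_num) hα (isExt_of_24 hα hB)
  haveI h2 : IsMultiplyPretransitive (Cfsg.setSystemAut B) α 2 :=
    isMultiplyPretransitive_of_le (n := 5) (by norm_num) (by simp [hα])
  haveI : IsPretransitive (Cfsg.setSystemAut B) α := isPretransitive_of_is_two_pretransitive
  obtain ⟨x⟩ : Nonempty α := Fintype.card_pos_iff.1 (by omega)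
  haveI := faithful_ofStabilizer (G := Cfsg.setSystemAut B) x
  have hX : Nat.card (SubMulAction.ofStabilizer (Cfsg.setSystemAut B) x) = 23 := by
    rw [SubMulAction.nat_card_ofStabilizer_eq, Nat.card_eq_fintype_card, hα]
  have hG : Nat.card (stabilizer (Cfsg.setSystemAut B) x) = 23 * 443520 := by
    have h := (stabilizer (Cfsg.setSystemAut B) x).index_mul_card
    rw [index_stabilizer_of_transitive, Nat.card_eq_fintype_card (α := α), hα,
      ext_aut_card (m := 3) (by norm_num) (by norm_num) hα (isExt_of_24 hα hB)] at h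
    generalize Nat.card (stabilizer (Cfsg.setSystemAut B) x) = N at h ⊢
    norm_num [Nat.descFactorial] at h
    omega
  have h1 : IsMultiplyPretransitive (stabilizer (Cfsg.setSystemAut B) x)
      (SubMulAction.ofStabilizer (Cfsg.setSystemAut B) x) 1 :=
    SubMulAction.ofStabilizer.isMultiplyPretransitive.1 h2
  haveI : IsPretransitive (stabilizer (Cfsg.setSystemAut B) x)
      (SubMulAction.ofStabilizer (Cfsg.setSystemAut B) x) := is_one_pretransitive_iff.1 h1
  haveI : IsSimpleGroup (stabilizer (Cfsg.setSystemAut B) x) :=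
    isSimpleGroup_of_prime_degree (X := SubMulAction.ofStabilizer (Cfsg.setSystemAut B) x)
      hX hG (by norm_num) (by norm_num) (by norm_num)
  refine isSimpleGroup_of_stabilizer (X := α) ?_ (by rw [Nat.card_eq_fintype_card, hα]; norm_num) x
  rw [Nat.card_eq_fintype_card, hα]
  rintro ⟨q, k, hq, hk, hqk⟩
  have h2' := (Nat.prime_dvd_prime_iff_eq Nat.prime_two hq.nat_prime).1
    (Nat.prime_two.dvd_of_dvd_pow (hqk.symm ▸ by norm_num : 2 ∣ q ^ k))
  have h3' := (Nat.prime_dvd_prime_iff_eq Nat.prime_three hq.nat_prime).1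
    (Nat.prime_three.dvd_of_dvd_pow (hqk.symm ▸ by norm_num : 3 ∣ q ^ k))
  omega

/-- The even automorphisms of a set system. -/
def evenAut (B : Set (Finset α)) : Subgroup (Cfsg.setSystemAut B) :=
  (Equiv.Perm.sign.comp (Cfsg.setSystemAut B).subtype).ker

/-- Membership in `evenAut`. -/
theorem mem_evenAut {g : Cfsg.setSystemAut B} :
    g ∈ evenAut B ↔ Equiv.Perm.sign (g : Equiv.Perm α) = 1 := Iff.rfl

/-- The even automorphisms of an S(3,6,22) form a simple subgroup of index two. -/
theorem s22_evenAut (hα : Fintype.card α = 22) (hB : Cfsg.IsSteinerSystem 3 6 B) :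
    (evenAut B).index = 2 ∧ IsSimpleGroup (evenAut B) ∧ Nat.card (evenAut B) = 443520 := by
  have hE := isExt_of_22 hα hB
  have h3 := ext_aut_transitive (m := 1) le_rfl (by norm_num) hα hE
  haveI h2 : IsMultiplyPretransitive (Cfsg.setSystemAut B) α 2 :=
    isMultiplyPretransitive_of_le (n := 3) (by norm_num) (by simp [hα])
  have hidx : (evenAut B).index = 2 := by
    obtain ⟨x⟩ : Nonempty (Fin 3 ↪ α) := Function.Embedding.nonempty_of_card_le (by simp [hα])
    obtain ⟨g, hg, hs, -⟩ := exists_odd_fixing hα hE x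
    rw [evenAut, Subgroup.index_ker, MonoidHom.range_eq_top.2, Subgroup.card_top,
      Nat.card_eq_fintype_card]
    · rfl
    · intro u
      rcases Int.units_eq_one_or u with rfl | rfl
      · exact ⟨1, map_one _⟩
      · exact ⟨⟨g, hg⟩, hs⟩
  have hcard : Nat.card (evenAut B) = 443520 := by
    have h := (evenAut B).index_mul_card
    rw [hidx, ext_aut_card (m := 1) le_rfl (by norm_num) hα hE] at h
    simp [Nat.descFactorial] at h
    omega
  have htwo : IsMultiplyPretransitive (evenAut B) α 2 := by
    refine ⟨fun x y => ?_⟩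
    obtain ⟨g, hg⟩ := exists_smul_eq (Cfsg.setSystemAut B) x y
    rcases Int.units_eq_one_or (Equiv.Perm.sign (g : Equiv.Perm α)) with hs | hs
    · exact ⟨⟨g, hs⟩, hg⟩
    · obtain ⟨z, hz⟩ : ∃ z, z ∉ univ.map y := by
        by_contra hcon
        push Not at hcon
        have := card_le_card (s := univ) (t := univ.map y) (fun a _ => hcon a)
        simp [hα] at this
      simp only [mem_map, mem_univ, true_and, not_exists] at hz
      let w : Fin 3 ↪ α := ⟨Fin.cons z y, Fin.cons_injective_iff.2
        ⟨by rintro ⟨i, hi⟩; exact hz i hi, y.injective⟩⟩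
      obtain ⟨o, ho, hos, hfix⟩ := exists_odd_fixing hα hE w
      refine ⟨⟨⟨o, ho⟩ * g, mem_evenAut.2 (by simp [hos, hs])⟩, ?_⟩
      ext i
      have := hfix i.succ
      simp [w] at this
      have hgi : (g : Equiv.Perm α) (x i) = y i := DFunLike.congr_fun hg i
      show o ((g : Equiv.Perm α) (x i)) = y i
      rw [hgi, this]
  haveI : Fact (Nat.Prime 11) := ⟨by norm_num⟩
  haveI : IsPreprimitive (evenAut B) α := isPreprimitive_of_is_two_pretransitive htwo
  refine ⟨hidx, ?_, hcard⟩
  exact isSimpleGroup_of_twice_prime_degree (G := evenAut B) (X := α) (p := 11) (M := 40320)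
    (by decide) hα hcard (by norm_num)
    (fun g => by
      have h : (MulAction.toPerm g : Equiv.Perm α) = (g.1 : Equiv.Perm α) := rfl
      rw [h]; exact mem_evenAut.1 g.2)
    (by norm_num) (by norm_num)

end Cfsg.Agent.H10
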