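import Cfsg.Prelude.Def_KGroupFacts
import Mathlib.GroupTheory.GroupAction.Basic
import Mathlib.Algebra.Group.Subgroup.Pointwise
import Mathlib.GroupTheory.Perm.Basic
import Mathlib.GroupTheory.Index
import Mathlib.Tactic.Group

/-!
An automorphism of a permutation group that permutes the point stabilisers is conjugation by a
permutation of the points.
-/

set_option autoImplicit false

namespace Cfsg.Agent.H10

open MulAction

set_option linter.unusedSectionVars false

variable {α : Type*} [DecidableEq α]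

/-- The stabiliser of a point inside a permutation group. -/
def ptStab (G : Subgroup (Equiv.Perm α)) (a : α) : Subgroup G where
  carrier := {g | (g : Equiv.Perm α) a = a}
  one_mem' := rfl
  mul_mem' {g h} hg hh := by
    show (g : Equiv.Perm α) ((h : Equiv.Perm α) a) = a
    rw [show (h : Equiv.Perm α) a = a from hh]; exact hg
  inv_mem' {g} hg := Equiv.Perm.inv_eq_iff_eq.2 (Eq.symm hg)

theorem mem_ptStab {G : Subgroup (Equiv.Perm α)} {a : α} {g : G} :
    g ∈ ptStab G a ↔ (g : Equiv.Perm α) a = a := Iff.rfl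

/-- The points moved by `G` form `S`, `G` is transitive on `S`, and each point stabiliser fixes
only one point of `S`. -/
structure StabData (G : Subgroup (Equiv.Perm α)) (S : Finset α) : Prop where
  fix : ∀ g ∈ G, ∀ x ∉ S, g x = x
  trans : ∀ a ∈ S, ∀ b ∈ S, ∃ g ∈ G, g a = b
  one : ∀ a ∈ S, ∀ b ∈ S, a ≠ b → ∃ g ∈ G, g a = a ∧ g b ≠ b

namespace StabData

variable {G : Subgroup (Equiv.Perm α)} {S : Finset α}

theorem maps (hD : StabData G S) {g : Equiv.Perm α} (hg : g ∈ G) {a : α} (ha : a ∈ S) :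
    g a ∈ S := by
  by_contra h
  have := hD.fix g⁻¹ (inv_mem hg) _ h
  rw [show g⁻¹ (g a) = a from g.symm_apply_apply a] at this
  exact h (this ▸ ha)

theorem eq_of_stab_le (hD : StabData G S) {a b : α} (ha : a ∈ S) (hb : b ∈ S)
    (h : ptStab G a ≤ ptStab G b) : a = b := by
  by_contra hne
  obtain ⟨g, hg, hga, hgb⟩ := hD.one a ha b hb hne
  exact hgb (h (x := ⟨g, hg⟩) hga)

/-- An automorphism sending point stabilisers to point stabilisers is conjugation by a
permutation preserving `S` and fixing the other points. -/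
theorem exists_conj (hD : StabData G S) (φ : MulAut G)
    (h : ∀ a ∈ S, ∃ b ∈ S, (ptStab G a).map (φ : G →* G) = ptStab G b) :
    ∃ f : Equiv.Perm α, (∀ x ∉ S, f x = x) ∧ (∀ x, x ∈ S ↔ f x ∈ S) ∧
      ∀ g : G, (φ g : Equiv.Perm α) = f * g * f⁻¹ := by
  classical
  choose σ hσS hσ using fun a : {x // x ∈ S} => h a.1 a.2
  let τ : {x // x ∈ S} → {x // x ∈ S} := fun a => ⟨σ a, hσS a⟩
  have hinj : Function.Injective τ := by
    intro a b hab
    have h1 : σ a = σ b := congrArg Subtype.val hab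
    have h2 := (hσ a).trans ((congrArg (ptStab G) h1).trans (hσ b).symm)
    exact Subtype.ext (hD.eq_of_stab_le a.2 b.2
      (le_of_eq (Subgroup.map_injective (f := (φ : G →* G)) φ.injective h2)))
  have hbij : Function.Bijective τ := Finite.injective_iff_bijective.1 hinj
  let e : Equiv.Perm {x // x ∈ S} := Equiv.ofBijective τ hbij
  refine ⟨Equiv.Perm.ofSubtype e, fun x hx => Equiv.Perm.ofSubtype_apply_of_not_mem e hx,
    fun x => ?_, fun g => ?_⟩
  · by_cases hx : x ∈ S
    · rw [Equiv.Perm.ofSubtype_apply_of_mem e hx]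
      exact iff_of_true hx (e ⟨x, hx⟩).2
    · rw [Equiv.Perm.ofSubtype_apply_of_not_mem e hx]
  rw [eq_mul_inv_iff_mul_eq]
  ext x
  rw [Equiv.Perm.mul_apply, Equiv.Perm.mul_apply]
  by_cases hx : x ∈ S
  · have hgx := hD.maps g.2 hx
    rw [Equiv.Perm.ofSubtype_apply_of_mem e hx, Equiv.Perm.ofSubtype_apply_of_mem e hgx]
    show (φ g : Equiv.Perm α) (σ ⟨x, hx⟩) = σ ⟨(g : Equiv.Perm α) x, hgx⟩
    refine (hD.eq_of_stab_le (hσS _) (hD.maps (φ g).2 (hσS _)) fun k hk => ?_).symm
    rw [← hσ] at hk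
    obtain ⟨m, hm, rfl⟩ := Subgroup.mem_map.1 hk
    have hm' : g⁻¹ * m * g ∈ ptStab G x := by
      show ((g : Equiv.Perm α)⁻¹) ((m : Equiv.Perm α) ((g : Equiv.Perm α) x)) = x
      rw [show (m : Equiv.Perm α) ((g : Equiv.Perm α) x) = (g : Equiv.Perm α) x from hm,
        show (g : Equiv.Perm α)⁻¹ ((g : Equiv.Perm α) x) = x from
          (g : Equiv.Perm α).symm_apply_apply x]
    have h2 : φ (g⁻¹ * m * g) ∈ ptStab G (σ ⟨x, hx⟩) := by
      rw [← hσ]; exact Subgroup.mem_map_of_mem _ hm'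
    rw [map_mul, map_mul, map_inv] at h2
    have h3 : ((φ g : Equiv.Perm α))⁻¹
        ((φ m : Equiv.Perm α) ((φ g : Equiv.Perm α) (σ ⟨x, hx⟩))) = σ ⟨x, hx⟩ := h2
    exact Equiv.Perm.inv_eq_iff_eq.1 h3
  · rw [hD.fix _ g.2 x hx, Equiv.Perm.ofSubtype_apply_of_not_mem e hx, hD.fix _ (φ g).2 x hx]

end StabData

/-- If every automorphism is inner, the outer automorphism group is trivial. -/
theorem card_out_eq_one {G : Type*} [Group G] (h : ∀ φ : MulAut G, ∃ g, MulAut.conj g = φ) :
    Nat.card (Cfsg.Out G) = 1 := by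
  rw [← Subgroup.index_eq_card, Subgroup.index_eq_one, Subgroup.eq_top_iff']
  exact h

end Cfsg.Agent.H10
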