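import Cfsg.Agent.H10.M12Action
import Cfsg.Agent.H10.PointStabAut

/-!
The outer automorphism group of M11 is trivial.
-/

set_option autoImplicit false
set_option linter.style.haveILetI false

namespace Cfsg.Agent.H10

open Cfsg MulAction
open scoped Pointwise

section Normalizer

variable {α : Type*} [DecidableEq α] [Fintype α] {B : Set (Finset α)}

/-- A permutation fixing a point and normalising the stabiliser of that point in the automorphism
group of an S(5,6,12) is an automorphism. -/
theorem s11_normalizer (hα : Fintype.card α = 12) (hB : Cfsg.IsSteinerSystem 5 6 B) {a : α}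
    {σ : Equiv.Perm α} (ha : σ a = a)
    (hσ : ∀ p ∈ setSystemAut B, p a = a → σ⁻¹ * p * σ ∈ setSystemAut B) :
    σ ∈ setSystemAut B := by
  classical
  haveI := s12_aut_transitive hα hB
  have himg : ∀ {g : Equiv.Perm α}, g ∈ setSystemAut B → ∀ {k}, k ∈ B → k.image g ∈ B :=
    fun {g} hg {k} hk => (mem_setSystemAut_iff.1 hg).le ⟨k, hk, rfl⟩
  suffices key : ∀ c ∈ B, a ∈ c → c.image σ ∈ B by
    refine mem_setSystemAut_of_forall fun c hc => ?_
    by_cases hac : a ∈ c
    · exact key c hc hac
    · have h := s12_compl hα hB (key _ (s12_compl hα hB hc) (Finset.mem_compl.2 hac))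
      have hcomp : cᶜ.image σ = (c.image σ)ᶜ := by
        ext z
        rw [← σ.apply_symm_apply z, Finset.mem_compl, σ.injective.mem_finset_image,
          σ.injective.mem_finset_image, Finset.mem_compl]
      rwa [hcomp, compl_compl] at h
  intro c hc hac
  set b := c.image σ with hb
  have hab : a ∈ b := Finset.mem_image.2 ⟨a, hac, ha⟩
  have hcb : b.card = 6 := by rw [hb, Finset.card_image_of_injective _ σ.injective, hB.1 c hc]
  obtain ⟨s, has, hsb, hs⟩ := Finset.exists_subsuperset_card_eq (n := 5)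
    (Finset.singleton_subset_iff.2 hab) (by simp) (by omega)
  rw [Finset.singleton_subset_iff] at has
  obtain ⟨h, ⟨hh, hsh⟩, -⟩ := hB.2 s hs
  obtain ⟨x, hx⟩ := Finset.card_eq_one.1 (show (b \ s).card = 1 by
    rw [Finset.card_sdiff_of_subset hsb]; omega)
  obtain ⟨y, hy⟩ := Finset.card_eq_one.1 (show (h \ s).card = 1 by
    rw [Finset.card_sdiff_of_subset hsh, hB.1 h hh]; omega)
  have hbx : b = insert x s := by rw [Finset.insert_eq, ← hx, Finset.sdiff_union_of_subset hsb]
  have hhy : h = insert y s := by rw [Finset.insert_eq, ← hy, Finset.sdiff_union_of_subset hsh]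
  have hxs : x ∉ s := fun e => (Finset.mem_sdiff.1 (hx.ge (Finset.mem_singleton_self x))).2 e
  have hys : y ∉ s := fun e => (Finset.mem_sdiff.1 (hy.ge (Finset.mem_singleton_self y))).2 e
  suffices x = y by rw [hbx, this, ← hhy]; exact hh
  by_contra hxy
  -- a five-tuple enumerating `s` with `a` at place 2
  obtain ⟨e, hse, he2⟩ : ∃ e : Fin 5 ↪ α, (∀ z, z ∈ s ↔ ∃ i, e i = z) ∧ e 2 = a := by
    let q : Fin 5 ≃ {z // z ∈ s} := (s.equivFinOfCardEq hs).symm
    refine ⟨((Equiv.swap 2 (q.symm ⟨a, has⟩)).trans q).toEmbedding.trans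
      (Function.Embedding.subtype _), fun z => ⟨fun hz => ?_, fun ⟨i, hi⟩ => ?_⟩, by simp⟩
    · exact ⟨Equiv.swap 2 (q.symm ⟨a, has⟩) (q.symm ⟨z, hz⟩), by simp⟩
    · rw [← hi]
      exact (q _).2
  obtain ⟨⟨g, hg⟩, hge⟩ := exists_smul_eq (setSystemAut B) e
    ((Equiv.swap 0 1).toEmbedding.trans e)
  have hgi : ∀ i, g (e i) = e (Equiv.swap 0 1 i) :=
    fun i => congrArg (fun f : Fin 5 ↪ α => f i) hge
  have hga : g a = a := by rw [← he2, hgi]; rfl
  have hgs : s.image g = s := by
    refine Finset.eq_of_subset_of_card_le (fun z hz => ?_)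
      (by rw [Finset.card_image_of_injective _ g.injective])
    obtain ⟨w, hw, rfl⟩ := Finset.mem_image.1 hz
    obtain ⟨i, rfl⟩ := (hse w).1 hw
    exact (hse _).2 ⟨_, (hgi i).symm⟩
  have hgb : b.image g = b := by
    let τ : Equiv.Perm α := σ⁻¹ * g * σ
    have hk : c.image τ = c := by
      refine block_unique hB (himg (hσ g hg hga) hc) hc (s := s.image σ.symm)
        (by rw [Finset.card_image_of_injective _ σ.symm.injective, hs]) ?_ ?_
      · intro z hz
        obtain ⟨w, hw, rfl⟩ := Finset.mem_image.1 hz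
        rw [← hgs] at hw
        obtain ⟨v, hv, rfl⟩ := Finset.mem_image.1 hw
        obtain ⟨u, hu, rfl⟩ := Finset.mem_image.1 (hsb hv)
        exact Finset.mem_image.2 ⟨u, hu, rfl⟩
      · intro z hz
        obtain ⟨w, hw, rfl⟩ := Finset.mem_image.1 hz
        obtain ⟨u, hu, rfl⟩ := Finset.mem_image.1 (hsb hw)
        rwa [σ.symm_apply_apply]
    conv_rhs => rw [hb, ← hk, Finset.image_image]
    rw [hb, Finset.image_image]
    congr 1
    funext z
    exact (σ.apply_symm_apply _).symm
  have hgh : h.image g = h := block_unique hB (himg hg hh) hh hs.ge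
    (hgs ▸ Finset.image_subset_image hsh) hsh
  have hfixed : ∀ {k : Finset α} {z : α}, k.image g = k → k = insert z s → z ∉ s → g z = z := by
    intro k z hk hkz hz
    have : g z ∈ insert z s := by
      rw [← hkz, ← hk]
      exact Finset.mem_image_of_mem g (hkz ▸ Finset.mem_insert_self z s)
    rcases Finset.mem_insert.1 this with e | e
    · exact e
    · rw [← hgs] at e
      obtain ⟨w, hw, he⟩ := Finset.mem_image.1 e
      exact absurd (g.injective he ▸ hw) hz
  have h1 := s12_aut_eq_one hα hB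
    ⟨![x, y, e 2, e 3, e 4], by
      have hd : ∀ z, z ∉ s → ∀ i, z ≠ e i := fun z hz i h => hz ((hse z).2 ⟨i, h.symm⟩)
      intro i j hij
      clear he2 hga
      fin_cases i <;> fin_cases j <;>
        simp_all [hd x hxs, hd y hys, (hd x hxs _).symm, (hd y hys _).symm, Ne.symm hxy]⟩
    hg fun i => by
      fin_cases i
      · exact hfixed hgb hbx hxs
      · exact hfixed hgh hhy hys
      all_goals exact hgi _
  have := hgi 0
  rw [h1, Equiv.swap_apply_left] at this
  exact absurd (e.injective this) (by decide)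

end Normalizer

/-- The dodecad of M12. -/
abbrev sqD : Finset GolayPt := Spor.squareDodecad
local notation "p₀" => (some 0 : GolayPt)

theorem zero_mem_square : p₀ ∈ sqD := by
  show p₀ ∈ Spor.squareDodecad
  rw [← H13.sqMask_eq]
  decide +kernel

theorem card_M11 : Nat.card Spor.M11 = 7920 := by rw [H13.M11_eq, H13.card_g11]

/-- A subgroup of M11 of order 720 fixes one of the eleven points. -/
theorem exists_fixed_M11 {H : Subgroup (Equiv.Perm GolayPt)} (hH : H ≤ Spor.M11)
    (hc : Nat.card H = 720) : ∃ b ∈ sqD.erase p₀, ∀ h ∈ H, h b = b := by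
  classical
  have hD := isM12Side_square
  have hne : ∀ {g}, g ∈ H → g p₀ = p₀ := fun hg => (hH hg).2
  have hinv : ∀ {g}, g ∈ H → ∀ x, g x ∈ sqD.erase p₀ ↔ x ∈ sqD.erase p₀ := fun {g} hg x => by
    rw [Finset.mem_erase, Finset.mem_erase, hD.apply_mem_iff (hH hg).1 x, ne_eq, ne_eq,
      ← (show g x = g p₀ ↔ x = p₀ from g.injective.eq_iff), hne hg]
  haveI : Fact (Nat.Prime 5) := ⟨by norm_num⟩
  obtain ⟨x, hx, hx5⟩ := exists_orderOf (H := H) (p := 5) (by rw [hc]; decide)
  have h11 : (sqD.erase p₀).card = 11 := by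
    rw [Finset.card_erase_of_mem zero_mem_square, hD.card]
  have hfD : (fixedIn x sqD).card ≤ 4 := by
    by_contra h
    have hone := hD.eq_one (hH hx).1 (s := fixedIn x sqD) (by omega) (Finset.filter_subset _ _)
      fun v hv => (Finset.mem_filter.1 hv).2
    rw [hone, orderOf_one] at hx5
    cases hx5
  have hfE : (fixedIn x (sqD.erase p₀)).card + 1 ≤ 4 := by
    refine le_trans (le_of_eq ?_) hfD
    rw [← Finset.card_insert_of_notMem (a := p₀) (by simp [fixedIn])]
    congr 1
    ext v
    simp only [Finset.mem_insert, fixedIn, Finset.mem_filter, Finset.mem_erase]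
    constructor
    · rintro (rfl | ⟨⟨-, hv⟩, hf⟩)
      exacts [⟨zero_mem_square, hne hx⟩, ⟨hv, hf⟩]
    · rintro ⟨hv, hf⟩
      by_cases he : v = p₀
      exacts [Or.inl he, Or.inr ⟨⟨he, hv⟩, hf⟩]
  obtain ⟨i, hi⟩ := dvd_card_movedIn hx5 (O := sqD.erase p₀) (hinv hx)
  have hsum := card_fixedIn_add x (sqD.erase p₀)
  obtain ⟨b, hb⟩ := Finset.card_eq_one.1
    (show (fixedIn x (sqD.erase p₀)).card = 1 by omega)
  obtain ⟨hbE, hxb⟩ := Finset.mem_filter.1 (hb.ge (Finset.mem_singleton_self b))
  obtain ⟨O, hbO, hO, hreach, hcard⟩ := exists_orbitFinset H b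
  refine ⟨b, hbE, fixed_of_card_one hbO hO ?_⟩
  have hOE : O ⊆ sqD.erase p₀ := fun v hv => by
    obtain ⟨k, hk, rfl⟩ := hreach v hv
    exact (hinv hk b).2 hbE
  by_contra hO1
  have hOle := Finset.card_le_card hOE
  rw [h11] at hOle
  obtain ⟨j, hj⟩ := dvd_card_movedIn hx5 (O := O) (hO x hx)
  have hOsum := card_fixedIn_add x O
  have hOf : (fixedIn x O).card ≤ 1 := by
    rw [← Finset.card_singleton b, ← hb]
    exact Finset.card_le_card (Finset.filter_subset_filter _ hOE)
  have hOf' : 0 < (fixedIn x O).card := Finset.card_pos.2 ⟨b, Finset.mem_filter.2 ⟨hbO, hxb⟩⟩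
  have hdvd : O.card ∣ 720 := ⟨_, (hcard.trans hc).symm⟩
  rcases (show O.card = 6 ∨ O.card = 11 by omega) with hO6 | hO11
  swap
  · rw [hO11] at hdvd; norm_num at hdvd
  set R := sqD.erase p₀ \ O with hR
  have hR5 : R.card = 5 := by rw [hR, Finset.card_sdiff_of_subset hOE, h11, hO6]
  have hRinv : ∀ h : H, ∀ v, (h : Equiv.Perm GolayPt) v ∈ R ↔ v ∈ R := fun h v => by
    rw [hR, Finset.mem_sdiff, Finset.mem_sdiff, hinv h.2 v, hO _ h.2 v]
  let ρ : H →* Equiv.Perm {v // v ∈ R} :=
    MonoidHom.mk' (fun h => (h : Equiv.Perm GolayPt).subtypePerm (hRinv h))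
      fun h h' => by ext v; rfl
  have hρ : Function.Injective ρ := by
    rw [← MonoidHom.ker_eq_bot_iff, Subgroup.eq_bot_iff_forall]
    intro h hh
    refine Subtype.ext (hD.eq_one (hH h.2).1 (s := R) hR5.ge
      (fun v hv => Finset.mem_of_mem_erase (Finset.mem_sdiff.1 hv).1)
      fun v hv => congrArg Subtype.val (Equiv.congr_fun hh ⟨v, hv⟩))
  have hle := Nat.card_le_card_of_injective ρ hρ
  rw [hc, Nat.card_perm, Nat.card_eq_fintype_card, Fintype.card_coe, hR5] at hle
  norm_num [Nat.factorial] at hle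

abbrev Side₀ := {p : GolayPt // p ∈ Spor.squareDodecad}

/-- The residue 0 on its side. -/
def sideZero : Side₀ := ⟨p₀, zero_mem_square⟩

/-- M11 on the dodecad. -/
noncomputable def m11Hom : Spor.M11 →* Equiv.Perm Side₀ :=
  (setSystemAut (hexOn sqD)).subtype.comp
    ((sideEquiv isM12Side_square : Spor.M12 →* setSystemAut (hexOn sqD)).comp
      (Subgroup.inclusion (inf_le_left : Spor.M11 ≤ Spor.M12)))

theorem m11Hom_apply (g : Spor.M11) (x : Side₀) :
    (m11Hom g x : GolayPt) = (g : Equiv.Perm GolayPt) x :=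
  sideEquiv_apply isM12Side_square _ x

theorem m11Hom_injective : Function.Injective m11Hom :=
  Subtype.val_injective.comp ((sideEquiv isM12Side_square).injective.comp
    (Subgroup.inclusion_injective _))

theorem mem_m11Hom_range {p : Equiv.Perm Side₀} :
    p ∈ m11Hom.range ↔ p ∈ setSystemAut (hexOn sqD) ∧ p sideZero = sideZero := by
  constructor
  · rintro ⟨g, rfl⟩
    exact ⟨Subtype.prop _, Subtype.ext ((m11Hom_apply g sideZero).trans g.2.2)⟩
  · rintro ⟨hp, hp0⟩
    set q := (sideEquiv isM12Side_square).symm ⟨p, hp⟩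
    have hq : (q : Equiv.Perm GolayPt) p₀ = p₀ := by
      have h := sideEquiv_apply isM12Side_square q sideZero
      rw [show sideEquiv isM12Side_square q = ⟨p, hp⟩ from
        (sideEquiv isM12Side_square).apply_symm_apply _] at h
      exact h.symm.trans (congrArg Subtype.val hp0)
    exact ⟨⟨q, q.2, hq⟩, congrArg Subtype.val
      ((sideEquiv isM12Side_square).apply_symm_apply ⟨p, hp⟩)⟩

theorem m11_stabData : StabData m11Hom.range (Finset.univ.erase sideZero) where
  fix p hp x hx := by
    have hx0 : x = sideZero := by simpa using hx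
    exact hx0 ▸ (mem_m11Hom_range.1 hp).2
  trans a ha b hb := by
    have ha0 : a ≠ sideZero := Finset.ne_of_mem_erase ha
    have hb0 : b ≠ sideZero := Finset.ne_of_mem_erase hb
    haveI := s12_aut_transitive isM12Side_square.card_subtype
      (H13.hexads_steiner isM12Side_square.mem)
    haveI h2 : IsMultiplyPretransitive (setSystemAut (hexOn sqD)) Side₀ 2 :=
      isMultiplyPretransitive_of_le (n := 5) (by decide)
        (by simp [isM12Side_square.card_subtype])
    obtain ⟨g, hg0, hg1⟩ := (is_two_pretransitive_iff (G := setSystemAut (hexOn sqD))).1 h2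
      ha0.symm hb0.symm
    exact ⟨g, mem_m11Hom_range.2 ⟨g.2, hg0⟩, hg1⟩
  one a ha b hb hab := by
    haveI := s12_aut_transitive isM12Side_square.card_subtype
      (H13.hexads_steiner isM12Side_square.mem)
    haveI h3 : IsMultiplyPretransitive (setSystemAut (hexOn sqD)) Side₀ 3 :=
      isMultiplyPretransitive_of_le (n := 5) (by decide)
        (by simp [isM12Side_square.card_subtype])
    obtain ⟨c, hc⟩ := Finset.card_pos.1
      (show 0 < (Finset.univ \ {sideZero, a, b}).card by
        rw [Finset.card_sdiff, Finset.inter_univ, Finset.card_univ,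
          isM12Side_square.card_subtype]
        have := Finset.card_le_three (a := sideZero) (b := a) (c := b)
        omega)
    simp only [Finset.mem_sdiff, Finset.mem_insert, Finset.mem_singleton, not_or] at hc
    have ha0 : sideZero ≠ a := (Finset.ne_of_mem_erase ha).symm
    have hb0 : sideZero ≠ b := (Finset.ne_of_mem_erase hb).symm
    let u : Fin 3 ↪ Side₀ := ⟨![sideZero, a, b], by
      intro i j hij
      fin_cases i <;> fin_cases j <;> simp_all [ha0.symm, hb0.symm, Ne.symm hab]⟩
    let v : Fin 3 ↪ Side₀ := ⟨![sideZero, a, c], by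
      intro i j hij
      fin_cases i <;> fin_cases j <;>
        simp_all [ha0.symm, Ne.symm hc.2.1, Ne.symm hc.2.2.1]⟩
    obtain ⟨g, hg⟩ := h3.exists_smul_eq u v
    have hgi : ∀ i, (g : Equiv.Perm Side₀) (u i) = v i := fun i => DFunLike.congr_fun hg i
    refine ⟨g, mem_m11Hom_range.2 ⟨g.2, hgi 0⟩, hgi 1, ?_⟩
    rw [show (g : Equiv.Perm Side₀) b = c from hgi 2]
    exact hc.2.2.2

theorem card_m11Hom_range : Nat.card m11Hom.range = 7920 := by
  rw [← Nat.card_congr (MonoidHom.ofInjective m11Hom_injective).toEquiv, card_M11]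

theorem card_ptStab_range {a : Side₀} (ha : a ∈ Finset.univ.erase sideZero) :
    Nat.card (ptStab m11Hom.range a) = 720 := by
  classical
  have hto : MulAction.orbit m11Hom.range a = ↑((Finset.univ : Finset Side₀).erase sideZero) := by
    ext b
    constructor
    · rintro ⟨g, rfl⟩
      exact m11_stabData.maps g.2 ha
    · intro hb
      obtain ⟨g, hg, he⟩ := m11_stabData.trans a ha b hb
      exact ⟨⟨g, hg⟩, he⟩
  have h := (stabilizer m11Hom.range a).card_mul_index
  rw [index_stabilizer, hto, card_m11Hom_range, Set.ncard_coe_finset,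
    Finset.card_erase_of_mem (Finset.mem_univ _), Finset.card_univ,
    isM12Side_square.card_subtype] at h
  have he : ptStab m11Hom.range a = stabilizer m11Hom.range a := by ext k; rfl
  rw [he]
  omega

/-- Every automorphism of M11 is inner. -/
theorem out_M11 : Nat.card (Cfsg.Out ↥Spor.M11) = 1 := by
  classical
  refine card_out_eq_one fun φ => ?_
  let e := MonoidHom.ofInjective m11Hom_injective
  let ψ : MulAut m11Hom.range := e.symm.trans ((φ : Spor.M11 ≃* Spor.M11).trans e)
  obtain ⟨σ, hfix, -, hσ⟩ := m11_stabData.exists_conj ψ fun a ha => by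
    let K := (ptStab m11Hom.range a).map (ψ : m11Hom.range →* m11Hom.range)
    let K' := K.map (e.symm : m11Hom.range →* Spor.M11)
    obtain ⟨b, hb, hbfix⟩ := exists_fixed_M11 (H := K'.map Spor.M11.subtype)
      (Subgroup.map_subtype_le _) (by
        rw [Subgroup.card_map_of_injective Spor.M11.subtype_injective,
          Subgroup.card_map_of_injective e.symm.injective,
          Subgroup.card_map_of_injective ψ.injective, card_ptStab_range ha])
    obtain ⟨hb0, hbD⟩ := Finset.mem_erase.1 hb
    have hb' : (⟨b, hbD⟩ : Side₀) ∈ Finset.univ.erase sideZero :=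
      Finset.mem_erase.2 ⟨fun h => hb0 (congrArg Subtype.val h), Finset.mem_univ _⟩
    refine ⟨⟨b, hbD⟩, hb', Subgroup.eq_of_le_of_card_ge (fun k hk => ?_) ?_⟩
    · have h1 := hbfix (e.symm k) ⟨e.symm k, ⟨k, hk, rfl⟩, rfl⟩
      have h2 : m11Hom (e.symm k) = k := congrArg Subtype.val (e.apply_symm_apply k)
      show (k : Equiv.Perm Side₀) ⟨b, hbD⟩ = ⟨b, hbD⟩
      rw [← h2]
      exact Subtype.ext ((m11Hom_apply _ _).trans h1)
    · rw [Subgroup.card_map_of_injective ψ.injective, card_ptStab_range ha, card_ptStab_range hb']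
  have hσ0 : σ sideZero = sideZero := hfix _ (by simp)
  have hmem : σ ∈ setSystemAut (hexOn sqD) := by
    refine s11_normalizer isM12Side_square.card_subtype
      (H13.hexads_steiner isM12Side_square.mem) hσ0 fun p hp hp0 => ?_
    let P : m11Hom.range := ⟨p, mem_m11Hom_range.2 ⟨hp, hp0⟩⟩
    have h1 := hσ (ψ.symm P)
    rw [MulEquiv.apply_symm_apply] at h1
    have e1 : σ⁻¹ * p * σ = ((ψ.symm P : m11Hom.range) : Equiv.Perm Side₀) := by
      show σ⁻¹ * (P : Equiv.Perm Side₀) * σ = _
      rw [h1]; group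
    exact e1 ▸ (mem_m11Hom_range.1 (ψ.symm P).2).1
  refine ⟨e.symm ⟨σ, mem_m11Hom_range.2 ⟨hmem, hσ0⟩⟩, MulEquiv.ext fun g => e.injective ?_⟩
  rw [MulAut.conj_apply, map_mul, map_mul, map_inv, MulEquiv.apply_symm_apply]
  refine Subtype.ext ?_
  have h2 := hσ (e g)
  have h3 : ψ (e g) = e (φ g) := congrArg e (congrArg φ (e.symm_apply_apply g))
  rw [h3] at h2
  rw [h2]
  rfl

end Cfsg.Agent.H10
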