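import Mathlib
import Cfsg.Prelude.Def_Sporadic_a

/-!
Counting in Steiner systems: blocks through a small set, and the numbers of members of a family
meeting a fixed set in a given subset.
-/

set_option autoImplicit false
set_option linter.unusedSectionVars false

open Finset

namespace Cfsg.Agent.H10

variable {α : Type*} [DecidableEq α]

/-- The number of `t`-subsets of `U` containing a given subset `s`. -/
theorem card_powersetCard_filter_superset (U s : Finset α) (hs : s ⊆ U) {t : ℕ} (ht : s.card ≤ t) :
    ((U.powersetCard t).filter (fun T => s ⊆ T)).card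
      = (U.card - s.card).choose (t - s.card) := by
  rw [← Finset.card_sdiff_of_subset hs, ← Finset.card_powersetCard]
  refine Finset.card_bij' (fun T _ => T \ s) (fun W _ => W ∪ s) ?_ ?_ ?_ ?_
  · intro T hT
    simp only [mem_filter, mem_powersetCard] at hT
    simp only [mem_powersetCard]
    exact ⟨sdiff_subset_sdiff hT.1.1 subset_rfl, by rw [card_sdiff_of_subset hT.2, hT.1.2]⟩
  · intro W hW
    simp only [mem_powersetCard] at hW
    have hd : Disjoint W s := disjoint_of_subset_left hW.1 sdiff_disjoint
    simp only [mem_filter, mem_powersetCard]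
    refine ⟨⟨union_subset (hW.1.trans sdiff_subset) hs, ?_⟩, subset_union_right⟩
    rw [card_union_of_disjoint hd, hW.2]; omega
  · intro T hT
    simp only [mem_filter] at hT
    exact sdiff_union_of_subset hT.2
  · intro W hW
    simp only [mem_powersetCard] at hW
    exact union_sdiff_cancel_right (disjoint_of_subset_left hW.1 sdiff_disjoint)

/-- The members of a family meeting `b` in exactly `s` are counted by `M s.card`, if the members
containing each `u ⊆ b` are counted by `L u.card` and `L` is the binomial transform of `M`. -/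
theorem card_inter_eq (F : Finset (Finset α)) (b : Finset α) (L M : ℕ → ℕ)
    (hL : ∀ u ⊆ b, (F.filter (fun c => u ⊆ c)).card = L u.card)
    (hM : ∀ i ≤ b.card, (∑ j ∈ range (b.card - i + 1), (b.card - i).choose j * M (i + j)) = L i)
    (s : Finset α) (hs : s ⊆ b) : (F.filter (fun c => c ∩ b = s)).card = M s.card := by
  suffices h : ∀ n, ∀ s ⊆ b, b.card - s.card = n →
      (F.filter (fun c => c ∩ b = s)).card = M s.card from h _ s hs rfl
  intro n
  induction n using Nat.strong_induction_on with
  | _ n ih =>
    intro s hs hn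
    have h1 : (F.filter (fun c => s ⊆ c)).card
        = ∑ w ∈ (b \ s).powerset, (F.filter (fun c => c ∩ b = w ∪ s)).card := by
      rw [Finset.card_eq_sum_card_fiberwise (f := fun c => (c ∩ b) \ s)
        (t := (b \ s).powerset) (fun c _ => mem_powerset.2
          (sdiff_subset_sdiff inter_subset_right subset_rfl))]
      refine sum_congr rfl fun w hw => congrArg card ?_
      rw [mem_powerset] at hw
      have hd : Disjoint w s := disjoint_of_subset_left hw sdiff_disjoint
      rw [filter_filter]
      refine filter_congr fun c _ => ⟨fun h => ?_, fun h => ?_⟩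
      · rw [← h.2, sdiff_union_of_subset (subset_inter h.1 hs)]
      · refine ⟨?_, ?_⟩
        · exact fun x hx => (mem_inter.1 (h.symm ▸ mem_union_right w hx)).1
        · rw [h, union_sdiff_cancel_right hd]
    have h2 : ∀ w ∈ (b \ s).powerset.erase ∅,
        (F.filter (fun c => c ∩ b = w ∪ s)).card = M (s.card + w.card) := by
      intro w hw
      rw [mem_erase, mem_powerset] at hw
      have hd : Disjoint w s := disjoint_of_subset_left hw.2 sdiff_disjoint
      have hsub : w ∪ s ⊆ b := union_subset (hw.2.trans sdiff_subset) hs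
      have hw0 : 0 < w.card := card_pos.2 (nonempty_iff_ne_empty.2 hw.1)
      have hle := card_le_card hsub
      rw [card_union_of_disjoint hd] at hle
      rw [ih (b.card - (w ∪ s).card) (by rw [card_union_of_disjoint hd]; omega) (w ∪ s) hsub rfl,
        card_union_of_disjoint hd, add_comm]
    have hempty : (∅ : Finset α) ∈ (b \ s).powerset := empty_mem_powerset _
    have h3 : ∑ w ∈ (b \ s).powerset, M (s.card + w.card) = L s.card := by
      rw [Finset.sum_powerset_apply_card (fun j => M (s.card + j)), card_sdiff_of_subset hs]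
      simpa [smul_eq_mul] using hM s.card (card_le_card hs)
    rw [hL s hs, ← h3, ← add_sum_erase _ _ hempty, ← add_sum_erase _ _ hempty,
      sum_congr rfl h2] at h1
    simpa using (Nat.add_right_cancel h1).symm

/-- The members of a family meeting `b` in exactly `i` points. -/
theorem card_inter_card_eq (F : Finset (Finset α)) (b : Finset α) (L M : ℕ → ℕ)
    (hL : ∀ u ⊆ b, (F.filter (fun c => u ⊆ c)).card = L u.card)
    (hM : ∀ i ≤ b.card, (∑ j ∈ range (b.card - i + 1), (b.card - i).choose j * M (i + j)) = L i)
    (i : ℕ) : (F.filter (fun c => (c ∩ b).card = i)).card = b.card.choose i * M i := by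
  rw [Finset.card_eq_sum_card_fiberwise (f := fun c => c ∩ b) (t := b.powersetCard i)
    (fun c hc => by simp only [coe_filter, Set.mem_setOf_eq] at hc
                    simp [mem_powersetCard, hc.2])]
  rw [sum_congr rfl (g := fun _ => M i) (fun u hu => ?_), sum_const, card_powersetCard, smul_eq_mul]
  rw [mem_powersetCard] at hu
  rw [filter_filter, ← hu.2, ← card_inter_eq F b L M hL hM u hu.1]
  refine congrArg card (filter_congr fun c _ => ⟨fun h => h.2, fun h => ⟨by rw [h], h⟩⟩)

/-- Intersection sizes of members of a family with `b` avoid the zeros of `M`. -/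
theorem inter_card_mem (F : Finset (Finset α)) (b : Finset α) (L M : ℕ → ℕ)
    (hL : ∀ u ⊆ b, (F.filter (fun c => u ⊆ c)).card = L u.card)
    (hM : ∀ i ≤ b.card, (∑ j ∈ range (b.card - i + 1), (b.card - i).choose j * M (i + j)) = L i)
    {c : Finset α} (hc : c ∈ F) : M (c ∩ b).card ≠ 0 := by
  rw [← card_inter_eq F b L M hL hM _ inter_subset_right, card_ne_zero]
  exact ⟨c, mem_filter.2 ⟨hc, rfl⟩⟩

variable {t k : ℕ} {B : Set (Finset α)}

/-- Blocks of a Steiner system have `k` points. -/
theorem block_card (hB : Cfsg.IsSteinerSystem t k B) {b : Finset α} (hb : b ∈ B) : b.card = k :=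
  hB.1 b hb

/-- A set of at least `t` points lies in at most one block. -/
theorem block_unique (hB : Cfsg.IsSteinerSystem t k B) {b c s : Finset α} (hb : b ∈ B) (hc : c ∈ B)
    (hs : t ≤ s.card) (hsb : s ⊆ b) (hsc : s ⊆ c) : b = c := by
  obtain ⟨T, hT, hTc⟩ := exists_subset_card_eq hs
  exact (hB.2 T hTc).unique ⟨hb, hT.trans hsb⟩ ⟨hc, hT.trans hsc⟩

/-- Two blocks sharing at least `t` points are equal. -/
theorem block_eq_of_inter (hB : Cfsg.IsSteinerSystem t k B) {b c : Finset α} (hb : b ∈ B)
    (hc : c ∈ B) (h : t ≤ (b ∩ c).card) : b = c :=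
  block_unique hB hb hc h inter_subset_left inter_subset_right

/-- Distinct blocks share fewer than `t` points. -/
theorem block_inter_lt (hB : Cfsg.IsSteinerSystem t k B) {b c : Finset α} (hb : b ∈ B)
    (hc : c ∈ B) (h : b ≠ c) : (b ∩ c).card < t :=
  not_le.1 fun hle => h (block_eq_of_inter hB hb hc hle)

variable [Fintype α]

/-- The blocks of a set system on a finite type, as a finset. -/
noncomputable def blocks (B : Set (Finset α)) : Finset (Finset α) := (Set.toFinite B).toFinset

omit [DecidableEq α] in
/-- Membership in `blocks`. -/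
@[simp] theorem mem_blocks {b : Finset α} : b ∈ blocks B ↔ b ∈ B := Set.Finite.mem_toFinset _

omit [DecidableEq α] in
/-- The number of members of `B` with a property, as a filter of `blocks B`. -/
theorem ncard_sep_eq (p : Finset α → Prop) [DecidablePred p] :
    {b : Finset α | b ∈ B ∧ p b}.ncard = ((blocks B).filter p).card := by
  rw [← Set.ncard_coe_finset]; congr 1; ext; simp

omit [DecidableEq α] in
/-- The number of members of `B` is the cardinality of `blocks B`. -/
theorem ncard_eq_card_blocks : B.ncard = (blocks B).card := by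
  rw [← Set.ncard_coe_finset]; congr 1; ext; simp

/-- The blocks through a set of at most `t` points. -/
theorem lam_mul (hB : Cfsg.IsSteinerSystem t k B) {s : Finset α} (hs : s.card ≤ t) :
    ((blocks B).filter (fun b => s ⊆ b)).card * (k - s.card).choose (t - s.card)
      = (Fintype.card α - s.card).choose (t - s.card) := by
  rw [← card_univ, ← card_powersetCard_filter_superset univ s (subset_univ s) hs]
  have : ((univ : Finset α).powersetCard t).filter (fun T => s ⊆ T)
      = ((blocks B).filter (fun b => s ⊆ b)).biUnion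
          (fun b => (b.powersetCard t).filter (fun T => s ⊆ T)) := by
    ext T
    simp only [mem_filter, mem_powersetCard, subset_univ, true_and, mem_biUnion, mem_blocks]
    constructor
    · rintro ⟨hT, hsT⟩
      obtain ⟨b, hb, -⟩ := hB.2 T hT
      exact ⟨b, ⟨hb.1, hsT.trans hb.2⟩, ⟨hb.2, hT⟩, hsT⟩
    · rintro ⟨b, -, ⟨-, hT⟩, hsT⟩
      exact ⟨hT, hsT⟩
  rw [this, card_biUnion, sum_congr rfl (g := fun _ => (k - s.card).choose (t - s.card)),
    sum_const, smul_eq_mul]
  · intro b hb
    simp only [mem_filter, mem_blocks] at hb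
    rw [card_powersetCard_filter_superset b s hb.2 hs, hB.1 b hb.1]
  · intro b hb c hc hbc
    simp only [coe_filter, Set.mem_setOf_eq, mem_blocks] at hb hc
    rw [Function.onFun, disjoint_left]
    intro T hTb hTc
    simp only [mem_filter, mem_powersetCard] at hTb hTc
    exact hbc ((hB.2 T hTb.1.2).unique ⟨hb.1, hTb.1.1⟩ ⟨hc.1, hTc.1.1⟩)

/-- Exactly one block contains a given set of `t` or more points inside a block. -/
theorem card_through_eq_one (hB : Cfsg.IsSteinerSystem t k B) {s b : Finset α} (hb : b ∈ B)
    (hs : t ≤ s.card) (hsb : s ⊆ b) : ((blocks B).filter (fun c => s ⊆ c)).card = 1 := by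
  rw [card_eq_one]
  refine ⟨b, ?_⟩
  ext c
  simp only [mem_filter, mem_blocks, mem_singleton]
  exact ⟨fun h => block_unique hB h.1 hb hs h.2 hsb, fun h => h ▸ ⟨hb, hsb⟩⟩

/-- The blocks through any `u ⊆ Y` are counted by `L u.card`, for the table `L` of the parameters,
provided that `Y` is a block or has at most `t` points. -/
theorem lam_table (hB : Cfsg.IsSteinerSystem t k B) {v : ℕ} (hv : Fintype.card α = v) (L : ℕ → ℕ)
    (hL : ∀ i ≤ t, 0 < (k - i).choose (t - i) ∧
      L i * (k - i).choose (t - i) = (v - i).choose (t - i))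
    (hL1 : ∀ i ≤ k, t < i → L i = 1)
    {Y : Finset α} (hY : Y ∈ B ∨ Y.card ≤ t) :
    ∀ u ⊆ Y, ((blocks B).filter (fun c => u ⊆ c)).card = L u.card := by
  intro u hu
  rcases le_or_gt u.card t with h | h
  · have := lam_mul hB h
    rw [hv, ← (hL _ h).2] at this
    exact Nat.eq_of_mul_eq_mul_right (hL _ h).1 this
  · rcases hY with hY | hY
    · rw [card_through_eq_one hB hY h.le hu,
        hL1 _ (by rw [← hB.1 Y hY]; exact card_le_card hu) h]
    · have := card_le_card hu; omega

/-- A Steiner system contained in another with the same parameters is equal to it. -/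
theorem steiner_eq_of_subset {B' : Set (Finset α)} (htk : t ≤ k) (hB : Cfsg.IsSteinerSystem t k B)
    (hB' : Cfsg.IsSteinerSystem t k B') (h : B ⊆ B') : B = B' := by
  refine Set.Subset.antisymm h fun b hb => ?_
  obtain ⟨T, hT, hTc⟩ := exists_subset_card_eq (le_of_le_of_eq htk (hB'.1 b hb).symm)
  obtain ⟨c, hc, -⟩ := hB.2 T hTc
  rw [(hB'.2 T hTc).unique ⟨hb, hT⟩ ⟨h hc.1, hc.2⟩]
  exact hc.1

end Cfsg.Agent.H10
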