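import Cfsg.Agent.H10.MathieuFix
import Cfsg.Agent.H10.SteinerCount
import Mathlib.GroupTheory.SpecificGroups.Alternating

/-!
An involution of the automorphism group of the code with a fixed point fixes at least five points.
-/

set_option autoImplicit false

namespace Cfsg.Agent.H10

open Cfsg MulAction
open scoped Pointwise

/-- An involution stabilising an octad moves a multiple of four of its points. -/
theorem four_dvd_moved_octad {g : Equiv.Perm GolayPt} (hg : g ∈ M24) (h2 : g * g = 1)
    {o : Finset GolayPt} (ho : o ∈ octads) (hgo : g • o = o) : 4 ∣ (movedIn g o).card := by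
  classical
  set σ : Equiv.Perm ↥o := H11.restrictHom o ⟨g, hg, hgo⟩ with hσ
  have hsq : σ ^ 2 = 1 := by
    rw [hσ, ← map_pow]
    rw [show (⟨g, hg, hgo⟩ : H11.stabM24 o) ^ 2 = 1 from Subtype.ext ((pow_two g).trans h2)]
    exact map_one _
  have hs : Equiv.Perm.sign σ = 1 := by
    rw [← Equiv.Perm.mem_alternatingGroup, ← H11.range_restrictHom_octad ho]
    exact ⟨_, rfl⟩
  have hall : σ.cycleType = Multiset.replicate σ.cycleType.card 2 := by
    refine Multiset.eq_replicate.2 ⟨rfl, fun n hn => ?_⟩
    have h := (Equiv.Perm.dvd_of_mem_cycleType hn).trans (orderOf_dvd_of_pow_eq_one hsq)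
    have := Equiv.Perm.two_le_of_mem_cycleType hn
    have := Nat.le_of_dvd (by decide) h
    omega
  have hsum : σ.support.card = 2 * σ.cycleType.card := by
    rw [← Equiv.Perm.sum_cycleType]
    conv_lhs => rw [hall]
    rw [Multiset.sum_replicate, smul_eq_mul, mul_comm]
  have heven : Even σ.cycleType.card := by
    rw [Equiv.Perm.sign_of_cycleType] at hs
    by_contra hodd
    rw [Nat.not_even_iff_odd] at hodd
    rw [Equiv.Perm.sum_cycleType, hsum, pow_add, Even.neg_one_pow ⟨_, two_mul _⟩,
      Odd.neg_one_pow hodd] at hs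
    revert hs
    decide
  have h2 : σ.support.map (Function.Embedding.subtype _) = movedIn g o := by
    ext x
    simp [movedIn, σ, H11.restrictHom, and_comm]
  rw [← h2, Finset.card_map, hsum]
  obtain ⟨k, hk⟩ := heven
  exact ⟨k, by omega⟩

/-- An involution with a fixed point fixes at least five points. -/
theorem five_le_fixed {g : Equiv.Perm GolayPt} (hg : g ∈ M24) (h2 : g * g = 1) {a : GolayPt}
    (ha : g a = a) : 5 ≤ (fixedIn g Finset.univ).card := by
  classical
  by_contra hlt
  set F := fixedIn g Finset.univ with hF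
  set Mv := movedIn g Finset.univ with hMv
  have hinv : ∀ x, g (g x) = x := fun x => congrArg (fun σ : Equiv.Perm GolayPt => σ x) h2
  have hmv : ∀ x, x ∈ Mv ↔ g x ≠ x := fun x => by simp [hMv, movedIn]
  have hsum : F.card + Mv.card = 24 := card_fixedIn_add g Finset.univ
  have key : ∀ p q, g p ≠ p → g q ≠ q → q ≠ p → q ≠ g p → ∃ o ∈ octads,
      F ⊆ o ∧ F.card = 4 ∧ p ∈ o ∧ q ∈ o ∧ (movedIn g o) ⊆ {p, g p, q, g q} := by
    intro p q hp hq hqp hqgp
    let s : Finset GolayPt := {a, p, g p, q, g q}
    have hap : a ≠ p := fun e => hp (e ▸ ha)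
    have haq : a ≠ q := fun e => hq (e ▸ ha)
    have hagp : a ≠ g p := fun e => hap (g.injective (ha.trans e))
    have hagq : a ≠ g q := fun e => haq (g.injective (ha.trans e))
    have hpgq : p ≠ g q := fun e => hqgp ((congrArg g e).trans (hinv q)).symm
    have hgg : g p ≠ g q := fun e => hqp (g.injective e).symm
    have hs : s.card = 5 := by
      simp only [s]
      rw [Finset.card_insert_of_notMem (by simp [hap, hagp, haq, hagq]),
        Finset.card_insert_of_notMem (by simp [hp.symm, hqp.symm, hpgq]),
        Finset.card_insert_of_notMem (by simp [hqgp.symm, hgg]), Finset.card_pair hq.symm]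
    obtain ⟨o, ⟨ho, hso⟩, -⟩ := S0363.result.2 s hs
    have hgo : g • o = o := (S0363.result.2 s hs).unique
      ⟨H11.smul_mem_octads hg ho, fun x hx => by
        refine Finset.mem_smul_finset.2 ⟨g x, hso ?_, hinv x⟩
        simp only [s, Finset.mem_insert, Finset.mem_singleton] at hx ⊢
        rcases hx with rfl | rfl | rfl | rfl | rfl <;> simp [ha, hinv]⟩ ⟨ho, hso⟩
    obtain ⟨j, hj⟩ := four_dvd_moved_octad hg h2 ho hgo
    have hsub : ({p, g p, q, g q} : Finset GolayPt) ⊆ movedIn g o := by
      intro x hx
      refine Finset.mem_filter.2 ⟨hso (Finset.mem_insert_of_mem hx), ?_⟩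
      simp only [Finset.mem_insert, Finset.mem_singleton] at hx
      rcases hx with rfl | rfl | rfl | rfl
      · exact hp
      · rw [hinv]; exact hp.symm
      · exact hq
      · rw [hinv]; exact hq.symm
    have hc4 : ({p, g p, q, g q} : Finset GolayPt).card = 4 := by
      rw [Finset.card_insert_of_notMem (by simp [hp.symm, hqp.symm, hpgq]),
        Finset.card_insert_of_notMem (by simp [hqgp.symm, hgg]), Finset.card_pair hq.symm]
    have h8 := card_fixedIn_add g o
    rw [show o.card = 8 from ho.2] at h8
    have hge := Finset.card_le_card hsub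
    have hfa : 0 < (fixedIn g o).card :=
      Finset.card_pos.2 ⟨a, Finset.mem_filter.2 ⟨hso (Finset.mem_insert_self _ _), ha⟩⟩
    have hfsub : fixedIn g o ⊆ F := Finset.filter_subset_filter _ (Finset.subset_univ o)
    have hfle := Finset.card_le_card hfsub
    have heq : fixedIn g o = F := Finset.eq_of_subset_of_card_le hfsub (by omega)
    refine ⟨o, ho, ?_, by omega, hso (by simp [s]), hso (by simp [s]), ?_⟩
    · rw [← heq]; exact Finset.filter_subset _ _
    · exact (Finset.eq_of_subset_of_card_le hsub (by omega)).ge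
  obtain ⟨p, hp⟩ := Finset.card_pos.1 (show 0 < Mv.card by omega)
  obtain ⟨q, hq, hq'⟩ := Finset.exists_mem_notMem_of_card_lt_card
    (t := Mv) (s := {p, g p}) (by
      have := Finset.card_le_two (a := p) (b := g p)
      omega)
  obtain ⟨r, hr, hr'⟩ := Finset.exists_mem_notMem_of_card_lt_card
    (t := Mv) (s := {p, g p, q, g q}) (by
      have := Finset.card_le_four (a := p) (b := g p) (c := q) (d := g q)
      omega)
  rw [hmv] at hp hq hr
  simp only [Finset.mem_insert, Finset.mem_singleton, not_or] at hq' hr'
  obtain ⟨o, ho, hFo, hF4, hpo, hqo, hmo⟩ := key p q hp hq hq'.1 hq'.2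
  obtain ⟨o', ho', hFo', -, hpo', hro', -⟩ := key p r hp hr hr'.1 hr'.2.1
  have hpF : p ∉ F := fun h => hp (Finset.mem_filter.1 h).2
  have he : o = o' := block_unique S0363.result ho ho' (s := insert p F)
    (by rw [Finset.card_insert_of_notMem hpF, hF4])
    (Finset.insert_subset hpo hFo) (Finset.insert_subset hpo' hFo')
  have := hmo (Finset.mem_filter.2 ⟨he ▸ hro', hr⟩)
  simp only [Finset.mem_insert, Finset.mem_singleton] at this
  tauto

end Cfsg.Agent.H10
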