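import Cfsg.Agent.H10.MathieuIndex
import Cfsg.Agent.H10.MathieuInvolution
import Cfsg.Agent.H10.PointStabAut
import Cfsg.Agent.H10.Ext3
import Cfsg.Agent.H13.Hexads
import Cfsg.Agent.H13.TwoClasses
import Cfsg.Agent.S0382
import Cfsg.Agent.S0384

/-!
The actions of M12 on the dodecad and on its complement.
-/

set_option autoImplicit false

namespace Cfsg.Agent.H10

open Cfsg MulAction
open scoped Pointwise

/-- A dodecad stabilised by M12 with M12 as its whole stabiliser. -/
structure IsM12Side (d : Finset GolayPt) : Prop where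
  mem : d ∈ dodecads
  stab : ∀ g, g ∈ Spor.M12 ↔ g ∈ M24 ∧ g • d = d

theorem compl_smul_eq_iff {d : Finset GolayPt} {g : Equiv.Perm GolayPt} :
    g • (Finset.univ \ d) = Finset.univ \ d ↔ g • d = d := by
  rw [Finset.smul_finset_sdiff, Finset.smul_finset_univ, sdiff_eq_sdiff_iff_inf_eq_inf]
  simp

theorem isM12Side_square : IsM12Side Spor.squareDodecad :=
  ⟨H13.sq_mem, fun _ => Iff.rfl⟩

theorem isM12Side_compl : IsM12Side (Finset.univ \ Spor.squareDodecad) := by
  obtain ⟨g, hg, hs, -⟩ := H13.exists_swap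
  exact ⟨hs ▸ H11.smul_mem_dodecads hg H13.sq_mem,
    fun g => ⟨fun h => ⟨h.1, compl_smul_eq_iff.2 h.2⟩, fun h => ⟨h.1, compl_smul_eq_iff.1 h.2⟩⟩⟩

variable {d : Finset GolayPt}

theorem IsM12Side.card (hd : IsM12Side d) : d.card = 12 := hd.mem.2

theorem IsM12Side.apply_mem_iff (hd : IsM12Side d) {g : Equiv.Perm GolayPt} (hg : g ∈ Spor.M12)
    (x : GolayPt) : g x ∈ d ↔ x ∈ d :=
  H11.apply_mem_iff_of_smul_eq ((hd.stab g).1 hg).2 x

theorem card_M12 : Nat.card Spor.M12 = 95040 := by rw [H13.M12_eq, H13.card_g12]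

/-- An element of M12 fixing five points of one side is trivial. -/
theorem IsM12Side.eq_one (hd : IsM12Side d) {g : Equiv.Perm GolayPt} (hg : g ∈ Spor.M12)
    {s : Finset GolayPt} (hs : 5 ≤ s.card) (hsd : s ⊆ d) (hfix : ∀ x ∈ s, g x = x) : g = 1 := by
  obtain ⟨x, hx⟩ := exists_emb_five hs
  obtain ⟨k, -, hu⟩ := S0384.result d hd.mem x x (fun i => hsd (hx i)) (fun i => hsd (hx i))
  have h1 := hu ⟨⟨g, ((hd.stab g).1 hg).1⟩,
    mem_stabilizer_iff.2 ((hd.stab g).1 hg).2⟩ fun i => hfix _ (hx i)
  have h2 := hu 1 fun i => rfl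
  exact congrArg (fun k : MulAction.stabilizer M24 d => ((k : M24) : Equiv.Perm GolayPt))
    (h1.trans h2.symm)

/-- The hexads on one side. -/
abbrev hexOn (d : Finset GolayPt) : Set (Finset {p : GolayPt // p ∈ d}) :=
  {h | ∃ o ∈ octads, (o ∩ d).card = 6 ∧ h = Finset.subtype (fun p => p ∈ d) o}

theorem IsM12Side.card_subtype (hd : IsM12Side d) : Fintype.card {p : GolayPt // p ∈ d} = 12 := by
  rw [Fintype.card_coe, hd.card]

/-- Restriction of M12 to one side. -/
def sideHom (hd : IsM12Side d) : Spor.M12 →* Equiv.Perm {p : GolayPt // p ∈ d} :=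
  MonoidHom.mk' (fun g => (g : Equiv.Perm GolayPt).subtypePerm (hd.apply_mem_iff g.2))
    fun g g' => by ext v; rfl

theorem sideHom_apply (hd : IsM12Side d) (g : Spor.M12) (x : {p : GolayPt // p ∈ d}) :
    (sideHom hd g x : GolayPt) = (g : Equiv.Perm GolayPt) x := rfl

theorem sideHom_injective (hd : IsM12Side d) : Function.Injective (sideHom hd) := by
  rw [← MonoidHom.ker_eq_bot_iff, Subgroup.eq_bot_iff_forall]
  intro g hg
  exact Subtype.ext (hd.eq_one g.2 (by rw [hd.card]; decide) subset_rfl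
    fun x hx => congrArg Subtype.val (Equiv.congr_fun hg ⟨x, hx⟩))

theorem sideHom_range (hd : IsM12Side d) :
    (sideHom hd).range = setSystemAut (hexOn d) := by
  refine Subgroup.eq_of_le_of_card_ge ?_ ?_
  · rintro _ ⟨g, rfl⟩
    obtain ⟨hgM, hgd⟩ := (hd.stab g).1 g.2
    refine mem_setSystemAut_of_forall fun h hh => ?_
    obtain ⟨o, ho, h6, rfl⟩ := hh
    refine ⟨(g : Equiv.Perm GolayPt) • o, H11.smul_mem_octads hgM ho, ?_, ?_⟩
    · conv_lhs => rw [← hgd, ← Finset.smul_finset_inter, Finset.card_smul_finset]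
      exact h6
    · ext x
      simp only [Finset.mem_image, Finset.mem_subtype, Finset.mem_smul_finset,
        Equiv.Perm.smul_def]
      constructor
      · rintro ⟨y, hy, rfl⟩
        exact ⟨y, hy, rfl⟩
      · rintro ⟨y, hy, he⟩
        exact ⟨⟨y, (hd.apply_mem_iff g.2 y).1 (he ▸ x.2)⟩, hy, Subtype.ext he⟩
  · rw [Nat.card_congr (MonoidHom.ofInjective (sideHom_injective hd)).symm.toEquiv, card_M12,
      s12_aut_card hd.card_subtype (H13.hexads_steiner hd.mem)]

/-- M12 as the automorphism group of the hexads on one side. -/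
noncomputable def sideEquiv (hd : IsM12Side d) : Spor.M12 ≃* setSystemAut (hexOn d) :=
  (MonoidHom.ofInjective (sideHom_injective hd)).trans (MulEquiv.subgroupCongr (sideHom_range hd))

theorem sideEquiv_apply (hd : IsM12Side d) (g : Spor.M12) (x : {p : GolayPt // p ∈ d}) :
    (((sideEquiv hd g : setSystemAut (hexOn d)) : Equiv.Perm {p : GolayPt // p ∈ d}) x).1
      = (g : Equiv.Perm GolayPt) x := rfl

section Normalizer

variable {α : Type*} [DecidableEq α] [Fintype α] {B : Set (Finset α)}

theorem s12_stabData (hα : Fintype.card α = 12) (hB : Cfsg.IsSteinerSystem 5 6 B) :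
    StabData (setSystemAut B) (Finset.univ : Finset α) where
  fix g _ x hx := absurd (Finset.mem_univ x) hx
  trans a _ b _ := by
    haveI := s12_aut_transitive hα hB
    haveI : IsMultiplyPretransitive (setSystemAut B) α 1 :=
      isMultiplyPretransitive_of_le (n := 5) (by decide) (by simp [hα])
    haveI : IsPretransitive (setSystemAut B) α := is_one_pretransitive_iff.1 this
    obtain ⟨g, hg⟩ := exists_smul_eq (setSystemAut B) a b
    exact ⟨g, g.2, hg⟩
  one a _ b _ hab := by
    haveI := s12_aut_transitive hα hB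
    haveI : IsMultiplyPretransitive (setSystemAut B) α 2 :=
      isMultiplyPretransitive_of_le (n := 5) (by decide) (by simp [hα])
    obtain ⟨c, hc⟩ := Finset.card_pos.1 (show 0 < (Finset.univ \ {a, b}).card by
      rw [Finset.card_sdiff, Finset.inter_univ, Finset.card_univ, hα, Finset.card_pair hab]
      decide)
    simp only [Finset.mem_sdiff, Finset.mem_insert, Finset.mem_singleton, not_or] at hc
    obtain ⟨g, hg0, hg1⟩ := (is_two_pretransitive_iff (G := setSystemAut B)).1 this hab
      (Ne.symm hc.2.1)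
    exact ⟨g, g.2, hg0, by rw [show (g : Equiv.Perm α) b = c from hg1]; exact hc.2.2⟩

/-- A permutation normalising the automorphism group of an S(5,6,12) lies in it. -/
theorem s12_normalizer (hα : Fintype.card α = 12) (hB : Cfsg.IsSteinerSystem 5 6 B)
    {σ : Equiv.Perm α} (hσ : ∀ p ∈ setSystemAut B, σ⁻¹ * p * σ ∈ setSystemAut B) :
    σ ∈ setSystemAut B := by
  classical
  refine mem_setSystemAut_of_forall fun c hc => ?_
  set b := c.image σ with hb
  have hcb : b.card = 6 := by rw [hb, Finset.card_image_of_injective _ σ.injective, hB.1 c hc]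
  obtain ⟨s, hsb, hs⟩ := Finset.exists_subset_card_eq (show 5 ≤ b.card by omega)
  obtain ⟨h, ⟨hh, hsh⟩, -⟩ := hB.2 s hs
  obtain ⟨x, hx⟩ := Finset.card_eq_one.1 (show (b \ s).card = 1 by
    rw [Finset.card_sdiff_of_subset hsb]; omega)
  obtain ⟨y, hy⟩ := Finset.card_eq_one.1 (show (h \ s).card = 1 by
    rw [Finset.card_sdiff_of_subset hsh, hB.1 h hh]; omega)
  have hbx : b = insert x s := by rw [Finset.insert_eq, ← hx, Finset.sdiff_union_of_subset hsb]
  have hhy : h = insert y s := by rw [Finset.insert_eq, ← hy, Finset.sdiff_union_of_subset hsh]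
  have hxs : x ∉ s := fun e => by
    have := hx.ge (Finset.mem_singleton_self x)
    exact (Finset.mem_sdiff.1 this).2 e
  have hys : y ∉ s := fun e => by
    have := hy.ge (Finset.mem_singleton_self y)
    exact (Finset.mem_sdiff.1 this).2 e
  suffices x = y by rw [hbx, this, ← hhy]; exact hh
  by_contra hxy
  let e : Fin 5 ↪ α := (s.equivFinOfCardEq hs).symm.toEmbedding.trans (Function.Embedding.subtype _)
  haveI := s12_aut_transitive hα hB
  obtain ⟨⟨g, hg⟩, hge⟩ := exists_smul_eq (setSystemAut B) e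
    ((Equiv.swap 0 1).toEmbedding.trans e)
  have hgi : ∀ i, g (e i) = e (Equiv.swap 0 1 i) :=
    fun i => congrArg (fun f : Fin 5 ↪ α => f i) hge
  have hse : ∀ z, z ∈ s ↔ ∃ i, e i = z := fun z =>
    ⟨fun hz => ⟨s.equivFinOfCardEq hs ⟨z, hz⟩, by simp [e]⟩,
      fun ⟨i, hi⟩ => hi ▸ ((s.equivFinOfCardEq hs).symm i).2⟩
  have hgs : s.image g = s := by
    refine Finset.eq_of_subset_of_card_le (fun z hz => ?_)
      (by rw [Finset.card_image_of_injective _ g.injective])
    obtain ⟨w, hw, rfl⟩ := Finset.mem_image.1 hz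
    obtain ⟨i, rfl⟩ := (hse w).1 hw
    exact (hse _).2 ⟨_, (hgi i).symm⟩
  have himg : ∀ {g : Equiv.Perm α}, g ∈ setSystemAut B → ∀ {k}, k ∈ B → k.image g ∈ B :=
    fun {g} hg {k} hk => (mem_setSystemAut_iff.1 hg).le ⟨k, hk, rfl⟩
  have hgb : b.image g = b := by
    let τ : Equiv.Perm α := σ⁻¹ * g * σ
    have hk : c.image τ = c := by
      refine block_unique hB (himg (hσ g hg) hc) hc (s := s.image σ.symm)
        (by rw [Finset.card_image_of_injective _ σ.symm.injective, hs]) ?_ ?_
      · intro z hz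
        obtain ⟨w, hw, rfl⟩ := Finset.mem_image.1 hz
        rw [← hgs] at hw
        obtain ⟨v, hv, rfl⟩ := Finset.mem_image.1 hw
        obtain ⟨u, hu, rfl⟩ := Finset.mem_image.1 (hsb hv)
        exact Finset.mem_image.2 ⟨u, hu, rfl⟩
      · intro z hz
        obtain ⟨w, hw, rfl⟩ := Finset.mem_image.1 hz
        obtain ⟨u, hu, rfl⟩ := Finset.mem_image.1 (hsb hw)
        rwa [σ.symm_apply_apply]
    conv_rhs => rw [hb, ← hk, Finset.image_image]
    rw [hb, Finset.image_image]
    congr 1
    funext z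
    exact (σ.apply_symm_apply _).symm
  have hgh : h.image g = h := block_unique hB (himg hg hh) hh hs.ge
    (hgs ▸ Finset.image_subset_image hsh) hsh
  have hfixed : ∀ {k : Finset α} {z : α}, k.image g = k → k = insert z s → z ∉ s → g z = z := by
    intro k z hk hkz hz
    have : g z ∈ insert z s := by
      rw [← hkz, ← hk]
      exact Finset.mem_image_of_mem g (hkz ▸ Finset.mem_insert_self z s)
    rcases Finset.mem_insert.1 this with e | e
    · exact e
    · rw [← hgs] at e
      obtain ⟨w, hw, he⟩ := Finset.mem_image.1 e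
      exact absurd (g.injective he ▸ hw) hz
  have h1 := s12_aut_eq_one hα hB
    ⟨![x, y, e 2, e 3, e 4], by
      have hd : ∀ z, z ∉ s → ∀ i, z ≠ e i := fun z hz i h => hz ((hse z).2 ⟨i, h.symm⟩)
      intro i j hij
      fin_cases i <;> fin_cases j <;>
        simp_all [hd x hxs, hd y hys, (hd x hxs _).symm, (hd y hys _).symm, Ne.symm hxy]⟩
    hg fun i => by
      fin_cases i
      · exact hfixed hgb hbx hxs
      · exact hfixed hgh hhy hys
      all_goals exact hgi _
  have := hgi 0
  rw [h1, Equiv.swap_apply_left] at this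
  exact absurd (e.injective this) (by decide)

end Normalizer

end Cfsg.Agent.H10
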