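import Cfsg.Agent.H13.Bridge

/-!
Machine generated tables for the multiplier of M12: a double cover on 48 points, and elements of
M12 exhibiting a triply transitive configuration.
-/

set_option autoImplicit false

namespace Cfsg.Agent.H10.M12Data

open Cfsg.Agent.H13

/-- Generators of the double cover. -/
def coverGens : List PL := [
  ([2, 8, 16, 12, 9, 19, 0, 7, 18, 4, 11, 17, 3, 1, 22, 15, 6, 21, 13, 14, 20, 10, 5, 23, 28, 29, 34, 35, 45, 44, 47, 46, 38, 39, 40, 41, 26, 27, 32, 33, 36, 37, 25, 24, 42, 43, 31, 30], [6, 13, 0, 12, 9, 22, 16, 7, 1, 4, 21, 10, 3, 18, 19, 15, 2, 11, 8, 5, 20, 17, 14, 23, 43, 42, 36, 37, 24, 25, 47, 46, 38, 39, 26, 27, 40, 41, 32, 33, 34, 35, 44, 45, 29, 28, 31, 30]),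
  ([0, 1, 2, 8, 6, 22, 16, 20, 18, 3, 14, 19, 4, 13, 10, 23, 12, 21, 9, 11, 17, 7, 15, 5, 24, 25, 27, 26, 29, 28, 34, 35, 43, 42, 40, 41, 36, 37, 30, 31, 38, 39, 45, 44, 47, 46, 33, 32], [0, 1, 2, 9, 12, 23, 4, 21, 3, 18, 14, 19, 16, 13, 10, 22, 6, 20, 8, 11, 7, 17, 5, 15, 24, 25, 27, 26, 29, 28, 38, 39, 47, 46, 30, 31, 36, 37, 40, 41, 34, 35, 33, 32, 43, 42, 45, 44])]

/-- Certificate for the double cover. -/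
def coverLevels : List Level := [
  ⟨0, [(0, 0), (1, 0), (2, 0), (2, 1), (4, 0), (4, 1), (5, 1), (6, 0), (7, 0), (9, 0), (10, 0)], [(11, 1, 11), (5, 1, 8), (10, 1, 10)]⟩,
  ⟨1, [(0, 0), (1, 0), (1, 1), (1, 2), (3, 1), (4, 0), (4, 1), (4, 2), (5, 0), (6, 2)], [(0, 2, 0), (6, 2, 5)]⟩,
  ⟨2, [(0, 1), (1, 0), (1, 1), (2, 0), (2, 1), (3, 1), (5, 1), (6, 1), (7, 1)], [(0, 1, 8), (4, 1, 9), (0, 0, 0)]⟩,
  ⟨3, [(0, 1), (0, 2), (1, 1), (1, 2), (2, 2), (3, 1), (4, 1), (4, 2)], [(1, 2, 7), (2, 1, 8), (3, 0, 3)]⟩,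
  ⟨4, [(0, 0), (0, 1), (1, 0), (1, 1), (2, 0), (3, 0), (3, 1)], [(6, 2, 6)]⟩,
  ⟨24, [(0, 0)], []⟩]

/-- The central involution and two elements whose commutator it is. -/
def coverElems : List PL := [
  ([0, 1, 2, 3, 4, 5, 6, 7, 8, 9, 10, 11, 12, 13, 14, 15, 16, 17, 18, 19, 20, 21, 22, 23, 25, 24, 27, 26, 29, 28, 31, 30, 33, 32, 35, 34, 37, 36, 39, 38, 41, 40, 43, 42, 45, 44, 47, 46], [0, 1, 2, 3, 4, 5, 6, 7, 8, 9, 10, 11, 12, 13, 14, 15, 16, 17, 18, 19, 20, 21, 22, 23, 25, 24, 27, 26, 29, 28, 31, 30, 33, 32, 35, 34, 37, 36, 39, 38, 41, 40, 43, 42, 45, 44, 47, 46]),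
  ([16, 0, 13, 1, 12, 15, 18, 11, 2, 8, 17, 5, 3, 6, 7, 22, 4, 21, 9, 23, 19, 20, 14, 10, 44, 45, 24, 25, 36, 37, 27, 26, 46, 47, 29, 28, 43, 42, 35, 34, 38, 39, 40, 41, 33, 32, 31, 30], [1, 3, 8, 12, 16, 11, 13, 14, 9, 18, 23, 7, 4, 2, 22, 5, 0, 10, 6, 20, 21, 17, 15, 19, 26, 27, 31, 30, 35, 34, 47, 46, 45, 44, 39, 38, 28, 29, 40, 41, 42, 43, 37, 36, 24, 25, 32, 33]),
  ([8, 9, 16, 18, 13, 21, 12, 10, 0, 1, 7, 17, 6, 4, 23, 20, 2, 11, 3, 22, 15, 5, 19, 14, 34, 35, 38, 39, 45, 44, 40, 41, 36, 37, 25, 24, 33, 32, 27, 26, 31, 30, 47, 46, 28, 29, 42, 43], [8, 9, 16, 18, 13, 21, 12, 10, 0, 1, 7, 17, 6, 4, 23, 20, 2, 11, 3, 22, 15, 5, 19, 14, 35, 34, 39, 38, 44, 45, 41, 40, 37, 36, 24, 25, 32, 33, 26, 27, 30, 31, 46, 47, 29, 28, 43, 42])]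

/-- The elements `t`, `h₀` and a conjugator. -/
def configElems : List PL := [
  ([1, 0, 2, 3, 4, 14, 9, 10, 18, 6, 7, 11, 12, 16, 5, 21, 13, 17, 8, 20, 19, 15, 22, 23], [1, 0, 2, 3, 4, 14, 9, 10, 18, 6, 7, 11, 12, 16, 5, 21, 13, 17, 8, 20, 19, 15, 22, 23]),
  ([0, 2, 1, 3, 4, 23, 8, 10, 6, 16, 7, 15, 12, 18, 14, 11, 9, 17, 13, 22, 20, 21, 19, 5], [0, 2, 1, 3, 4, 23, 8, 10, 6, 16, 7, 15, 12, 18, 14, 11, 9, 17, 13, 22, 20, 21, 19, 5]),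
  ([2, 0, 1, 3, 4, 14, 16, 7, 13, 8, 10, 15, 12, 9, 23, 21, 18, 17, 6, 20, 22, 11, 19, 5], [1, 2, 0, 3, 4, 23, 18, 7, 9, 13, 10, 21, 12, 8, 5, 11, 6, 17, 16, 22, 19, 15, 20, 14])]

/-- Generators of the stabiliser of two points. -/
def twoPointGens : List PL := [
  ([0, 1, 18, 16, 3, 19, 2, 7, 13, 6, 23, 10, 9, 4, 21, 5, 8, 11, 12, 14, 20, 15, 17, 22], [0, 1, 6, 4, 13, 15, 9, 7, 16, 12, 11, 17, 18, 8, 19, 21, 3, 22, 2, 5, 20, 14, 23, 10]),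
  ([0, 1, 8, 3, 9, 7, 16, 20, 4, 2, 5, 19, 12, 6, 11, 22, 18, 14, 13, 17, 10, 23, 15, 21], [0, 1, 9, 3, 8, 10, 13, 5, 2, 4, 20, 14, 12, 18, 17, 22, 6, 19, 16, 11, 7, 23, 15, 21])]

/-- Certificate for the stabiliser of two points. -/
def twoPointLevels : List Level := [
  ⟨2, [(0, 0), (0, 1), (1, 0), (1, 1), (2, 1), (3, 0), (4, 1), (5, 0), (7, 1)], [(6, 1, 5), (8, 1, 8)]⟩,
  ⟨3, [(0, 0), (0, 1), (1, 0), (2, 1), (3, 0), (3, 1), (4, 0), (6, 0)], [(4, 0, 8), (1, 1, 4)]⟩,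
  ⟨4, [(0, 0), (0, 1), (1, 0), (1, 1), (2, 0), (3, 0), (3, 1)], []⟩]

/-- Commutator witnesses. -/
def commElems : List PL := [
  ([0, 1, 16, 13, 9, 7, 8, 20, 4, 18, 19, 5, 6, 12, 10, 22, 2, 15, 3, 23, 11, 17, 14, 21], [0, 1, 16, 18, 8, 11, 12, 5, 6, 4, 14, 20, 13, 3, 22, 17, 2, 21, 9, 10, 7, 23, 15, 19]),
  ([0, 1, 6, 12, 13, 11, 3, 15, 8, 18, 5, 14, 2, 9, 10, 22, 16, 21, 4, 7, 23, 17, 19, 20], [0, 1, 12, 6, 18, 10, 2, 19, 8, 13, 14, 5, 3, 4, 11, 7, 16, 21, 9, 22, 23, 17, 15, 20]),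
  ([0, 1, 18, 3, 4, 15, 9, 17, 2, 16, 22, 23, 8, 6, 5, 21, 13, 10, 12, 20, 19, 14, 7, 11], [0, 1, 8, 3, 4, 14, 13, 22, 12, 6, 17, 23, 18, 16, 21, 5, 9, 7, 2, 20, 19, 15, 10, 11]),
  ([0, 1, 18, 16, 3, 19, 2, 7, 13, 6, 23, 10, 9, 4, 21, 5, 8, 11, 12, 14, 20, 15, 17, 22], [0, 1, 6, 4, 13, 15, 9, 7, 16, 12, 11, 17, 18, 8, 19, 21, 3, 22, 2, 5, 20, 14, 23, 10])]

end Cfsg.Agent.H10.M12Data
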