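import Cfsg.Agent.H10.M12Action

/-!
A subgroup of M12 of order 7920 fixes one of the 24 points.
-/

set_option autoImplicit false
set_option linter.style.haveILetI false

namespace Cfsg.Agent.H10

open Cfsg MulAction
open scoped Pointwise

variable {d : Finset GolayPt}

/-- An element of prime order at least five fixes a given number of points of one side. -/
theorem IsM12Side.fixed_mod (hd : IsM12Side d) {g : Equiv.Perm GolayPt} (hg : g ∈ Spor.M12)
    {p : ℕ} [Fact p.Prime] (hp : orderOf g = p) :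
    (fixedIn g d).card ≤ 4 ∧ p ∣ (movedIn g d).card ∧
      (fixedIn g d).card + (movedIn g d).card = 12 := by
  refine ⟨?_, dvd_card_movedIn hp (hd.apply_mem_iff hg), by rw [card_fixedIn_add, hd.card]⟩
  by_contra h
  have hone := hd.eq_one hg (s := fixedIn g d) (by omega) (Finset.filter_subset _ _)
    fun x hx => (Finset.mem_filter.1 hx).2
  rw [hone, orderOf_one] at hp
  exact (Fact.out : p.Prime).ne_one hp.symm

/-- No two elements of orders 3 and 5 fix the same two points on each side. -/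
theorem IsM12Side.not_three_five (hd : IsM12Side d) {y z : Equiv.Perm GolayPt} (hy : y ∈ Spor.M12)
    (hz : z ∈ Spor.M12) (hy5 : orderOf y = 5) (hz3 : orderOf z = 3) {T : Finset GolayPt}
    (hT : T.card = 4) (hTd : (T ∩ d).card = 2) (hyT : ∀ x ∈ T, y x = x)
    (hzT : ∀ x ∈ T, z x = x) : False := by
  classical
  haveI : Fact (Nat.Prime 5) := ⟨by norm_num⟩
  haveI : Fact (Nat.Prime 3) := ⟨by norm_num⟩
  obtain ⟨hz4, ⟨i, hi⟩, hzsum⟩ := hd.fixed_mod hz hz3
  have hTz : T ∩ d ⊆ fixedIn z d := fun x hx =>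
    Finset.mem_filter.2 ⟨(Finset.mem_inter.1 hx).2, hzT x (Finset.mem_inter.1 hx).1⟩
  have hle := Finset.card_le_card hTz
  obtain ⟨c, hc, hcT⟩ := Finset.exists_mem_notMem_of_card_lt_card
    (t := fixedIn z d) (s := T ∩ d) (by omega)
  obtain ⟨hcd, hzc⟩ := Finset.mem_filter.1 hc
  replace hcT : c ∉ T := fun h => hcT (Finset.mem_inter.2 ⟨h, hcd⟩)
  have hcard5 : (insert c T).card = 5 := by rw [Finset.card_insert_of_notMem hcT, hT]
  obtain ⟨o, ⟨ho, hso⟩, -⟩ := S0363.result.2 _ hcard5
  have hTo : T ⊆ o := (Finset.subset_insert c T).trans hso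
  have hyfix := card_fixed_eq hy.1 hy5 (r := 4) (by decide) (by decide) (by decide)
  have hne : ∀ w : Equiv.Perm GolayPt, w ∈ M24 → orderOf w = 5 → (∀ x ∈ T, w x = x) →
      w • o ≠ o := by
    intro w hw hw5 hwT he
    have hf := card_fixed_eq hw hw5 (r := 4) (by decide) (by decide) (by decide)
    have hsub : T ⊆ fixedIn w o := fun x hx => Finset.mem_filter.2 ⟨hTo hx, hwT x hx⟩
    have h1 := Finset.card_le_card hsub
    have h2 := Finset.card_le_card (show fixedIn w o ⊆ fixedIn w Finset.univ from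
      Finset.filter_subset_filter _ (Finset.subset_univ o))
    obtain ⟨j, hj⟩ := dvd_card_movedIn hw5 (O := o) (H11.apply_mem_iff_of_smul_eq he)
    have h3 := card_fixedIn_add w o
    rw [show o.card = 8 from ho.2] at h3
    omega
  have hpowT : ∀ k : ℕ, ∀ x ∈ T, (y ^ k) x = x := by
    intro k x hx
    induction k with
    | zero => rfl
    | succ k ih => rw [pow_succ, Equiv.Perm.mul_apply, hyT x hx, ih]
  let part : Fin 5 → Finset GolayPt := fun k => (((y ^ (k : ℕ)) • o) ∩ d) \ T
  have hyd : ∀ k : ℕ, (y ^ k) • d = d := fun k =>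
    ((hd.stab _).1 (pow_mem hy k)).2
  have hTk : ∀ k : ℕ, T ⊆ (y ^ k) • o := fun k x hx =>
    Finset.mem_smul_finset.2 ⟨x, hTo hx, hpowT k x hx⟩
  have hk : ∀ k : Fin 5, (part k).card = (o ∩ d).card - 2 := by
    intro k
    simp only [part]
    have e : T ∩ (((y ^ (k : ℕ)) • o) ∩ d) = T ∩ d := by
      ext x
      simp only [Finset.mem_inter]
      exact ⟨fun h => ⟨h.1, h.2.2⟩, fun h => ⟨h.1, hTk k h.1, h.2⟩⟩
    rw [Finset.card_sdiff, e, hTd]
    conv_lhs => rw [← hyd k, ← Finset.smul_finset_inter, Finset.card_smul_finset]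
  have hdisj : ∀ k l : Fin 5, k ≠ l → Disjoint (part k) (part l) := by
    intro k l hkl
    rw [Finset.disjoint_left]
    intro x hx hx'
    simp only [part, Finset.mem_sdiff, Finset.mem_inter] at hx hx'
    have he : (y ^ (k : ℕ)) • o = (y ^ (l : ℕ)) • o := (S0363.result.2 (insert x T)
      (by rw [Finset.card_insert_of_notMem hx.2, hT])).unique
      ⟨H11.smul_mem_octads (pow_mem hy.1 _) ho, Finset.insert_subset hx.1.1 (hTk k)⟩
      ⟨H11.smul_mem_octads (pow_mem hy.1 _) ho, Finset.insert_subset hx'.1.1 (hTk l)⟩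
    have hw : ((y ^ (l : ℕ))⁻¹ * y ^ (k : ℕ)) • o = o := by rw [mul_smul, he, inv_smul_smul]
    refine hne _ (mul_mem (inv_mem (pow_mem hy.1 _)) (pow_mem hy.1 _)) ?_ ?_ hw
    · have h5 : ((y ^ (l : ℕ))⁻¹ * y ^ (k : ℕ)) ^ 5 = 1 := by
        have hc : Commute (y ^ (l : ℕ))⁻¹ (y ^ (k : ℕ)) :=
          ((Commute.refl y).pow_pow _ _).inv_left
        rw [hc.mul_pow, inv_pow, ← pow_mul, ← pow_mul, mul_comm (l : ℕ), mul_comm (k : ℕ),
          pow_mul, pow_mul, show y ^ 5 = 1 by rw [← hy5]; exact pow_orderOf_eq_one y]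
        simp
      refine orderOf_eq_prime h5 fun h1 => hkl ?_
      rw [inv_mul_eq_one] at h1
      exact Fin.ext (pow_injOn_Iio_orderOf (by rw [hy5]; exact k.2) (by rw [hy5]; exact l.2)
        h1.symm)
    · intro v hv
      rw [Equiv.Perm.mul_apply, hpowT k v hv]
      exact Equiv.Perm.inv_eq_iff_eq.2 (hpowT l v hv).symm
  have hsub : Finset.univ.biUnion part ⊆ d \ (T ∩ d) := by
    intro x hx
    simp only [Finset.mem_biUnion, part, Finset.mem_sdiff, Finset.mem_inter] at hx ⊢
    obtain ⟨k, -, ⟨-, hxd⟩, hxT⟩ := hx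
    exact ⟨hxd, fun h => hxT h.1⟩
  have hbig := Finset.card_le_card hsub
  rw [Finset.card_biUnion (fun k _ l _ h => hdisj k l h), Finset.sum_congr rfl (fun k _ => hk k),
    Finset.sum_const, Finset.card_univ, Fintype.card_fin, smul_eq_mul,
    Finset.card_sdiff_of_subset Finset.inter_subset_right, hd.card, hTd] at hbig
  have hge : T ∩ d ∪ {c} ⊆ o ∩ d := fun x hx => by
    rcases Finset.mem_union.1 hx with h | h
    · exact Finset.mem_inter.2 ⟨hTo (Finset.mem_inter.1 h).1, (Finset.mem_inter.1 h).2⟩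
    · rw [Finset.mem_singleton.1 h]
      exact Finset.mem_inter.2 ⟨hso (Finset.mem_insert_self _ _), hcd⟩
  have hge' := Finset.card_le_card hge
  rw [Finset.card_union_of_disjoint (by simp [hcT]), hTd, Finset.card_singleton] at hge'
  have h4 : (o ∩ d).card = 4 := by
    rcases H13.octad_inter_dodecad ho hd.mem with h | h | h <;> omega
  have hzo : z • o = o := (S0363.result.2 _ hcard5).unique
    ⟨H11.smul_mem_octads hz.1 ho, fun x hx => Finset.mem_smul_finset.2 ⟨x, hso hx, by
      rcases Finset.mem_insert.1 hx with rfl | hx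
      exacts [hzc, hzT x hx]⟩⟩ ⟨ho, hso⟩
  have hzinv : ∀ x, z x ∈ o ∩ d ↔ x ∈ o ∩ d := fun x => by
    rw [Finset.mem_inter, Finset.mem_inter, H11.apply_mem_iff_of_smul_eq hzo x,
      hd.apply_mem_iff hz x]
  obtain ⟨j, hj⟩ := dvd_card_movedIn hz3 (O := o ∩ d) hzinv
  have hs4 := card_fixedIn_add z (o ∩ d)
  have hfsub : T ∩ d ∪ {c} ⊆ fixedIn z (o ∩ d) := fun x hx => Finset.mem_filter.2 ⟨hge hx, by
    rcases Finset.mem_union.1 hx with h | h
    · exact hzT x (Finset.mem_inter.1 h).1
    · rw [Finset.mem_singleton.1 h]; exact hzc⟩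
  have hf3 := Finset.card_le_card hfsub
  rw [Finset.card_union_of_disjoint (by simp [hcT]), hTd, Finset.card_singleton] at hf3
  have hf4 : (fixedIn z (o ∩ d)).card ≤ (fixedIn z d).card :=
    Finset.card_le_card (Finset.filter_subset_filter _ Finset.inter_subset_right)
  omega

theorem disjoint_compl (d : Finset GolayPt) : Disjoint d (Finset.univ \ d) := disjoint_sdiff_self_right

/-- A subgroup of M12 of order 7920 cannot be transitive on both sides. -/
theorem exists_fixed_M12 {H : Subgroup (Equiv.Perm GolayPt)} (hH : H ≤ Spor.M12)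
    (hc : Nat.card H = 7920) : ∃ b, ∀ h ∈ H, h b = b := by
  classical
  have hD : IsM12Side Spor.squareDodecad := isM12Side_square
  have hE := isM12Side_compl
  set D := Spor.squareDodecad
  set E := Finset.univ \ D
  have hDE : Disjoint D E := disjoint_compl D
  haveI : Fact (Nat.Prime 2) := ⟨by norm_num⟩
  haveI : Fact (Nat.Prime 3) := ⟨by norm_num⟩
  haveI : Fact (Nat.Prime 5) := ⟨by norm_num⟩
  haveI : Fact (Nat.Prime 11) := ⟨by norm_num⟩
  have orbit11 : ∀ {d : Finset GolayPt}, IsM12Side d → ∀ {G : Subgroup (Equiv.Perm GolayPt)},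
      G ≤ H → ∀ {x}, x ∈ G → orderOf x = 11 → ∃ b ∈ d, x b = b ∧
      (∀ c ∈ d, x c = c → c = b) ∧ ((∀ h ∈ G, h b = b) ∨
        12 * Nat.card ↥(G ⊓ stabilizer (Equiv.Perm GolayPt) b) = Nat.card G ∧
          ∀ c ∈ d, ∃ h ∈ G, h b = c) := by
    intro d hd G hG x hx hx11
    obtain ⟨hf, ⟨i, hi⟩, hs⟩ := hd.fixed_mod (hH (hG hx)) hx11
    obtain ⟨b, hb⟩ := Finset.card_eq_one.1 (show (fixedIn x d).card = 1 by omega)
    obtain ⟨hbd, hxb⟩ := Finset.mem_filter.1 (hb.ge (Finset.mem_singleton_self b))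
    refine ⟨b, hbd, hxb, fun c hc h => Finset.mem_singleton.1
      (hb ▸ Finset.mem_filter.2 ⟨hc, h⟩), ?_⟩
    obtain ⟨O, hbO, hO, hreach, hcard⟩ := exists_orbitFinset G b
    have hOd : O ⊆ d := fun y hy => by
      obtain ⟨h, hh, rfl⟩ := hreach y hy
      exact (hd.apply_mem_iff (hH (hG hh)) b).2 hbd
    have h1 := Finset.card_le_card hOd
    rw [hd.card] at h1
    obtain ⟨j, hj⟩ := dvd_card_movedIn hx11 (O := O) (hO x hx)
    have h2 := card_fixedIn_add x O
    have h3 : (fixedIn x O).card ≤ 1 := by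
      rw [← Finset.card_singleton b, ← hb]
      exact Finset.card_le_card (Finset.filter_subset_filter _ hOd)
    have h4 : 0 < (fixedIn x O).card :=
      Finset.card_pos.2 ⟨b, Finset.mem_filter.2 ⟨hbO, hxb⟩⟩
    rcases (show O.card = 1 ∨ O.card = 12 by omega) with h | h
    · exact Or.inl (fixed_of_card_one hbO hO h)
    · refine Or.inr ⟨h ▸ hcard, fun c hc => hreach c ?_⟩
      rwa [Finset.eq_of_subset_of_card_le hOd (by rw [hd.card, h])]
  obtain ⟨x₀, hx₀, hx₀o⟩ := exists_orderOf (H := H) (p := 11) (by rw [hc]; decide)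
  obtain ⟨a, haD, -, -, hA⟩ := orbit11 hD le_rfl hx₀ hx₀o
  rcases hA with hA | ⟨hKc, htrD⟩
  · exact ⟨a, hA⟩
  set K := H ⊓ stabilizer (Equiv.Perm GolayPt) a with hKdef
  have hKH : K ≤ H := inf_le_left
  have hK660 : Nat.card K = 660 := by omega
  obtain ⟨x, hxK, hx11⟩ := exists_orderOf (H := K) (p := 11) (by rw [hK660]; decide)
  obtain ⟨b, hbE, hxb, -, hB⟩ := orbit11 hE hKH hxK hx11
  rcases hB with hB | ⟨hKb, -⟩
  swap
  · -- transitive on the other side: an involution of K is impossible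
    obtain ⟨t, htK, ht⟩ := exists_orderOf (H := K) (p := 2) (by rw [hK660]; decide)
    have htt : t * t = 1 := by rw [← pow_two, ← ht, pow_orderOf_eq_one]
    have hnoE : ∀ c ∈ E, t c ≠ c := by
      intro c hc hfix
      obtain ⟨O, hcO, hO, hreach, hcard⟩ := exists_orbitFinset K c
      have hOE : O = E := by
        apply Finset.Subset.antisymm
        · intro v hv
          obtain ⟨h, hh, rfl⟩ := hreach v hv
          exact (hE.apply_mem_iff (hH hh.1) c).2 hc
        · intro v hv
          obtain ⟨O', hbO', hO', hreach', hcard'⟩ := exists_orbitFinset K b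
          have h12 : O'.card = 12 := by
            have hpos : 0 < Nat.card ↥(K ⊓ stabilizer (Equiv.Perm GolayPt) b) := Nat.card_pos
            exact Nat.eq_of_mul_eq_mul_right hpos (hcard'.trans hKb.symm)
          have hO'E : O' = E := Finset.eq_of_subset_of_card_le (fun w hw => by
            obtain ⟨h, hh, rfl⟩ := hreach' w hw
            exact (hE.apply_mem_iff (hH hh.1) b).2 hbE) (by rw [hE.card, h12])
          obtain ⟨h, hh, rfl⟩ := hreach' c (hO'E ▸ hc)
          obtain ⟨k, hk, rfl⟩ := hreach' v (hO'E ▸ hv)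
          have : k b = (k * h⁻¹) (h b) := by
            rw [Equiv.Perm.mul_apply]
            exact congrArg k (h.symm_apply_apply b).symm
          rw [this]
          exact (hO _ (mul_mem hk (inv_mem hh)) _).2 hcO
      rw [hOE, hE.card] at hcard
      have hdvd : orderOf t ∣ Nat.card ↥(K ⊓ stabilizer (Equiv.Perm GolayPt) c) := by
        have h := orderOf_dvd_natCard (⟨t, htK, hfix⟩ : ↥(K ⊓ stabilizer (Equiv.Perm GolayPt) c))
        rw [← Subgroup.orderOf_coe] at h
        exact h
      rw [ht] at hdvd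
      omega
    have h5 := five_le_fixed (hH htK.1).1 htt (a := a) htK.2
    have hsub : fixedIn t Finset.univ ⊆ fixedIn t D := fun v hv => by
      obtain ⟨-, hv⟩ := Finset.mem_filter.1 hv
      refine Finset.mem_filter.2 ⟨?_, hv⟩
      by_contra hvD
      exact hnoE v (Finset.mem_sdiff.2 ⟨Finset.mem_univ _, hvD⟩) hv
    have hone := hD.eq_one (hH htK.1) (s := fixedIn t D)
      (h5.trans (Finset.card_le_card hsub)) (Finset.filter_subset _ _)
      fun v hv => (Finset.mem_filter.1 hv).2
    rw [hone, orderOf_one] at ht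
    cases ht
  -- `K` fixes `b`
  obtain ⟨e, heE, -, -, hE'⟩ := orbit11 hE le_rfl hx₀ hx₀o
  rcases hE' with hE' | ⟨-, htrE⟩
  · exact ⟨e, hE'⟩
  -- a second point `a'` on the first side
  obtain ⟨a', ha'D, ha'a⟩ := Finset.exists_mem_ne (by rw [hD.card]; decide : 1 < D.card) a
  obtain ⟨h, hhH, rfl⟩ := htrD a' ha'D
  set b' := h b with hb'def
  have hb'E : b' ∈ E := (hE.apply_mem_iff (hH hhH) b).2 hbE
  have hb'b : b' ≠ b := by
    intro e'
    have hle : K ≤ H ⊓ stabilizer (Equiv.Perm GolayPt) b := fun k hk => ⟨hk.1, hB k hk⟩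
    obtain ⟨O, hbO, hO, hreach, hcard⟩ := exists_orbitFinset H b
    have hOE : O = E := by
      apply Finset.Subset.antisymm
      · intro v hv
        obtain ⟨k, hk, rfl⟩ := hreach v hv
        exact (hE.apply_mem_iff (hH hk) b).2 hbE
      · intro v hv
        obtain ⟨k, hk, rfl⟩ := htrE v hv
        obtain ⟨l, hl, hle'⟩ := htrE b hbE
        have : k e = (k * l⁻¹) b := by
          rw [Equiv.Perm.mul_apply, ← hle']
          exact congrArg k (l.symm_apply_apply e).symm
        rw [this]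
        exact (hO _ (mul_mem hk (inv_mem hl)) b).2 hbO
    rw [hOE, hE.card, hc] at hcard
    have heq : K = H ⊓ stabilizer (Equiv.Perm GolayPt) b :=
      Subgroup.eq_of_le_of_card_ge hle (by rw [hK660]; omega)
    have hmem : h ∈ K := heq.ge ⟨hhH, e'⟩
    exact ha'a hmem.2
  -- the stabiliser of both pairs
  obtain ⟨O, ha'O, hO, hreach, hcard⟩ := exists_orbitFinset K (h a)
  have haO : Disjoint O {a} := Finset.disjoint_singleton_right.2 fun hmem => by
    obtain ⟨k, hk, he⟩ := hreach a hmem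
    exact ha'a (k.injective (he.trans (show k a = a from hk.2).symm))
  have hOD : O ⊆ D := fun v hv => by
    obtain ⟨k, hk, rfl⟩ := hreach v hv
    exact (hD.apply_mem_iff (hH hk.1) _).2 ha'D
  have hOle : O.card ≤ 11 := by
    have h12 := Finset.card_le_card (Finset.union_subset hOD (Finset.singleton_subset_iff.2 haD))
    rw [Finset.card_union_of_disjoint haO, Finset.card_singleton, hD.card] at h12
    omega
  obtain ⟨hxf, -, hxs⟩ := hD.fixed_mod (hH hxK.1) hx11
  obtain ⟨j, hj⟩ := dvd_card_movedIn hx11 (O := O) (hO x hxK)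
  have hOfix : (fixedIn x O).card + 1 ≤ (fixedIn x D).card := by
    rw [← Finset.card_singleton a, ← Finset.card_union_of_disjoint
      (haO.mono_left (Finset.filter_subset _ _) : Disjoint (fixedIn x O) {a})]
    refine Finset.card_le_card fun v hv => ?_
    rcases Finset.mem_union.1 hv with hv | hv
    · exact Finset.mem_filter.2 ⟨hOD (Finset.mem_filter.1 hv).1, (Finset.mem_filter.1 hv).2⟩
    · rw [Finset.mem_singleton.1 hv]
      exact Finset.mem_filter.2 ⟨haD, hxK.2⟩
  obtain ⟨i, hi⟩ := (hD.fixed_mod (hH hxK.1) hx11).2.1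
  have hO11 : O.card = 11 := by
    have := card_fixedIn_add x O
    have : 0 < O.card := Finset.card_pos.2 ⟨_, ha'O⟩
    omega
  rw [hO11, hK660] at hcard
  set L := K ⊓ stabilizer (Equiv.Perm GolayPt) (h a) with hLdef
  have hL60 : Nat.card L = 60 := by omega
  obtain ⟨y, hyL, hy⟩ := exists_orderOf (H := L) (p := 5) (by rw [hL60]; decide)
  obtain ⟨z, hzL, hz⟩ := exists_orderOf (H := L) (p := 3) (by rw [hL60]; decide)
  have hfix : ∀ k ∈ L, ∀ v ∈ ({a, h a, b, b'} : Finset GolayPt), k v = v := by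
    intro k hk v hv
    simp only [Finset.mem_insert, Finset.mem_singleton] at hv
    rcases hv with rfl | rfl | rfl | rfl
    · exact hk.1.2
    · exact hk.2
    · exact hB k hk.1
    · have hm : h⁻¹ * k * h ∈ K := by
        refine ⟨H.mul_mem (H.mul_mem (H.inv_mem hhH) hk.1.1) hhH, ?_⟩
        show h⁻¹ (k (h a)) = a
        rw [show k (h a) = h a from hk.2]
        exact h.symm_apply_apply a
      exact Equiv.Perm.inv_eq_iff_eq.1 (show h⁻¹ (k (h b)) = b from hB _ hm)
  have haE : a ∉ E := Finset.disjoint_left.1 hDE haD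
  have ha'E : h a ∉ E := Finset.disjoint_left.1 hDE ha'D
  have hTint : ({a, h a, b, b'} : Finset GolayPt) ∩ D = {a, h a} := by
    ext v
    simp only [Finset.mem_inter, Finset.mem_insert, Finset.mem_singleton]
    constructor
    · rintro ⟨rfl | rfl | rfl | rfl, hv⟩
      · exact Or.inl rfl
      · exact Or.inr rfl
      · exact absurd hbE (Finset.disjoint_left.1 hDE hv)
      · exact absurd hb'E (Finset.disjoint_left.1 hDE hv)
    · rintro (rfl | rfl)
      · exact ⟨Or.inl rfl, haD⟩
      · exact ⟨Or.inr (Or.inl rfl), ha'D⟩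
  exfalso
  refine hD.not_three_five (hH hyL.1.1) (hH hzL.1.1) hy hz ?_ ?_ (hfix y hyL) (hfix z hzL)
  · rw [Finset.card_insert_of_notMem, Finset.card_insert_of_notMem, Finset.card_pair hb'b.symm]
    · simp only [Finset.mem_insert, Finset.mem_singleton, not_or]
      exact ⟨fun e' => ha'E (e' ▸ hbE), fun e' => ha'E (e' ▸ hb'E)⟩
    · simp only [Finset.mem_insert, Finset.mem_singleton, not_or]
      exact ⟨ha'a.symm, fun e' => haE (e' ▸ hbE), fun e' => haE (e' ▸ hb'E)⟩
  · rw [hTint, Finset.card_pair ha'a.symm]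

end Cfsg.Agent.H10
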