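import Cfsg.Agent.H10.M12Index
import Cfsg.Agent.H10.PointStabAut

/-!
The outer automorphism group of M12 has order 2.
-/

set_option autoImplicit false
set_option linter.style.haveILetI false

namespace Cfsg.Agent.H10

open Cfsg MulAction
open scoped Pointwise

variable {d : Finset GolayPt}

/-- The point stabiliser of M12 goes to the point stabiliser on the side. -/
theorem map_sideEquiv_ptStab (hd : IsM12Side d) (a : {p : GolayPt // p ∈ d}) :
    (ptStab Spor.M12 a.1).map (sideEquiv hd : Spor.M12 →* setSystemAut (hexOn d)) =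
      ptStab (setSystemAut (hexOn d)) a := by
  ext k
  constructor
  · rintro ⟨g, hg, rfl⟩
    exact Subtype.ext ((sideEquiv_apply hd g a).trans hg)
  · intro hk
    refine ⟨(sideEquiv hd).symm k, ?_, (sideEquiv hd).apply_symm_apply k⟩
    show ((sideEquiv hd).symm k : Equiv.Perm GolayPt) a.1 = a.1
    rw [← sideEquiv_apply hd, MulEquiv.apply_symm_apply]
    exact congrArg Subtype.val hk

theorem exists_M12_map (hd : IsM12Side d) {a b : GolayPt} (ha : a ∈ d) (hb : b ∈ d) :
    ∃ g : Spor.M12, (g : Equiv.Perm GolayPt) a = b := by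
  obtain ⟨g, hg, he⟩ := (s12_stabData hd.card_subtype (H13.hexads_steiner hd.mem)).trans
    ⟨a, ha⟩ (Finset.mem_univ _) ⟨b, hb⟩ (Finset.mem_univ _)
  refine ⟨(sideEquiv hd).symm ⟨g, hg⟩, ?_⟩
  rw [← sideEquiv_apply hd _ ⟨a, ha⟩, MulEquiv.apply_symm_apply]
  exact congrArg Subtype.val he

theorem IsM12Side.card_ptStab (hd : IsM12Side d) {a : GolayPt} (ha : a ∈ d) :
    12 * Nat.card (ptStab Spor.M12 a) = 95040 := by
  obtain ⟨O, haO, hO, hreach, hcard⟩ := exists_orbitFinset Spor.M12 a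
  have hOd : O = d := by
    ext x
    constructor
    · intro hx
      obtain ⟨g, hg, rfl⟩ := hreach x hx
      exact (hd.apply_mem_iff hg a).2 ha
    · intro hx
      obtain ⟨⟨g, hg⟩, he⟩ := exists_M12_map hd ha hx
      exact he ▸ (hO g hg a).2 haO
  rw [hOd, hd.card, card_M12] at hcard
  rw [← hcard]
  congr 1
  exact Nat.card_congr
    { toFun := fun k => ⟨k.1.1, k.1.2, k.2⟩
      invFun := fun k => ⟨⟨k.1, k.2.1⟩, k.2.2⟩ }

theorem mem_side (b : GolayPt) :
    b ∈ Spor.squareDodecad ∨ b ∈ Finset.univ \ Spor.squareDodecad := by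
  simpa using em (b ∈ Spor.squareDodecad)

/-- An automorphism of M12 sends point stabilisers to point stabilisers. -/
theorem map_ptStab_12 (φ : MulAut Spor.M12) (a : GolayPt) :
    ∃ b, (ptStab Spor.M12 a).map (φ : Spor.M12 →* Spor.M12) = ptStab Spor.M12 b := by
  have hca : 12 * Nat.card (ptStab Spor.M12 a) = 95040 := by
    rcases mem_side a with h | h
    exacts [isM12Side_square.card_ptStab h, isM12Side_compl.card_ptStab h]
  set K := (ptStab Spor.M12 a).map (φ : Spor.M12 →* Spor.M12)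
  have hKc : Nat.card K = Nat.card (ptStab Spor.M12 a) :=
    Subgroup.card_map_of_injective φ.injective
  have hHc : Nat.card (K.map Spor.M12.subtype) = Nat.card K :=
    Subgroup.card_map_of_injective Spor.M12.subtype_injective
  obtain ⟨b, hb⟩ := exists_fixed_M12 (H := K.map Spor.M12.subtype) (Subgroup.map_subtype_le _)
    (by omega)
  refine ⟨b, Subgroup.eq_of_le_of_card_ge (fun k hk => hb _ ⟨k, hk, rfl⟩) ?_⟩
  have hcb : 12 * Nat.card (ptStab Spor.M12 b) = 95040 := by
    rcases mem_side b with h | h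
    exacts [isM12Side_square.card_ptStab h, isM12Side_compl.card_ptStab h]
  omega

/-- `φ` sends the stabilisers of points of `d` to stabilisers of points of `d'`. -/
def Carries (φ : MulAut Spor.M12) (d d' : Finset GolayPt) : Prop :=
  ∀ a ∈ d, ∃ b ∈ d', (ptStab Spor.M12 a).map (φ : Spor.M12 →* Spor.M12) = ptStab Spor.M12 b

/-- An automorphism keeping the stabilisers on a side is inner. -/
theorem inner_of_carries (hd : IsM12Side d) (φ : MulAut Spor.M12) (h : Carries φ d d) :
    φ ∈ Cfsg.Inn ↥Spor.M12 := by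
  classical
  set e := sideEquiv hd
  let ψ : MulAut (setSystemAut (hexOn d)) := e.symm.trans ((φ : Spor.M12 ≃* Spor.M12).trans e)
  have hst := s12_stabData hd.card_subtype (H13.hexads_steiner hd.mem)
  obtain ⟨σ, -, -, hσ⟩ := hst.exists_conj ψ (fun a _ => by
    obtain ⟨b, hb, he⟩ := h a.1 a.2
    refine ⟨⟨b, hb⟩, Finset.mem_univ _, ?_⟩
    have hcomp : (ψ : setSystemAut (hexOn d) →* setSystemAut (hexOn d)) =
        (e : Spor.M12 →* setSystemAut (hexOn d)).comp
          ((φ : Spor.M12 →* Spor.M12).comp (e.symm : setSystemAut (hexOn d) →* Spor.M12)) := rfl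
    rw [hcomp, ← Subgroup.map_map, ← Subgroup.map_map,
      ← map_sideEquiv_ptStab hd a, ← map_sideEquiv_ptStab hd ⟨b, hb⟩]
    congr 1
    rw [← he]
    congr 1
    rw [Subgroup.map_map]
    convert Subgroup.map_id (ptStab Spor.M12 a.1)
    exact MonoidHom.ext fun g => e.symm_apply_apply g)
  have hmem : σ ∈ setSystemAut (hexOn d) := s12_normalizer hd.card_subtype
    (H13.hexads_steiner hd.mem) fun p hp => by
      have h1 := hσ (ψ.symm ⟨p, hp⟩)
      rw [MulEquiv.apply_symm_apply] at h1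
      have e1 : σ⁻¹ * p * σ = (ψ.symm ⟨p, hp⟩ : Equiv.Perm {p : GolayPt // p ∈ d}) := by
        show σ⁻¹ * ((⟨p, hp⟩ : setSystemAut (hexOn d)) : Equiv.Perm {p : GolayPt // p ∈ d}) * σ = _
        rw [h1]; group
      exact e1 ▸ (ψ.symm ⟨p, hp⟩).2
  refine ⟨e.symm ⟨σ, hmem⟩, MulEquiv.ext fun g => e.injective ?_⟩
  rw [MulAut.conj_apply, map_mul, map_mul, map_inv, MulEquiv.apply_symm_apply]
  refine Subtype.ext ?_
  have h2 := hσ (e g)
  have h3 : ψ (e g) = e (φ g) := congrArg e (congrArg φ (e.symm_apply_apply g))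
  rw [h3] at h2
  rw [h2]
  rfl

theorem ptStab_apply (g : Spor.M12) (a : GolayPt) :
    ptStab Spor.M12 ((g : Equiv.Perm GolayPt) a) =
      (ptStab Spor.M12 a).map (MulAut.conj g : Spor.M12 →* Spor.M12) := by
  ext k
  constructor
  · intro hk
    refine ⟨g⁻¹ * k * g, ?_, show g * (g⁻¹ * k * g) * g⁻¹ = k by group⟩
    show (g : Equiv.Perm GolayPt)⁻¹ ((k : Equiv.Perm GolayPt) ((g : Equiv.Perm GolayPt) a)) = a
    rw [show (k : Equiv.Perm GolayPt) ((g : Equiv.Perm GolayPt) a) = (g : Equiv.Perm GolayPt) a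
      from hk]
    exact (g : Equiv.Perm GolayPt).symm_apply_apply a
  · rintro ⟨w, hw, rfl⟩
    show (g : Equiv.Perm GolayPt) ((w : Equiv.Perm GolayPt)
      ((g : Equiv.Perm GolayPt)⁻¹ ((g : Equiv.Perm GolayPt) a))) = (g : Equiv.Perm GolayPt) a
    rw [show (g : Equiv.Perm GolayPt)⁻¹ ((g : Equiv.Perm GolayPt) a) = a from
      (g : Equiv.Perm GolayPt).symm_apply_apply a,
      show (w : Equiv.Perm GolayPt) a = a from hw]

/-- The image of one stabiliser on a side determines the side of all. -/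
theorem carries_of_one {d' : Finset GolayPt} (hd : IsM12Side d) (hd' : IsM12Side d')
    (φ : MulAut Spor.M12) {a b : GolayPt} (ha : a ∈ d) (hb : b ∈ d')
    (he : (ptStab Spor.M12 a).map (φ : Spor.M12 →* Spor.M12) = ptStab Spor.M12 b) :
    Carries φ d d' := by
  intro a' ha'
  obtain ⟨g, rfl⟩ := exists_M12_map hd ha ha'
  refine ⟨(φ g : Equiv.Perm GolayPt) b, (hd'.apply_mem_iff (φ g).2 b).2 hb, ?_⟩
  rw [ptStab_apply, ptStab_apply, ← he, Subgroup.map_map, Subgroup.map_map]
  congr 1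
  ext k
  simp

/-- An automorphism that is not inner sends the stabilisers to those on the other side. -/
theorem exists_map_of_not_inner {φ : MulAut Spor.M12} (hφ : φ ∉ Cfsg.Inn ↥Spor.M12) :
    Carries φ Spor.squareDodecad (Finset.univ \ Spor.squareDodecad) := by
  obtain ⟨a, ha⟩ := Finset.card_pos.1
    (show 0 < Spor.squareDodecad.card by rw [isM12Side_square.card]; decide)
  obtain ⟨b, he⟩ := map_ptStab_12 φ a
  rcases mem_side b with hb | hb
  · exact absurd (inner_of_carries isM12Side_square φ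
      (carries_of_one isM12Side_square isM12Side_square φ ha hb he)) hφ
  · exact carries_of_one isM12Side_square isM12Side_compl φ ha hb he

/-- M12 has an automorphism that is not inner. -/
theorem exists_outer_M12 : ∃ φ : MulAut Spor.M12, φ ∉ Cfsg.Inn ↥Spor.M12 := by
  obtain ⟨g, hg, hs, hM⟩ := H13.exists_swap
  have hs' : g • (Finset.univ \ Spor.squareDodecad) = Spor.squareDodecad := by
    rw [Finset.smul_finset_sdiff, hs, Finset.smul_finset_univ]
    simp
  have hgi : g⁻¹ • Spor.squareDodecad = Finset.univ \ Spor.squareDodecad :=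
    inv_smul_eq_iff.2 hs'.symm
  have hc : ∀ k ∈ Spor.M12, g * k * g⁻¹ ∈ Spor.M12 ∧ g⁻¹ * k * g ∈ Spor.M12 := by
    intro k hk
    obtain ⟨hk24, hkd⟩ := hk
    replace hkd : k • Spor.squareDodecad = Spor.squareDodecad := hkd
    refine ⟨⟨M24.mul_mem (M24.mul_mem hg hk24) (M24.inv_mem hg), ?_⟩,
      ⟨M24.mul_mem (M24.mul_mem (M24.inv_mem hg) hk24) hg, ?_⟩⟩
    · show (g * k * g⁻¹) • Spor.squareDodecad = Spor.squareDodecad
      rw [mul_smul, mul_smul, hgi, compl_smul_eq_iff.2 hkd, hs']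
    · show (g⁻¹ * k * g) • Spor.squareDodecad = Spor.squareDodecad
      rw [mul_smul, mul_smul, hs, compl_smul_eq_iff.2 hkd, ← hs, inv_smul_smul]
  let φ : MulAut Spor.M12 :=
    { toFun := fun k => ⟨_, (hc k k.2).1⟩
      invFun := fun k => ⟨_, (hc k k.2).2⟩
      left_inv := fun k => Subtype.ext (by show g⁻¹ * (g * k * g⁻¹) * g = k; group)
      right_inv := fun k => Subtype.ext (by show g * (g⁻¹ * k * g) * g⁻¹ = k; group)
      map_mul' := fun a b => Subtype.ext (by
        show g * (a * b : Equiv.Perm GolayPt) * g⁻¹ = (g * a * g⁻¹) * (g * b * g⁻¹); group) }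
  refine ⟨φ, fun ⟨h, hh⟩ => H13.not_conj ⟨h, h.2, ?_⟩⟩
  rw [← hM]
  have key : ∀ w ∈ Spor.M12, (h : Equiv.Perm GolayPt) * w * (h : Equiv.Perm GolayPt)⁻¹
      = g * w * g⁻¹ := fun w hw =>
    (congrArg Subtype.val (DFunLike.congr_fun hh (⟨w, hw⟩ : Spor.M12)) :)
  ext v
  constructor
  · rintro ⟨w, hw, rfl⟩
    exact ⟨w, hw, (key w hw.1).symm⟩
  · rintro ⟨w, hw, rfl⟩
    exact ⟨w, hw, key w hw.1⟩

/-- The outer automorphism group of M12 has order 2. -/
theorem out_M12 : Nat.card (Cfsg.Out ↥Spor.M12) = 2 := by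
  rw [← Subgroup.index_eq_card, Subgroup.index_eq_two_iff]
  obtain ⟨α, hα⟩ := exists_outer_M12
  refine ⟨α, fun φ => ?_⟩
  by_cases hφ : φ ∈ Cfsg.Inn ↥Spor.M12
  · refine Or.inr ⟨hφ, fun h => hα ?_⟩
    exact ((Cfsg.Inn ↥Spor.M12).mul_mem_cancel_left hφ).1 h
  refine Or.inl ⟨?_, hφ⟩
  have hφ' : φ⁻¹ ∉ Cfsg.Inn ↥Spor.M12 := fun h => hφ (inv_mem_iff.1 h)
  -- both `α` and `φ⁻¹` exchange the sides, so `φ * α` keeps them
  obtain ⟨a, ha⟩ := Finset.card_pos.1
    (show 0 < Spor.squareDodecad.card by rw [isM12Side_square.card]; decide)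
  obtain ⟨b, hb, hαb⟩ := exists_map_of_not_inner hα a ha
  obtain ⟨b₁, hb₁, hφb⟩ := exists_map_of_not_inner hφ' a ha
  obtain ⟨g, hg⟩ := exists_M12_map isM12Side_compl hb₁ hb
  refine inner_of_carries isM12Side_square _ (carries_of_one isM12Side_square isM12Side_square _ ha
    ((isM12Side_square.apply_mem_iff (φ g).2 a).2 ha) ?_)
  show (ptStab Spor.M12 a).map ((φ : Spor.M12 →* Spor.M12).comp (α : Spor.M12 →* Spor.M12)) = _
  rw [← Subgroup.map_map, hαb, ← hg, ptStab_apply, ← hφb, ptStab_apply, Subgroup.map_map,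
    Subgroup.map_map]
  congr 1
  ext k
  simp [map_mul]

end Cfsg.Agent.H10
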