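import Cfsg.Agent.H13.Bridge

/-!
Machine generated tables for the multiplier of M23: involution generators of a Sylow 2-subgroup
with their conjugation relations, and a certificate that the signs of the lifts can be removed.
-/

set_option autoImplicit false

namespace Cfsg.Agent.H10.M23Data

open Cfsg.Agent.H13

/-- Involutions generating a Sylow 2-subgroup. -/
def sylGens : List PL := [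
  ([8, 16, 3, 2, 4, 18, 7, 6, 0, 9, 10, 11, 22, 14, 13, 19, 1, 17, 5, 15, 20, 21, 12, 23], [8, 16, 3, 2, 4, 18, 7, 6, 0, 9, 10, 11, 22, 14, 13, 19, 1, 17, 5, 15, 20, 21, 12, 23]),
  ([16, 8, 19, 15, 4, 14, 22, 12, 1, 9, 10, 11, 7, 18, 5, 3, 0, 17, 13, 2, 20, 21, 6, 23], [16, 8, 19, 15, 4, 14, 22, 12, 1, 9, 10, 11, 7, 18, 5, 3, 0, 17, 13, 2, 20, 21, 6, 23]),
  ([13, 7, 2, 22, 11, 19, 18, 1, 8, 9, 21, 4, 12, 0, 14, 16, 15, 17, 6, 5, 20, 10, 3, 23], [13, 7, 2, 22, 11, 19, 18, 1, 8, 9, 21, 4, 12, 0, 14, 16, 15, 17, 6, 5, 20, 10, 3, 23]),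
  ([3, 7, 12, 0, 10, 19, 6, 1, 14, 9, 4, 21, 2, 22, 8, 15, 16, 17, 18, 5, 20, 11, 13, 23], [3, 7, 12, 0, 10, 19, 6, 1, 14, 9, 4, 21, 2, 22, 8, 15, 16, 17, 18, 5, 20, 11, 13, 23]),
  ([0, 19, 12, 3, 11, 7, 16, 5, 14, 9, 21, 4, 2, 13, 8, 18, 6, 17, 15, 1, 20, 10, 22, 23], [0, 19, 12, 3, 11, 7, 16, 5, 14, 9, 21, 4, 2, 13, 8, 18, 6, 17, 15, 1, 20, 10, 22, 23]),
  ([0, 5, 14, 3, 10, 1, 18, 19, 12, 9, 4, 21, 8, 13, 2, 16, 15, 17, 6, 7, 20, 11, 22, 23], [0, 5, 14, 3, 10, 1, 18, 19, 12, 9, 4, 21, 8, 13, 2, 16, 15, 17, 6, 7, 20, 11, 22, 23]),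
  ([0, 14, 5, 3, 10, 2, 6, 8, 7, 20, 4, 11, 19, 22, 1, 16, 15, 17, 18, 12, 9, 21, 13, 23], [0, 14, 5, 3, 10, 2, 6, 8, 7, 20, 4, 11, 19, 22, 1, 16, 15, 17, 18, 12, 9, 21, 13, 23])]

/-- Certificate for the Sylow 2-subgroup. -/
def sylLevels : List Level := [
  ⟨0, [(0, 0), (0, 1), (0, 2), (0, 3), (1, 1), (1, 3), (1, 5), (1, 6), (2, 2), (2, 4), (3, 1), (3, 3), (4, 0), (5, 4), (5, 5)], [(15, 2, 14), (7, 0, 12), (3, 6, 12)]⟩,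
  ⟨1, [(0, 0), (0, 1), (0, 2), (1, 1), (1, 2), (2, 2), (3, 1)], []⟩]

/-- Conjugators of the involutions used to the last generator. -/
def conjElems : List PL := [
  ([7, 4, 13, 22, 0, 5, 16, 15, 8, 21, 17, 6, 12, 9, 20, 1, 10, 11, 2, 14, 3, 18, 19, 23], [4, 15, 18, 20, 1, 5, 11, 0, 8, 13, 16, 17, 12, 2, 19, 7, 6, 10, 21, 22, 14, 9, 3, 23]),
  ([9, 14, 19, 10, 11, 2, 16, 7, 1, 18, 17, 0, 8, 13, 5, 4, 20, 21, 22, 12, 3, 6, 15, 23], [11, 8, 5, 20, 15, 14, 21, 7, 12, 0, 3, 4, 19, 13, 1, 22, 6, 10, 9, 2, 16, 17, 18, 23]),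
  ([16, 14, 18, 22, 4, 12, 2, 1, 3, 21, 9, 10, 6, 15, 0, 8, 7, 17, 5, 19, 11, 20, 13, 23], [14, 7, 6, 8, 4, 18, 12, 16, 15, 10, 11, 20, 5, 22, 1, 13, 0, 17, 2, 19, 21, 9, 3, 23]),
  ([7, 22, 14, 8, 10, 12, 17, 13, 16, 0, 4, 5, 1, 9, 15, 3, 18, 11, 21, 19, 6, 2, 20, 23], [9, 12, 21, 15, 10, 11, 20, 0, 3, 13, 4, 17, 5, 7, 2, 14, 8, 6, 16, 19, 22, 18, 1, 23]),
  ([17, 4, 8, 18, 13, 12, 1, 19, 16, 3, 5, 22, 7, 11, 15, 20, 14, 21, 9, 10, 6, 2, 0, 23], [22, 6, 21, 9, 1, 10, 20, 12, 2, 18, 19, 13, 5, 4, 16, 14, 8, 0, 3, 7, 15, 17, 11, 23]),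
  ([18, 15, 20, 6, 1, 16, 19, 10, 22, 0, 14, 2, 13, 21, 9, 8, 7, 17, 12, 4, 3, 5, 11, 23], [9, 4, 11, 20, 19, 21, 3, 16, 15, 14, 7, 22, 18, 12, 10, 1, 5, 17, 0, 6, 2, 13, 8, 23]),
  ([6, 19, 2, 18, 10, 5, 0, 7, 8, 20, 4, 11, 14, 16, 12, 22, 13, 17, 3, 1, 9, 21, 15, 23], [6, 19, 2, 18, 10, 5, 0, 7, 8, 20, 4, 11, 14, 16, 12, 22, 13, 17, 3, 1, 9, 21, 15, 23]),
  ([5, 2, 20, 15, 0, 7, 10, 22, 12, 11, 3, 21, 4, 8, 14, 9, 19, 6, 1, 16, 18, 17, 13, 23], [4, 18, 1, 10, 12, 0, 17, 5, 13, 15, 6, 9, 8, 22, 14, 3, 19, 21, 20, 16, 2, 11, 7, 23]),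
  ([22, 3, 16, 19, 10, 17, 20, 21, 14, 11, 5, 2, 15, 12, 1, 8, 7, 6, 9, 18, 0, 4, 13, 23], [20, 14, 11, 1, 21, 10, 17, 16, 15, 18, 4, 9, 13, 22, 8, 12, 2, 5, 19, 3, 6, 7, 0, 23]),
  ([4, 1, 22, 20, 3, 14, 7, 12, 16, 21, 6, 0, 13, 10, 15, 8, 5, 17, 2, 19, 11, 18, 9, 23], [11, 1, 18, 4, 0, 16, 10, 6, 15, 22, 13, 20, 7, 12, 5, 14, 8, 17, 21, 19, 3, 9, 2, 23]),
  ([1, 8, 6, 14, 16, 7, 20, 19, 11, 0, 10, 4, 21, 5, 18, 13, 9, 17, 22, 12, 3, 15, 2, 23], [9, 0, 22, 20, 11, 13, 2, 5, 1, 16, 10, 8, 19, 15, 3, 21, 4, 17, 14, 7, 6, 12, 18, 23]),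
  ([1, 19, 4, 2, 13, 8, 18, 7, 16, 0, 20, 9, 15, 14, 10, 11, 6, 17, 21, 12, 3, 22, 5, 23], [9, 0, 3, 20, 2, 22, 16, 7, 5, 11, 14, 15, 19, 4, 13, 12, 8, 17, 6, 1, 10, 18, 21, 23]),
  ([10, 9, 1, 4, 21, 5, 15, 2, 14, 18, 6, 17, 13, 8, 22, 19, 12, 3, 16, 20, 11, 0, 7, 23], [21, 2, 7, 17, 3, 5, 10, 22, 13, 1, 0, 20, 16, 12, 8, 6, 18, 11, 9, 15, 19, 4, 14, 23]),
  ([11, 10, 19, 6, 13, 1, 16, 4, 12, 0, 8, 7, 20, 17, 9, 15, 5, 18, 2, 14, 21, 22, 3, 23], [9, 5, 18, 22, 7, 16, 3, 11, 10, 14, 1, 0, 8, 4, 19, 15, 6, 13, 17, 2, 12, 20, 21, 23]),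
  ([22, 1, 16, 13, 6, 2, 18, 10, 14, 20, 11, 7, 5, 3, 4, 12, 19, 0, 21, 15, 9, 8, 17, 23], [17, 1, 5, 13, 14, 12, 4, 11, 21, 20, 7, 10, 15, 3, 8, 19, 2, 22, 6, 16, 9, 18, 0, 23]),
  ([6, 12, 19, 0, 17, 13, 8, 15, 14, 10, 21, 9, 16, 5, 22, 3, 18, 11, 7, 1, 4, 20, 2, 23], [3, 19, 22, 15, 20, 13, 0, 18, 6, 11, 9, 17, 1, 5, 8, 7, 12, 4, 16, 2, 21, 10, 14, 23]),
  ([10, 7, 9, 19, 18, 13, 15, 5, 1, 6, 3, 21, 12, 14, 4, 2, 22, 0, 8, 16, 17, 11, 20, 23], [17, 8, 15, 10, 14, 7, 9, 1, 18, 2, 0, 21, 12, 5, 13, 6, 19, 20, 4, 3, 22, 11, 16, 23]),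
  ([8, 13, 22, 9, 6, 2, 15, 4, 12, 18, 0, 17, 5, 16, 10, 7, 20, 11, 1, 19, 21, 3, 14, 23], [10, 18, 5, 21, 7, 12, 4, 15, 0, 3, 14, 17, 8, 1, 22, 6, 13, 11, 9, 19, 16, 20, 2, 23]),
  ([22, 19, 8, 20, 3, 11, 16, 21, 7, 1, 0, 5, 6, 15, 18, 9, 13, 17, 10, 12, 14, 2, 4, 23], [10, 9, 21, 4, 22, 11, 12, 8, 2, 15, 18, 5, 19, 16, 20, 13, 6, 17, 14, 1, 3, 7, 0, 23]),
  ([14, 10, 15, 9, 0, 8, 20, 16, 7, 17, 18, 3, 19, 22, 4, 2, 13, 6, 1, 12, 11, 21, 5, 23], [4, 18, 15, 11, 14, 22, 17, 8, 5, 3, 1, 20, 19, 16, 0, 2, 7, 9, 10, 12, 6, 21, 13, 23]),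
  ([1, 9, 14, 19, 11, 22, 13, 16, 12, 21, 3, 18, 5, 2, 8, 20, 4, 0, 15, 10, 6, 17, 7, 23], [17, 0, 13, 10, 16, 12, 20, 22, 14, 1, 19, 4, 8, 6, 2, 18, 7, 21, 11, 3, 15, 9, 5, 23]),
  ([14, 18, 22, 15, 10, 19, 16, 12, 13, 5, 4, 11, 3, 7, 21, 8, 9, 6, 1, 17, 2, 0, 20, 23], [21, 18, 20, 12, 10, 9, 17, 13, 15, 16, 4, 11, 7, 8, 0, 3, 6, 19, 1, 5, 22, 14, 2, 23])]

/-- Three commuting involutions and their products. -/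
def klein : List PL := [
  ([0, 2, 1, 3, 4, 14, 18, 12, 19, 20, 10, 21, 7, 22, 5, 15, 16, 17, 6, 8, 9, 11, 13, 23], [0, 2, 1, 3, 4, 14, 18, 12, 19, 20, 10, 21, 7, 22, 5, 15, 16, 17, 6, 8, 9, 11, 13, 23]),
  ([0, 5, 14, 3, 10, 1, 18, 19, 12, 9, 4, 21, 8, 13, 2, 16, 15, 17, 6, 7, 20, 11, 22, 23], [0, 5, 14, 3, 10, 1, 18, 19, 12, 9, 4, 21, 8, 13, 2, 16, 15, 17, 6, 7, 20, 11, 22, 23]),
  ([3, 7, 12, 0, 10, 19, 6, 1, 14, 9, 4, 21, 2, 22, 8, 15, 16, 17, 18, 5, 20, 11, 13, 23], [3, 7, 12, 0, 10, 19, 6, 1, 14, 9, 4, 21, 2, 22, 8, 15, 16, 17, 18, 5, 20, 11, 13, 23]),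
  ([0, 14, 5, 3, 10, 2, 6, 8, 7, 20, 4, 11, 19, 22, 1, 16, 15, 17, 18, 12, 9, 21, 13, 23], [0, 14, 5, 3, 10, 2, 6, 8, 7, 20, 4, 11, 19, 22, 1, 16, 15, 17, 18, 12, 9, 21, 13, 23]),
  ([3, 12, 7, 0, 10, 8, 18, 2, 5, 20, 4, 11, 1, 13, 19, 15, 16, 17, 6, 14, 9, 21, 22, 23], [3, 12, 7, 0, 10, 8, 18, 2, 5, 20, 4, 11, 1, 13, 19, 15, 16, 17, 6, 14, 9, 21, 22, 23]),
  ([3, 19, 8, 0, 4, 7, 18, 5, 2, 9, 10, 11, 14, 22, 12, 16, 15, 17, 6, 1, 20, 21, 13, 23], [3, 19, 8, 0, 4, 7, 18, 5, 2, 9, 10, 11, 14, 22, 12, 16, 15, 17, 6, 1, 20, 21, 13, 23]),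
  ([3, 8, 19, 0, 4, 12, 6, 14, 1, 20, 10, 21, 5, 13, 7, 16, 15, 17, 18, 2, 9, 11, 22, 23], [3, 8, 19, 0, 4, 12, 6, 14, 1, 20, 10, 21, 5, 13, 7, 16, 15, 17, 18, 2, 9, 11, 22, 23])]

/-- Conjugators for these. -/
def kleinConj : List PL := [
  ([18, 16, 15, 0, 6, 2, 1, 22, 7, 12, 3, 4, 13, 9, 5, 11, 17, 21, 14, 8, 19, 10, 20, 23], [3, 6, 5, 10, 11, 14, 4, 8, 19, 13, 21, 15, 9, 12, 18, 2, 1, 16, 0, 20, 22, 17, 7, 23]),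
  ([21, 7, 16, 3, 10, 8, 13, 9, 1, 11, 4, 5, 14, 17, 15, 12, 19, 6, 22, 20, 0, 2, 18, 23], [20, 8, 21, 3, 10, 11, 17, 1, 5, 7, 4, 9, 15, 6, 12, 14, 2, 13, 22, 16, 19, 0, 18, 23]),
  ([10, 8, 14, 4, 13, 15, 0, 7, 20, 3, 22, 5, 1, 12, 9, 17, 18, 6, 11, 16, 21, 2, 19, 23], [6, 12, 21, 9, 3, 11, 17, 7, 1, 14, 0, 18, 13, 4, 2, 5, 19, 15, 16, 22, 8, 20, 10, 23]),
  ([11, 16, 13, 21, 14, 22, 3, 4, 10, 7, 1, 18, 20, 2, 15, 19, 12, 17, 0, 9, 8, 6, 5, 23], [18, 10, 13, 6, 7, 22, 21, 9, 20, 19, 8, 0, 16, 2, 4, 14, 1, 17, 11, 15, 12, 3, 5, 23]),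
  ([19, 13, 20, 12, 7, 4, 14, 9, 10, 2, 8, 21, 22, 18, 16, 0, 3, 17, 1, 15, 5, 11, 6, 23], [15, 18, 9, 16, 5, 20, 22, 4, 10, 7, 8, 21, 3, 1, 6, 19, 14, 17, 13, 0, 2, 11, 12, 23]),
  ([14, 5, 9, 1, 3, 12, 10, 19, 20, 6, 11, 0, 16, 8, 15, 22, 13, 18, 4, 2, 17, 21, 7, 23], [11, 3, 19, 4, 18, 1, 9, 22, 13, 2, 6, 10, 5, 16, 0, 14, 12, 20, 17, 7, 8, 21, 15, 23]),
  ([15, 22, 10, 16, 6, 1, 21, 7, 13, 19, 17, 5, 14, 11, 8, 9, 20, 18, 0, 4, 12, 2, 3, 23], [18, 5, 21, 22, 19, 11, 4, 7, 14, 15, 2, 13, 20, 8, 12, 0, 3, 10, 17, 9, 16, 6, 1, 23])]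

/-- A fusing element. -/
def fusElem : List PL := [
  ([13, 12, 19, 3, 11, 2, 18, 14, 5, 17, 4, 21, 7, 0, 1, 16, 6, 9, 15, 8, 20, 10, 22, 23], [13, 14, 5, 3, 10, 8, 16, 12, 19, 17, 21, 4, 1, 0, 7, 18, 15, 9, 6, 2, 20, 11, 22, 23])]

/-- Generators of a Sylow 3-subgroup and an involution acting on it. -/
def threeElems : List PL := [
  ([15, 2, 11, 3, 4, 13, 12, 9, 5, 14, 10, 1, 19, 8, 7, 17, 16, 0, 22, 6, 18, 21, 20, 23], [17, 11, 1, 3, 4, 8, 19, 14, 13, 7, 10, 2, 6, 5, 9, 0, 16, 15, 20, 12, 22, 21, 18, 23]),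
  ([6, 2, 11, 3, 4, 8, 22, 7, 13, 9, 21, 1, 20, 5, 14, 12, 10, 19, 17, 18, 15, 16, 0, 23], [22, 11, 1, 3, 4, 13, 0, 7, 5, 9, 16, 2, 15, 8, 14, 20, 21, 18, 19, 17, 12, 10, 6, 23]),
  ([0, 13, 8, 4, 3, 11, 22, 7, 2, 9, 16, 5, 20, 1, 14, 15, 10, 17, 19, 18, 12, 21, 6, 23], [0, 13, 8, 4, 3, 11, 22, 7, 2, 9, 16, 5, 20, 1, 14, 15, 10, 17, 19, 18, 12, 21, 6, 23])]

/-- The conjugation relations. -/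
def relWords : List (ℕ × ℕ × List ℕ) := [(0, 1, [1]), (0, 2, [4]), (0, 3, [2, 4, 5]), (0, 4, [2]), (0, 5, [2, 3, 4]), (0, 6, [1, 2, 3, 4, 5, 6]), (1, 2, [3, 4, 5]), (1, 3, [5]), (1, 4, [2, 3, 5]), (1, 5, [3]), (1, 6, [3, 5, 6]), (2, 3, [3]), (2, 4, [4]), (2, 5, [5]), (2, 6, [3, 6]), (3, 4, [4]), (3, 5, [5]), (3, 6, [6]), (4, 5, [5]), (4, 6, [5, 6]), (5, 6, [6])]

/-- Words and their orders. -/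
def powWords : List (List ℕ × ℕ) := [([0, 1], 2), ([2, 3], 2), ([2, 4], 2), ([3, 4], 2), ([2, 5], 2), ([3, 5], 2), ([4, 5], 2), ([3, 6], 2), ([5, 6], 2), ([0, 2, 4], 2), ([1, 3, 5], 2), ([1, 5, 6], 2), ([1, 2, 4], 2), ([0, 3, 5], 2), ([1, 2, 4, 6], 2)]

/-- Words with two collections. -/
def consWords : List (List ℕ) := [[6, 2, 0]]

/-- Two commuting pairs fused by conjugation. -/
def fusWords : List ℕ × List ℕ × List ℕ × List ℕ := ([0, 1, 5], [0, 3, 4], [0, 3, 4, 5], [0, 1, 2, 3])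

/-- The change of lifts. -/
def shifts : List ℕ := [0, 36, 2, 16384, 0, 16390, 0]

/-- Each relation as a combination of the equations. -/
def combos : List (List ℕ) := [[0], [], [], [9], [2, 3, 4, 6, 13], [], [1, 5, 6, 8, 11, 12, 14, 15], [1, 2, 3, 12, 16], [3, 4, 6, 8, 11, 14, 15], [1, 2, 3, 10, 12, 16], [1, 2, 3, 8, 10, 11, 12, 16], [1], [2], [4], [], [3], [5], [7], [6], [2, 3, 4, 5, 6, 8, 10, 11, 14, 16], [8]]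

end Cfsg.Agent.H10.M23Data
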