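import Cfsg.Agent.H11.OctadStab
import Cfsg.Agent.H13.Groups
import Cfsg.Agent.S0363
import Mathlib.GroupTheory.Perm.Cycle.Type

/-!
Fixed points of elements of prime order in the automorphism group of the code.
-/

set_option autoImplicit false

namespace Cfsg.Agent.H10

open Cfsg MulAction
open scoped Pointwise

/-- The automorphism group moves any five points to any five points. -/
theorem exists_map_five {k : ℕ} (hk : k ≤ 5) (x y : Fin k ↪ GolayPt) :
    ∃ g ∈ M24, ∀ i, g (x i) = y i := by
  haveI := H11.isMultiplyPretransitive_five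
  haveI : IsMultiplyPretransitive M24 GolayPt k :=
    isMultiplyPretransitive_of_le (n := 5) hk (by simp)
  obtain ⟨g, hg⟩ := exists_smul_eq M24 x y
  exact ⟨g, g.2, fun i => congrArg (fun e : Fin k ↪ GolayPt => e i) hg⟩

/-- The pointwise stabiliser of five points has order 48. -/
theorem card_fix_five (e : Fin 5 ↪ GolayPt) : Nat.card (stabilizer M24 e) = 48 := by
  have : IsPretransitive M24 (Fin 5 ↪ GolayPt) := H11.isMultiplyPretransitive_five
  have h := (stabilizer M24 e).card_mul_index
  rw [H11.card_M24] at h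
  have hu : (orbit M24 e).ncard = Nat.card (Fin 5 ↪ GolayPt) :=
    (congrArg Set.ncard (Set.eq_univ_of_forall fun x => this.exists_smul_eq e x)).trans
      (Set.ncard_univ _)
  rw [show (stabilizer M24 e).index = _ from (index_stabilizer M24 e).trans hu] at h
  have hc : Nat.card (Fin 5 ↪ GolayPt) = 5100480 := by
    rw [Nat.card_eq_fintype_card, Fintype.card_embedding_eq]
    simp [Nat.descFactorial]
  rw [hc] at h
  omega

/-- Five points as an embedding. -/
theorem exists_emb_five {s : Finset GolayPt} (hs : 5 ≤ s.card) :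
    ∃ e : Fin 5 ↪ GolayPt, ∀ i, e i ∈ s := by
  obtain ⟨t, hts, ht⟩ := Finset.exists_subset_card_eq hs
  exact ⟨(t.equivFinOfCardEq ht).symm.toEmbedding.trans (Function.Embedding.subtype _),
    fun i => hts ((t.equivFinOfCardEq ht).symm i).2⟩

/-- An element fixing five points has order dividing 48. -/
theorem orderOf_dvd_of_fix_five {g : Equiv.Perm GolayPt} (hg : g ∈ M24) {s : Finset GolayPt}
    (hs : 5 ≤ s.card) (hfix : ∀ x ∈ s, g x = x) : orderOf g ∣ 48 := by
  obtain ⟨e, he⟩ := exists_emb_five hs
  have hmem : (⟨g, hg⟩ : M24) ∈ stabilizer M24 e :=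
    DFunLike.ext _ _ fun i => hfix _ (he i)
  have h := orderOf_dvd_natCard (⟨_, hmem⟩ : stabilizer M24 e)
  rwa [card_fix_five, Subgroup.orderOf_mk, Subgroup.orderOf_mk] at h

/-- The points moved by `g`. -/
def movedIn (g : Equiv.Perm GolayPt) (O : Finset GolayPt) : Finset GolayPt :=
  O.filter fun x => g x ≠ x

/-- The points fixed by `g`. -/
def fixedIn (g : Equiv.Perm GolayPt) (O : Finset GolayPt) : Finset GolayPt :=
  O.filter fun x => g x = x

theorem card_fixedIn_add (g : Equiv.Perm GolayPt) (O : Finset GolayPt) :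
    (fixedIn g O).card + (movedIn g O).card = O.card :=
  Finset.card_filter_add_card_filter_not _

/-- An element of prime order moves a multiple of that prime many points of an invariant set. -/
theorem dvd_card_movedIn {g : Equiv.Perm GolayPt} {p : ℕ} [Fact p.Prime] (hp : orderOf g = p)
    {O : Finset GolayPt} (hO : ∀ x, g x ∈ O ↔ x ∈ O) : p ∣ (movedIn g O).card := by
  classical
  let σ : Equiv.Perm {x // x ∈ O} := g.subtypePerm hO
  have hσ : σ ^ p = 1 := by
    ext x
    rw [Equiv.Perm.subtypePerm_pow]
    simp [← hp, pow_orderOf_eq_one]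
  have h1 : p ∣ σ.support.card := by
    rw [← Equiv.Perm.sum_cycleType]
    refine Multiset.dvd_sum fun n hn => ?_
    have h := (Equiv.Perm.dvd_of_mem_cycleType hn).trans (orderOf_dvd_of_pow_eq_one hσ)
    rcases (Nat.dvd_prime (Fact.out : p.Prime)).1 h with h | h
    · exact absurd h (by have := Equiv.Perm.two_le_of_mem_cycleType hn; omega)
    · rw [h]
  have h2 : σ.support.map (Function.Embedding.subtype _) = movedIn g O := by
    ext x
    simp [movedIn, σ, and_comm]
  rwa [← Finset.card_map (Function.Embedding.subtype _), h2] at h1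

/-- An element of prime order at least five fixes at most four points. -/
theorem card_fixed_le_four {g : Equiv.Perm GolayPt} (hg : g ∈ M24) {p : ℕ} [Fact p.Prime]
    (hp : orderOf g = p) (h48 : ¬ p ∣ 48) : (fixedIn g Finset.univ).card ≤ 4 := by
  by_contra h
  exact h48 (hp ▸ orderOf_dvd_of_fix_five hg (by omega : 5 ≤ (fixedIn g Finset.univ).card)
    fun x hx => (Finset.mem_filter.1 hx).2)

/-- The number of fixed points of an element of order 5, 7, 11 or 23 is determined. -/
theorem card_fixed_eq {g : Equiv.Perm GolayPt} (hg : g ∈ M24) {p r : ℕ} [Fact p.Prime]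
    (hp : orderOf g = p) (h48 : ¬ p ∣ 48) (hr' : 24 % p = r) (hp5 : 5 ≤ p) :
    (fixedIn g Finset.univ).card = r := by
  have h1 := card_fixed_le_four hg hp h48
  have h2 := dvd_card_movedIn hp (O := Finset.univ) (by simp)
  have h3 := card_fixedIn_add g Finset.univ
  rw [Finset.card_univ, show Fintype.card GolayPt = 24 from rfl] at h3
  have h4 : ((fixedIn g Finset.univ).card + (movedIn g Finset.univ).card) % p = r := by
    rw [h3, hr']
  rw [Nat.add_mod, Nat.mod_eq_zero_of_dvd h2, add_zero, Nat.mod_mod,
    Nat.mod_eq_of_lt (by omega)] at h4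
  exact h4

/-- An involution fixes at most eight points. -/
theorem eq_one_of_sq_fix_nine {g : Equiv.Perm GolayPt} (hg : g ∈ M24) (h2 : g * g = 1)
    {s : Finset GolayPt} (hs : 9 ≤ s.card) (hfix : ∀ x ∈ s, g x = x) : g = 1 := by
  obtain ⟨t, hts, ht⟩ := Finset.exists_subset_card_eq (show 5 ≤ s.card by omega)
  obtain ⟨e, he⟩ := exists_emb_five ht.ge
  obtain ⟨o, ⟨ho, hto⟩, -⟩ := S0363.result.2 t ht
  have hgo : g • o = o := (S0363.result.2 t ht).unique
    ⟨H11.smul_mem_octads hg ho, fun x hx => Finset.mem_smul_finset.2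
      ⟨x, hto hx, by rw [Equiv.Perm.smul_def, hfix x (hts hx)]⟩⟩ ⟨ho, hto⟩
  obtain ⟨q, hqs, hqo⟩ : ∃ q ∈ s, q ∉ o := by
    by_contra h
    push Not at h
    have := Finset.card_le_card h
    have := ho.2
    omega
  let A : Subgroup M24 := stabilizer M24 e
  let P : Subgroup A := ((H11.fixM24 o).subgroupOf M24).subgroupOf A
  have hle : (H11.fixM24 o).subgroupOf M24 ≤ A := fun k hk => DFunLike.ext _ _ fun i =>
    (H11.mem_fixM24.1 hk).2 _ (hto (by
      have := he i
      exact this))
  have hcard : Nat.card P = 16 := by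
    rw [Nat.card_congr (Subgroup.subgroupOfEquivOfLe hle).toEquiv,
      Nat.card_congr (Subgroup.subgroupOfEquivOfLe inf_le_left).toEquiv, H11.card_fixM24 ho]
  have hN : P.Normal := ⟨fun k hk a => by
    have hao : ((a : M24) : Equiv.Perm GolayPt) • o = o := (S0363.result.2 t ht).unique
      ⟨H11.smul_mem_octads (a : M24).2 ho, fun x hx => by
        obtain ⟨i, rfl⟩ : ∃ i, e i = x := by
          have hsur : Finset.univ.map e = t := Finset.eq_of_subset_of_card_le
            (fun y hy => by
              obtain ⟨i, -, rfl⟩ := Finset.mem_map.1 hy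
              exact he i) (by simp [ht])
          rw [← hsur] at hx
          obtain ⟨i, -, rfl⟩ := Finset.mem_map.1 hx
          exact ⟨i, rfl⟩
        exact Finset.mem_smul_finset.2 ⟨e i, hto (he i),
          congrArg (fun e : Fin 5 ↪ GolayPt => e i) a.2⟩⟩ ⟨ho, hto⟩
    have h := H11.conj_mem_fixM24 (a : M24).2 hk
    rw [hao] at h
    exact h⟩
  let ga : A := ⟨⟨g, hg⟩, DFunLike.ext _ _ fun i => hfix _ (hts (he i))⟩
  have hidx : P.index = 3 := by
    have h := P.card_mul_index
    rw [hcard, card_fix_five] at h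
    omega
  have h3 := P.pow_index_mem ga
  rw [hidx, pow_succ, pow_two] at h3
  have hga : ga * ga = 1 := Subtype.ext (Subtype.ext h2)
  rw [hga, one_mul] at h3
  exact H11.eq_one_of_mem_fixM24 ho h3 hqo (hfix q hqs)

end Cfsg.Agent.H10
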