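import Cfsg.Agent.H10.MathieuFix
import Cfsg.Agent.H13.Simplicity
import Mathlib.GroupTheory.Sylow

/-!
Subgroups of the automorphism group of the code, of its point stabiliser and of its two-point
stabiliser, having the order of a point stabiliser, fix a point.
-/

set_option autoImplicit false
set_option linter.style.haveILetI false

namespace Cfsg.Agent.H10

open Cfsg MulAction
open scoped Pointwise

/-- An orbit as a finite set. -/
theorem exists_orbitFinset (H : Subgroup (Equiv.Perm GolayPt)) (b : GolayPt) :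
    ∃ O : Finset GolayPt, b ∈ O ∧ (∀ h ∈ H, ∀ x, h x ∈ O ↔ x ∈ O) ∧
      (∀ y ∈ O, ∃ h ∈ H, h b = y) ∧
      O.card * Nat.card ↥(H ⊓ stabilizer (Equiv.Perm GolayPt) b) = Nat.card H := by
  classical
  refine ⟨Finset.univ.filter fun y => ∃ h ∈ H, h b = y,
    Finset.mem_filter.2 ⟨Finset.mem_univ _, 1, one_mem _, rfl⟩, fun h hh x => ?_,
    fun y hy => (Finset.mem_filter.1 hy).2, ?_⟩
  · simp only [Finset.mem_filter, Finset.mem_univ, true_and]
    constructor
    · rintro ⟨k, hk, he⟩
      refine ⟨h⁻¹ * k, mul_mem (inv_mem hh) hk, ?_⟩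
      rw [Equiv.Perm.mul_apply, he]
      exact h.symm_apply_apply x
    · rintro ⟨k, hk, rfl⟩
      exact ⟨h * k, mul_mem hh hk, rfl⟩
  · have h := (stabilizer H b).card_mul_index
    rw [index_stabilizer] at h
    rw [← h, mul_comm]
    congr 1
    · exact Nat.card_congr
        { toFun := fun k => ⟨⟨k.1, k.2.1⟩, k.2.2⟩
          invFun := fun k => ⟨k.1.1, k.1.2, k.2⟩ }
    · rw [← Set.ncard_coe_finset]
      congr 1
      ext y
      simp only [Finset.coe_filter, Finset.mem_univ, true_and, Set.mem_setOf_eq,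
        MulAction.mem_orbit_iff, Subtype.exists]
      exact ⟨fun ⟨k, hk, he⟩ => ⟨k, hk, he⟩, fun ⟨k, hk, he⟩ => ⟨k, hk, he⟩⟩

/-- An element of prime order in a subgroup. -/
theorem exists_orderOf {H : Subgroup (Equiv.Perm GolayPt)} {p : ℕ} [Fact p.Prime]
    (h : p ∣ Nat.card H) : ∃ x ∈ H, orderOf x = p := by
  obtain ⟨x, hx⟩ := exists_prime_orderOf_dvd_card' (G := H) p h
  exact ⟨x, x.2, by rw [Subgroup.orderOf_coe, hx]⟩

/-- Transfer a bound for fixed points into an invariant set avoiding given fixed points. -/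
theorem card_fixedIn_le {x : Equiv.Perm GolayPt} {O R : Finset GolayPt} (hR : ∀ y ∈ R, x y = y)
    (hd : Disjoint O R) :
    (fixedIn x O).card + R.card ≤ (fixedIn x Finset.univ).card := by
  rw [← Finset.card_union_of_disjoint (hd.mono_left (Finset.filter_subset _ _) :
    Disjoint (fixedIn x O) R)]
  refine Finset.card_le_card fun y hy => Finset.mem_filter.2 ⟨Finset.mem_univ _, ?_⟩
  rcases Finset.mem_union.1 hy with hy | hy
  exacts [(Finset.mem_filter.1 hy).2, hR y hy]

/-- An orbit of size one consists of a fixed point. -/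
theorem fixed_of_card_one {H : Subgroup (Equiv.Perm GolayPt)} {O : Finset GolayPt} {b : GolayPt}
    (hb : b ∈ O) (hO : ∀ h ∈ H, ∀ x, h x ∈ O ↔ x ∈ O) (h1 : O.card = 1) :
    ∀ h ∈ H, h b = b := fun h hh =>
  Finset.card_le_one.1 h1.le _ ((hO h hh b).2 hb) _ hb

/-- A subgroup of order 443520 fixing a point fixes a second one. -/
theorem exists_fixed_23 {H : Subgroup (Equiv.Perm GolayPt)} (hH : H ≤ M24) {a : GolayPt}
    (ha : ∀ h ∈ H, h a = a) (hc : Nat.card H = 443520) :
    ∃ b, b ≠ a ∧ ∀ h ∈ H, h b = b := by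
  classical
  haveI : Fact (Nat.Prime 7) := ⟨by norm_num⟩
  haveI : Fact (Nat.Prime 11) := ⟨by norm_num⟩
  obtain ⟨x, hxH, hx⟩ := exists_orderOf (H := H) (p := 11) (by rw [hc]; decide)
  obtain ⟨y, hyH, hy⟩ := exists_orderOf (H := H) (p := 7) (by rw [hc]; decide)
  have hfx := card_fixed_eq (hH hxH) hx (r := 2) (by decide) (by decide) (by decide)
  have hfy := card_fixed_eq (hH hyH) hy (r := 3) (by decide) (by decide) (by decide)
  obtain ⟨b, hb, hba⟩ := Finset.exists_mem_ne (by rw [hfx]; decide :
    1 < (fixedIn x Finset.univ).card) a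
  refine ⟨b, hba, ?_⟩
  obtain ⟨O, hbO, hO, hreach, hcard⟩ := exists_orbitFinset H b
  refine fixed_of_card_one hbO hO ?_
  have haO : Disjoint O {a} := Finset.disjoint_singleton_right.2 fun h => by
    obtain ⟨k, hk, he⟩ := hreach a h
    exact hba (k.injective (he.trans (ha k hk).symm))
  have h1 := card_fixedIn_le (x := x) (R := {a}) (by simpa using ha x hxH) haO
  have h2 := card_fixedIn_le (x := y) (R := {a}) (by simpa using ha y hyH) haO
  rw [Finset.card_singleton, hfx] at h1
  rw [Finset.card_singleton, hfy] at h2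
  have hbf : 0 < (fixedIn x O).card :=
    Finset.card_pos.2 ⟨b, Finset.mem_filter.2 ⟨hbO, (Finset.mem_filter.1 hb).2⟩⟩
  obtain ⟨i, hi⟩ := dvd_card_movedIn hx (O := O) (hO x hxH)
  obtain ⟨j, hj⟩ := dvd_card_movedIn hy (O := O) (hO y hyH)
  have s1 := card_fixedIn_add x O
  have s2 := card_fixedIn_add y O
  have hle : O.card + 1 ≤ 24 := by
    have := Finset.card_le_univ (O ∪ {a})
    rwa [Finset.card_union_of_disjoint haO, Finset.card_singleton] at this
  have hd : O.card ∣ 443520 := Dvd.intro _ (hcard.trans hc)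
  have h23 : O.card ≠ 23 := fun h => by rw [h] at hd; revert hd; decide
  omega

/-- A subgroup of order 20160 fixing two points fixes a third one. -/
theorem exists_fixed_22 {H : Subgroup (Equiv.Perm GolayPt)} (hH : H ≤ M24) {a a' : GolayPt}
    (hne : a ≠ a') (ha : ∀ h ∈ H, h a = a) (ha' : ∀ h ∈ H, h a' = a')
    (hc : Nat.card H = 20160) : ∃ b, b ≠ a ∧ b ≠ a' ∧ ∀ h ∈ H, h b = b := by
  classical
  haveI : Fact (Nat.Prime 2) := ⟨by norm_num⟩
  haveI : Fact (Nat.Prime 5) := ⟨by norm_num⟩
  haveI : Fact (Nat.Prime 7) := ⟨by norm_num⟩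
  obtain ⟨x, hxH, hx⟩ := exists_orderOf (H := H) (p := 7) (by rw [hc]; decide)
  obtain ⟨y, hyH, hy⟩ := exists_orderOf (H := H) (p := 5) (by rw [hc]; decide)
  have hfx := card_fixed_eq (hH hxH) hx (r := 3) (by decide) (by decide) (by decide)
  have hfy := card_fixed_eq (hH hyH) hy (r := 4) (by decide) (by decide) (by decide)
  have hR : ({a, a'} : Finset GolayPt).card = 2 := Finset.card_pair hne
  have hRfix : ∀ z ∈ H, ∀ v ∈ ({a, a'} : Finset GolayPt), z v = v := by
    intro z hz v hv
    rcases Finset.mem_insert.1 hv with rfl | hv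
    · exact ha z hz
    · rw [Finset.mem_singleton.1 hv]; exact ha' z hz
  obtain ⟨b, hb, hbR⟩ := Finset.exists_mem_notMem_of_card_lt_card
    (t := fixedIn x Finset.univ) (s := {a, a'}) (by rw [hfx, hR]; decide)
  have hbR' : b ≠ a ∧ b ≠ a' := by simpa using hbR
  refine ⟨b, hbR'.1, hbR'.2, ?_⟩
  obtain ⟨O, hbO, hO, hreach, hcard⟩ := exists_orbitFinset H b
  refine fixed_of_card_one hbO hO ?_
  have hOR : Disjoint O {a, a'} := Finset.disjoint_left.2 fun v hv hvR => by
    obtain ⟨k, hk, he⟩ := hreach v hv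
    exact hbR ((k.injective (he.trans (hRfix k hk v hvR).symm)).symm ▸ hvR)
  have h1 := card_fixedIn_le (x := x) (hRfix x hxH) hOR
  have h2 := card_fixedIn_le (x := y) (hRfix y hyH) hOR
  rw [hR, hfx] at h1
  rw [hR, hfy] at h2
  have hbf : 0 < (fixedIn x O).card :=
    Finset.card_pos.2 ⟨b, Finset.mem_filter.2 ⟨hbO, (Finset.mem_filter.1 hb).2⟩⟩
  obtain ⟨i, hi⟩ := dvd_card_movedIn hx (O := O) (hO x hxH)
  obtain ⟨j, hj⟩ := dvd_card_movedIn hy (O := O) (hO y hyH)
  have s1 := card_fixedIn_add x O
  have s2 := card_fixedIn_add y O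
  have hd : O.card ∣ 20160 := Dvd.intro _ (hcard.trans hc)
  have hle : O.card + 2 ≤ 24 := by
    have := Finset.card_le_univ (O ∪ {a, a'})
    rwa [Finset.card_union_of_disjoint hOR, hR] at this
  have h22 : O.card ≠ 22 := fun h => by rw [h] at hd; revert hd; decide
  have h15 : O.card ≠ 15 := by
    intro h15
    let C : Finset GolayPt := Finset.univ \ (O ∪ {a, a'})
    have hC : C.card = 7 := by
      rw [Finset.card_sdiff, Finset.inter_univ, Finset.card_union_of_disjoint hOR, hR, h15]
      rfl
    have hCinv : ∀ h ∈ H, ∀ v, h v ∈ C ↔ v ∈ C := by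
      intro h hh v
      have e : h v ∈ ({a, a'} : Finset GolayPt) ↔ v ∈ ({a, a'} : Finset GolayPt) := by
        constructor
        · intro hv
          rwa [← h.injective (hRfix h hh _ hv)]
        · intro hv
          rwa [hRfix h hh v hv]
      simp only [C, Finset.mem_sdiff, Finset.mem_univ, true_and, Finset.mem_union]
      rw [hO h hh v, e]
    let f : H →* Equiv.Perm {v // v ∈ C} :=
      MonoidHom.mk' (fun h => (h : Equiv.Perm GolayPt).subtypePerm (hCinv h h.2))
        fun g g' => by ext v; rfl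
    have hi := Subgroup.card_mul_index f.ker
    have hdvd : f.ker.index ∣ 5040 := by
      rw [Subgroup.index_ker]
      refine (Subgroup.card_subgroup_dvd_card f.range).trans ?_
      rw [Nat.card_perm, Nat.card_eq_fintype_card, Fintype.card_coe, hC]
      decide
    have h2 : 2 ∣ Nat.card f.ker := by
      obtain ⟨k, hk⟩ := hdvd
      rw [hc] at hi
      have h4 : 4 * f.ker.index * k = Nat.card f.ker * f.ker.index := by
        rw [hi, mul_assoc, ← hk]
        rfl
      have hpos : 0 < f.ker.index := by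
        rcases Nat.eq_zero_or_pos f.ker.index with e | e
        · rw [e, mul_zero] at hi; cases hi
        · exact e
      exact ⟨2 * k, Nat.eq_of_mul_eq_mul_right hpos (by linarith)⟩
    obtain ⟨z, hz⟩ := exists_prime_orderOf_dvd_card' (G := f.ker) 2 h2
    have hz2 : ((z : H) : Equiv.Perm GolayPt) * ((z : H) : Equiv.Perm GolayPt) = 1 := by
      have := pow_orderOf_eq_one z
      rw [hz, pow_two] at this
      exact congrArg (fun w : f.ker => ((w : H) : Equiv.Perm GolayPt)) this
    have hone := eq_one_of_sq_fix_nine (hH (z : H).2) hz2 (s := C ∪ {a, a'}) (by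
      rw [Finset.card_union_of_disjoint (Finset.disjoint_left.2 fun v hv hvR =>
        (Finset.mem_sdiff.1 hv).2 (Finset.mem_union_right _ hvR)), hC, hR]) (by
      intro v hv
      rcases Finset.mem_union.1 hv with hv | hv
      · exact congrArg Subtype.val
          (DFunLike.congr_fun (MonoidHom.mem_ker.1 z.2) (⟨v, hv⟩ : {v // v ∈ C}))
      · exact hRfix _ (z : H).2 v hv)
    have : z = 1 := Subtype.ext (Subtype.ext hone)
    rw [this, orderOf_one] at hz
    cases hz
  omega

/-- A group of order 18480 in the automorphism group of the code cannot fix two points. -/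
theorem card_ne_18480 {K : Subgroup (Equiv.Perm GolayPt)} (hK : K ≤ M24) {b c : GolayPt}
    (hbc : b ≠ c) (hb : ∀ k ∈ K, k b = b) (hc : ∀ k ∈ K, k c = c) : Nat.card K ≠ 18480 := by
  classical
  intro hcard
  haveI : Fact (Nat.Prime 11) := ⟨by norm_num⟩
  let Y : SubMulAction K GolayPt :=
    { carrier := {v | v ≠ b ∧ v ≠ c}
      smul_mem' := fun k v hv => ⟨fun e => hv.1 ((k : Equiv.Perm GolayPt).injective
          (e.trans (hb k k.2).symm)), fun e => hv.2 ((k : Equiv.Perm GolayPt).injective
          (e.trans (hc k k.2).symm))⟩ }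
  haveI : FaithfulSMul K Y := ⟨fun {g g'} h => Subtype.ext <| Equiv.ext fun v => by
    by_cases hvb : v = b
    · rw [hvb, hb g g.2, hb g' g'.2]
    by_cases hvc : v = c
    · rw [hvc, hc g g.2, hc g' g'.2]
    exact congrArg Subtype.val (h ⟨v, hvb, hvc⟩)⟩
  let P : Sylow 11 K := default
  have hP : Nat.card (P : Subgroup K) = 11 := by
    rw [P.card_eq_multiplicity, hcard]
    rw [show 18480 = 11 * 1680 from rfl, Nat.factorization_mul (by decide) (by decide),
      Finsupp.add_apply, Nat.Prime.factorization_self (by decide),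
      Nat.factorization_eq_zero_of_not_dvd (by decide : ¬ 11 ∣ 1680)]
    rfl
  have hfree : ∀ v : Y, stabilizer (P : Subgroup K) v = ⊥ := by
    intro v
    rw [Subgroup.eq_bot_iff_forall]
    intro π hπ
    by_contra hne
    have ho : orderOf π = 11 := by
      have h := orderOf_dvd_natCard π
      rw [hP] at h
      rcases (Nat.dvd_prime (by norm_num)).1 h with h | h
      · exact absurd (orderOf_eq_one_iff.1 h) hne
      · exact h
    have ho' : orderOf ((π : K) : Equiv.Perm GolayPt) = 11 := by
      rw [Subgroup.orderOf_coe, Subgroup.orderOf_coe, ho]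
    have hf := card_fixed_eq (hK (π : K).2) ho' (r := 2) (by decide) (by decide) (by decide)
    have hsub : ({b, c, v.1} : Finset GolayPt) ⊆ fixedIn (π : K) Finset.univ := by
      intro w hw
      simp only [Finset.mem_insert, Finset.mem_singleton] at hw
      refine Finset.mem_filter.2 ⟨Finset.mem_univ _, ?_⟩
      rcases hw with rfl | rfl | rfl
      · exact hb _ (π : K).2
      · exact hc _ (π : K).2
      · exact congrArg Subtype.val (mem_stabilizer_iff.1 hπ)
    have := Finset.card_le_card hsub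
    rw [hf, Finset.card_insert_of_notMem (by simp [hbc, v.2.1.symm]),
      Finset.card_pair v.2.2.symm] at this
    omega
  have hk := H13.card_orbitRel_mul_of_prime (X := Y) (P : Subgroup K) hP hfree
  have hY : Nat.card Y = 22 := by
    have : Nat.card Y = Nat.card {v : GolayPt // v ∈ (Finset.univ \ {b, c} : Finset GolayPt)} :=
      Nat.card_congr (Equiv.subtypeEquivRight fun v => by
        simp only [Finset.mem_sdiff, Finset.mem_univ, true_and, Finset.mem_insert,
          Finset.mem_singleton, not_or]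
        rfl)
    rw [this, Nat.card_eq_fintype_card, Fintype.card_coe, Finset.card_sdiff, Finset.inter_univ,
      Finset.card_pair hbc]
    rfl
  rw [hY] at hk
  have hk2 : Nat.card (orbitRel.Quotient (P : Subgroup K) Y) = 2 := by omega
  have hC := H13.card_centralizer_dvd (X := Y) (by rw [hcard]; decide) (P : Subgroup K) hP
  rw [hk2] at hC
  have hN := (H13.card_normalizer_dvd (P : Subgroup K) hP).trans (Nat.mul_dvd_mul hC dvd_rfl)
  have hpN : 11 ∣ Nat.card (Subgroup.normalizer ((P : Subgroup K) : Set K)) := by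
    exact (dvd_of_eq hP.symm).trans (Subgroup.card_dvd_of_le Subgroup.le_normalizer)
  have hidx := Subgroup.card_mul_index (Subgroup.normalizer ((P : Subgroup K) : Set K))
  have hn := card_sylow_modEq_one 11 K
  rw [P.card_eq_index_normalizer] at hn
  have key : ∀ d ∈ Nat.divisors 220, 11 ∣ d → 18480 / d % 11 ≠ 1 := by decide +kernel
  refine key _ (Nat.mem_divisors.2 ⟨hN, by decide⟩) hpN ?_
  rw [← hcard, ← hidx, Nat.mul_div_cancel_left _ Nat.card_pos]
  exact hn

/-- A subgroup of order 10200960 fixes a point. -/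
theorem exists_fixed_24 {H : Subgroup (Equiv.Perm GolayPt)} (hH : H ≤ M24)
    (hc : Nat.card H = 10200960) : ∃ b, ∀ h ∈ H, h b = b := by
  classical
  haveI : Fact (Nat.Prime 23) := ⟨by norm_num⟩
  obtain ⟨x, hxH, hx⟩ := exists_orderOf (H := H) (p := 23) (by rw [hc]; decide)
  have hfx := card_fixed_eq (hH hxH) hx (r := 1) (by decide) (by decide) (by decide)
  obtain ⟨b, hb⟩ := Finset.card_pos.1 (by rw [hfx]; decide : 0 < (fixedIn x Finset.univ).card)
  refine ⟨b, ?_⟩
  obtain ⟨O, hbO, hO, hreach, hcard⟩ := exists_orbitFinset H b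
  refine fixed_of_card_one hbO hO ?_
  by_contra h1
  have hbf : 0 < (fixedIn x O).card :=
    Finset.card_pos.2 ⟨b, Finset.mem_filter.2 ⟨hbO, (Finset.mem_filter.1 hb).2⟩⟩
  obtain ⟨i, hi⟩ := dvd_card_movedIn hx (O := O) (hO x hxH)
  have s1 := card_fixedIn_add x O
  have hfO : (fixedIn x O).card ≤ 1 := hfx ▸ Finset.card_le_card
    (Finset.filter_subset_filter _ (Finset.subset_univ O))
  have hle : O.card ≤ 24 := Finset.card_le_univ O
  have h24 : O.card = 24 := by omega
  set K := H ⊓ stabilizer (Equiv.Perm GolayPt) b with hKdef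
  rw [h24, hc] at hcard
  obtain ⟨y, hyK, hy⟩ := exists_orderOf (H := K) (p := 23) (by
    rw [show Nat.card K = 425040 by omega]; decide)
  have hfy := card_fixed_eq (hH hyK.1) hy (r := 1) (by decide) (by decide) (by decide)
  have hKb : ∀ k ∈ K, k b = b := fun k hk => hk.2
  obtain ⟨c, hcb⟩ := exists_ne b
  obtain ⟨O', hcO, hO', hreach', hcard'⟩ := exists_orbitFinset K c
  have hbO' : Disjoint O' {b} := Finset.disjoint_singleton_right.2 fun h => by
    obtain ⟨k, hk, he⟩ := hreach' b h
    exact hcb (k.injective (he.trans (hKb k hk).symm))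
  have h2 := card_fixedIn_le (x := y) (R := {b}) (by simpa using hKb y hyK) hbO'
  rw [Finset.card_singleton, hfy] at h2
  obtain ⟨j, hj⟩ := dvd_card_movedIn hy (O := O') (hO' y hyK)
  have s2 := card_fixedIn_add y O'
  have hle' : O'.card + 1 ≤ 24 := by
    have := Finset.card_le_univ (O' ∪ {b})
    rwa [Finset.card_union_of_disjoint hbO', Finset.card_singleton] at this
  have hpos : 0 < O'.card := Finset.card_pos.2 ⟨c, hcO⟩
  rw [show O'.card = 23 by omega] at hcard'
  exact card_ne_18480 (K := K ⊓ stabilizer (Equiv.Perm GolayPt) c)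
    (fun k hk => hH hk.1.1) hcb.symm (fun k hk => hk.1.2) (fun k hk => hk.2) (by omega)

end Cfsg.Agent.H10
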