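import Cfsg.Agent.H10.MathieuFix
import Cfsg.Agent.H10.SteinerParams
import Cfsg.Agent.H10.SteinerIso
import Cfsg.Agent.H11.OctadAut

/-!
A permutation normalising a Mathieu group preserves the corresponding octads.
-/

set_option autoImplicit false

namespace Cfsg.Agent.H10

open Cfsg MulAction
open scoped Pointwise

theorem card_golayPt : Fintype.card GolayPt = 24 := rfl

/-- If conjugation by `f` keeps the pointwise stabilisers of the octads through `R` in the group,
then `f` maps octads through `R` to octads. -/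
theorem smul_octad_mem {f : Equiv.Perm GolayPt} {R : Finset GolayPt} (hR : R.card ≤ 5)
    (hfR : ∀ x ∈ R, f x = x)
    (hf : ∀ o ∈ octads, R ⊆ o → ∀ p ∈ H11.fixM24 o, f⁻¹ * p * f ∈ M24)
    {o : Finset GolayPt} (ho : o ∈ octads) (hRo : R ⊆ o) : f • o ∈ octads := by
  classical
  have hRb : R ⊆ f • o := fun x hx =>
    Finset.mem_smul_finset.2 ⟨x, hRo hx, hfR x hx⟩
  have hcb : (f • o).card = 8 := by rw [Finset.card_smul_finset, ho.2]
  obtain ⟨s, hRs, hsb, hs⟩ := Finset.exists_subsuperset_card_eq hRb hR (by rw [hcb]; decide)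
  obtain ⟨o', ⟨ho', hso'⟩, -⟩ := S0363.result.2 s hs
  have hinv : ∀ p ∈ H11.fixM24 o', p • (f • o) = f • o := by
    intro p hp
    have hc := hf o' ho' (hRs.trans hso') p hp
    have he : p • (f • o) = f • ((f⁻¹ * p * f) • o) := by
      rw [← mul_smul, ← mul_smul]
      congr 1
      group
    rw [he]
    congr 1
    refine block_unique S0363.result (H11.smul_mem_octads hc ho) ho (s := f⁻¹ • s)
      (by rw [Finset.card_smul_finset, hs]) ?_ ((Finset.smul_finset_subset_smul_finset_iff (a := f)).1 (by
        rwa [smul_inv_smul]))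
    refine (Finset.smul_finset_subset_smul_finset_iff (a := f)).1 ?_
    rw [smul_inv_smul, ← he]
    intro x hx
    exact Finset.mem_smul_finset.2 ⟨x, hsb hx, (H11.mem_fixM24.1 hp).2 x (hso' hx)⟩
  have hsub : f • o ⊆ o' := by
    intro q hq
    by_contra hq'
    have hall : Finset.univ \ o' ⊆ f • o := fun v hv => by
      obtain ⟨p, hp, rfl⟩ := H11.exists_fixM24_apply ho' hq' (Finset.mem_sdiff.1 hv).2
      rw [← hinv p hp]
      exact Finset.smul_mem_smul_finset hq
    have := Finset.card_le_card hall
    rw [Finset.card_sdiff, Finset.inter_univ, Finset.card_univ, card_golayPt, ho'.2, hcb] at this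
    omega
  rw [Finset.eq_of_subset_of_card_le hsub (by rw [hcb, ho'.2])]
  exact ho'

/-- A permutation mapping octads to octads is in the group. -/
theorem mem_M24_of_octads {f : Equiv.Perm GolayPt} (h : ∀ o ∈ octads, f • o ∈ octads) :
    f ∈ M24 := by
  rw [H11.M24_eq_setSystemAut_octads]
  exact mem_setSystemAut_of_forall fun o ho => h o ho

/-- A permutation mapping the octads through `a` to octads maps all octads to octads. -/
theorem mem_M24_of_octads_through {f : Equiv.Perm GolayPt} {a : GolayPt}
    (h : ∀ o ∈ octads, a ∈ o → f • o ∈ octads) : f ∈ M24 := by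
  classical
  refine mem_M24_of_octads fun o ho => ?_
  by_cases ha : a ∈ o
  · exact h o ho ha
  obtain ⟨T, hTo, hT⟩ := Finset.exists_subset_card_eq (show 4 ≤ o.card by rw [ho.2]; decide)
  have hTa : (insert a T).card = 5 := by
    rw [Finset.card_insert_of_notMem fun h => ha (hTo h), hT]
  obtain ⟨o1, ⟨ho1, hTo1⟩, -⟩ := S0363.result.2 _ hTa
  have ha1 : a ∈ o1 := hTo1 (Finset.mem_insert_self _ _)
  have hne : o ≠ o1 := fun h => ha (h ▸ ha1)
  have h4 : (o ∩ o1).card = 4 := by
    have hle : 4 ≤ (o ∩ o1).card := hT ▸ Finset.card_le_card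
      (Finset.subset_inter hTo ((Finset.subset_insert a T).trans hTo1))
    rcases s24_inter card_golayPt S0363.result ho ho1 hne with e | e | e <;> omega
  have ho2 := s24_symmDiff card_golayPt S0363.result ho ho1 h4
  have ha2 : a ∈ symmDiff o o1 := Finset.mem_symmDiff.2 (Or.inr ⟨ha1, ha⟩)
  have e : o = symmDiff (symmDiff o o1) o1 := by rw [symmDiff_assoc, symmDiff_self, symmDiff_bot]
  have hsd : ∀ s t : Finset GolayPt, f • symmDiff s t = symmDiff (f • s) (f • t) := fun s t =>
    Finset.smul_finset_symmDiff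
  rw [e, hsd]
  refine s24_symmDiff card_golayPt S0363.result (h _ ho2 ha2) (h _ ho1 ha1) ?_
  rw [← Finset.smul_finset_inter, Finset.card_smul_finset]
  have h8 : o1.card = 8 := ho1.2
  have e2 : symmDiff o o1 ∩ o1 = o1 \ (o ∩ o1) := by
    ext x
    simp only [Finset.mem_inter, Finset.mem_symmDiff, Finset.mem_sdiff]
    tauto
  rw [e2, Finset.card_sdiff_of_subset Finset.inter_subset_right]
  omega

end Cfsg.Agent.H10
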