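import Cfsg.Agent.H10.MathieuStab
import Cfsg.Agent.H10.Ext4Aut
import Cfsg.Agent.H10.Ext4Unique

/-!
The outer automorphism groups of the Mathieu groups of degree 24, 23 and 22.
-/

set_option autoImplicit false

namespace Cfsg.Agent.H10

open Cfsg MulAction
open scoped Pointwise

/-- A permutation commuting with a group fixes every point it moves. -/
theorem StabData.fix_of_commute {G : Subgroup (Equiv.Perm GolayPt)} {S : Finset GolayPt}
    (hD : StabData G S) {z : Equiv.Perm GolayPt} (hzS : ∀ x ∈ S, z x ∈ S)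
    (hz : ∀ g ∈ G, z * g = g * z) {a : GolayPt} (ha : a ∈ S) : z a = a := by
  refine (hD.eq_of_stab_le ha (hzS a ha) fun k hk => ?_).symm
  show (k : Equiv.Perm GolayPt) (z a) = z a
  rw [← Equiv.Perm.mul_apply, ← hz k k.2, Equiv.Perm.mul_apply]
  exact congrArg z hk

/-- A permutation group with this data has trivial centre. -/
theorem StabData.card_inn {G : Subgroup (Equiv.Perm GolayPt)} {S : Finset GolayPt}
    (hD : StabData G S) : Nat.card (Cfsg.Inn ↥G) = Nat.card G := by
  refine (Nat.card_congr (Equiv.ofInjective _ ?_)).symm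
  rw [← MonoidHom.ker_eq_bot_iff, Subgroup.eq_bot_iff_forall]
  intro g hg
  refine Subtype.ext (Equiv.ext fun x => ?_)
  by_cases hx : x ∈ S
  · refine hD.fix_of_commute (fun y hy => hD.maps g.2 hy) (fun k hk => ?_) hx
    have h : g * ⟨k, hk⟩ * g⁻¹ = ⟨k, hk⟩ := by
      simpa using congrArg (fun ψ : MulAut G => ψ ⟨k, hk⟩) hg
    exact congrArg Subtype.val (mul_inv_eq_iff_eq_mul.1 h)
  · exact hD.fix _ g.2 x hx

theorem conj_mem_of_forall {G : Subgroup (Equiv.Perm GolayPt)} {f : Equiv.Perm GolayPt}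
    (φ : MulAut G) (h : ∀ g : G, (φ g : Equiv.Perm GolayPt) = f * g * f⁻¹)
    {p : Equiv.Perm GolayPt} (hp : p ∈ G) : f⁻¹ * p * f ∈ G := by
  have h1 := h (φ.symm ⟨p, hp⟩)
  rw [MulEquiv.apply_symm_apply] at h1
  have e : f⁻¹ * p * f = (φ.symm ⟨p, hp⟩ : Equiv.Perm GolayPt) := by
    show f⁻¹ * ((⟨p, hp⟩ : G) : Equiv.Perm GolayPt) * f = _
    rw [h1]; group
  exact e ▸ (φ.symm ⟨p, hp⟩).2

/-- Every automorphism of the automorphism group of the code is inner. -/
theorem out_M24 : Nat.card (Cfsg.Out ↥Cfsg.M24) = 1 := by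
  refine card_out_eq_one fun φ => ?_
  obtain ⟨f, -, -, hf⟩ := stabData24.exists_conj φ (map_ptStab_24 φ)
  have hfM : f ∈ M24 := mem_M24_of_octads fun o ho =>
    smul_octad_mem (R := ∅) (by simp) (by simp)
      (fun o' _ _ p hp => conj_mem_of_forall φ hf hp.1) ho (Finset.empty_subset o)
  refine ⟨⟨f, hfM⟩, MulEquiv.ext fun g => Subtype.ext ?_⟩
  rw [MulAut.conj_apply, hf]
  rfl

/-- Every automorphism of the point stabiliser is inner. -/
theorem out_M23 : Nat.card (Cfsg.Out ↥Spor.M23) = 1 := by
  refine card_out_eq_one fun φ => ?_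
  obtain ⟨f, hfix, -, hf⟩ := stabData23.exists_conj φ (map_ptStab_23 φ)
  have hfn : f none = none := hfix none (by simp [pts23])
  have hfM : f ∈ M24 := mem_M24_of_octads_through fun o ho hno =>
    smul_octad_mem (R := {none}) (by simp) (by simpa using hfn)
      (fun o' _ ho' p hp => (conj_mem_of_forall φ hf (mem_M23.2 ⟨hp.1,
        (H11.mem_fixM24.1 hp).2 none (ho' (Finset.mem_singleton_self _))⟩)).1)
      ho (by simpa using hno)
  refine ⟨⟨f, mem_M23.2 ⟨hfM, hfn⟩⟩, MulEquiv.ext fun g => Subtype.ext ?_⟩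
  rw [MulAut.conj_apply, hf]
  rfl

/-- The hexads: the octads through the two fixed points, without them. -/
def hexSystem : Set (Finset {x // x ∈ pts22}) :=
  {h | h.map (Function.Embedding.subtype _) ∪ {none, some 0} ∈ octads}

theorem disjoint_map_pair (h : Finset {x // x ∈ pts22}) :
    Disjoint (h.map (Function.Embedding.subtype _)) {none, some 0} := by
  rw [Finset.disjoint_left]
  intro x hx hx2
  obtain ⟨y, -, rfl⟩ := Finset.mem_map.1 hx
  have := mem_pts22.1 y.2
  rcases Finset.mem_insert.1 hx2 with e | e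
  · exact this.1 e
  · exact this.2 (Finset.mem_singleton.1 e)

theorem card_map_union (h : Finset {x // x ∈ pts22}) :
    (h.map (Function.Embedding.subtype _) ∪ {none, some 0}).card = h.card + 2 := by
  rw [Finset.card_union_of_disjoint (disjoint_map_pair h), Finset.card_map,
    Finset.card_pair (by decide)]

/-- The hexads form a Steiner system. -/
theorem hexSystem_steiner : Cfsg.IsSteinerSystem 3 6 hexSystem := by
  classical
  constructor
  · intro h hh
    have : (h.map (Function.Embedding.subtype _) ∪ {none, some 0}).card = 8 := hh.2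
    rw [card_map_union] at this
    omega
  · intro s hs
    obtain ⟨o, ⟨ho, hso⟩, hu⟩ := S0363.result.2
      (s.map (Function.Embedding.subtype _) ∪ {none, some 0}) (by rw [card_map_union, hs])
    have he : (o.subtype (· ∈ pts22)).map (Function.Embedding.subtype _) ∪ {none, some 0} = o := by
      ext x
      simp only [Finset.mem_union, Finset.subtype_map, Finset.mem_filter]
      constructor
      · rintro (h | h)
        exacts [h.1, hso (Finset.mem_union_right _ h)]
      · intro h
        by_cases hx : x ∈ pts22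
        · exact Or.inl ⟨h, hx⟩
        · refine Or.inr ?_
          rw [mem_pts22, not_and_or, not_not, not_not] at hx
          simpa using hx
    refine ⟨o.subtype (· ∈ pts22), ⟨?_, fun x hx => ?_⟩, ?_⟩
    · show _ ∈ octads
      rw [he]; exact ho
    · exact Finset.mem_subtype.2 (hso (Finset.mem_union_left _ (Finset.mem_map_of_mem _ hx)))
    · rintro h ⟨hh, hsh⟩
      have e := hu _ ⟨hh, Finset.union_subset_union (Finset.map_subset_map.2 hsh) subset_rfl⟩
      ext x
      rw [Finset.mem_subtype, ← e, Finset.mem_union]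
      constructor
      · exact fun hx => Or.inl (Finset.mem_map_of_mem _ hx)
      · rintro (hx | hx)
        · simpa using hx
        · exact absurd hx (Finset.disjoint_left.1 (disjoint_map_pair {x})
            (Finset.mem_map_of_mem _ (Finset.mem_singleton_self x)))

theorem card_hexAut : Nat.card (setSystemAut hexSystem) = 887040 := by
  have h22 : Fintype.card {x // x ∈ pts22} = 22 := by rw [Fintype.card_coe, card_pts22]
  rw [ext_aut_card (m := 1) le_rfl (by decide) h22 (isExt_of_22 h22 hexSystem_steiner)]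
  rfl

/-- The automorphisms of the stabiliser of two points embed in the automorphisms of the hexads. -/
theorem card_mulAut_M22 : Nat.card (MulAut Spor.M22) ≤ 887040 := by
  classical
  choose f hfix hfS hf using fun φ : MulAut Spor.M22 =>
    stabData22.exists_conj φ (map_ptStab_22 φ)
  have h0 : ∀ φ, f φ none = none := fun φ => hfix φ none (by simp [pts22])
  have h1 : ∀ φ, f φ (some 0) = some 0 := fun φ => hfix φ (some 0) (by simp [pts22])
  have hmem : ∀ φ, (f φ).subtypePerm (fun x => (hfS φ x).symm) ∈ setSystemAut hexSystem := by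
    intro φ
    refine mem_setSystemAut_of_forall fun h hh => ?_
    show _ ∪ _ ∈ octads
    have hf2 : ∀ x ∈ ({none, some 0} : Finset GolayPt), f φ x = x := by
      intro x hx
      rcases Finset.mem_insert.1 hx with rfl | hx
      · exact h0 φ
      · rw [Finset.mem_singleton.1 hx]; exact h1 φ
    have hm := smul_octad_mem (R := {none, some 0}) (by rw [Finset.card_pair (by decide)]; decide)
      hf2 (fun o' _ ho' p hp => (conj_mem_of_forall φ (hf φ) (mem_M22.2 ⟨mem_M23.2 ⟨hp.1,
        (H11.mem_fixM24.1 hp).2 none (ho' (by simp))⟩,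
        (H11.mem_fixM24.1 hp).2 _ (ho' (by simp))⟩)).1.1) hh Finset.subset_union_right
    convert hm using 1
    rw [Finset.smul_finset_union]
    congr 1
    · ext x
      simp [Finset.mem_smul_finset, Equiv.Perm.smul_def, and_comm]
      intro x₁ e hx₁ _
      exact e ▸ (hfS φ x₁).1 hx₁
    · ext x
      simp [Finset.mem_smul_finset, Equiv.Perm.smul_def, h0, h1]
      tauto
  rw [← card_hexAut]
  refine Nat.card_le_card_of_injective (fun φ => (⟨_, hmem φ⟩ : setSystemAut hexSystem)) ?_
  intro φ ψ h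
  have he : f φ = f ψ := Equiv.ext fun x => by
    by_cases hx : x ∈ pts22
    · exact congrArg Subtype.val (DFunLike.congr_fun (congrArg Subtype.val h) ⟨x, hx⟩)
    · rw [hfix φ x hx, hfix ψ x hx]
  refine MulEquiv.ext fun g => Subtype.ext ?_
  rw [hf, hf, he]

/-- The stabiliser of two points has an outer automorphism. -/
theorem exists_outer_M22 : ∃ φ : MulAut Spor.M22, φ ∉ Cfsg.Inn ↥Spor.M22 := by
  obtain ⟨g, hg, he⟩ := exists_map_list (l := [none, (some 0 : GolayPt)])
    (l' := [some 0, none]) (by decide) (by decide) rfl (by simp)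
  have g0 : g none = some 0 := he 0 (by simp)
  have g1 : g (some 0) = none := he 1 (by simp)
  have hgi0 : g⁻¹ (some 0) = none := Equiv.Perm.inv_eq_iff_eq.2 g0.symm
  have hgi1 : g⁻¹ none = some 0 := Equiv.Perm.inv_eq_iff_eq.2 g1.symm
  have hc : ∀ k ∈ Spor.M22, g * k * g⁻¹ ∈ Spor.M22 ∧ g⁻¹ * k * g ∈ Spor.M22 := by
    intro k hk
    obtain ⟨⟨hk24, hk0⟩, hk1⟩ := hk
    replace hk0 : k none = none := hk0
    replace hk1 : k (some 0) = some 0 := hk1
    refine ⟨mem_M22.2 ⟨mem_M23.2 ⟨mul_mem (mul_mem hg hk24) (inv_mem hg), ?_⟩, ?_⟩,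
      mem_M22.2 ⟨mem_M23.2 ⟨mul_mem (mul_mem (inv_mem hg) hk24) hg, ?_⟩, ?_⟩⟩ <;>
      simp only [Equiv.Perm.mul_apply, hgi0, hgi1, g0, g1, hk0, hk1]
  let φ : MulAut Spor.M22 :=
    { toFun := fun k => ⟨_, (hc k k.2).1⟩
      invFun := fun k => ⟨_, (hc k k.2).2⟩
      left_inv := fun k => Subtype.ext (by show g⁻¹ * (g * k * g⁻¹) * g = k; group)
      right_inv := fun k => Subtype.ext (by show g * (g⁻¹ * k * g) * g⁻¹ = k; group)
      map_mul' := fun a b => Subtype.ext (by
        show g * (a * b : Equiv.Perm GolayPt) * g⁻¹ = (g * a * g⁻¹) * (g * b * g⁻¹); group) }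
  refine ⟨φ, fun ⟨h, hh⟩ => ?_⟩
  set z : Equiv.Perm GolayPt := (h : Equiv.Perm GolayPt)⁻¹ * g with hz
  have h0 : (h : Equiv.Perm GolayPt) none = none := h.2.1.2
  have h1 : (h : Equiv.Perm GolayPt) (some 0) = some 0 := h.2.2
  have z0 : z none = some 0 := by
    rw [hz, Equiv.Perm.mul_apply, g0]; exact Equiv.Perm.inv_eq_iff_eq.2 h1.symm
  have z1 : z (some 0) = none := by
    rw [hz, Equiv.Perm.mul_apply, g1]; exact Equiv.Perm.inv_eq_iff_eq.2 h0.symm
  have hzS : ∀ x ∈ pts22, z x ∈ pts22 := by
    intro x hx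
    rw [mem_pts22] at hx ⊢
    exact ⟨fun e => hx.2 (z.injective (e.trans z1.symm)),
      fun e => hx.1 (z.injective (e.trans z0.symm))⟩
  have hzc : ∀ k ∈ Spor.M22, z * k = k * z := by
    intro k hk
    have e := congrArg Subtype.val (DFunLike.congr_fun hh ⟨k, hk⟩)
    replace e : (h : Equiv.Perm GolayPt) * k * (h : Equiv.Perm GolayPt)⁻¹ = g * k * g⁻¹ := e
    have e2 : k = z * k * z⁻¹ := by
      calc k = (h : Equiv.Perm GolayPt)⁻¹ *
            ((h : Equiv.Perm GolayPt) * k * (h : Equiv.Perm GolayPt)⁻¹) * h := by group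
        _ = _ := by rw [e, hz]; group
    rw [eq_mul_inv_iff_mul_eq] at e2
    exact e2.symm
  have hfixz : ∀ x ∈ pts22, z x = x := fun x hx => stabData22.fix_of_commute hzS hzc hx
  have hzz : z * z = 1 := Equiv.ext fun x => by
    by_cases hx : x ∈ pts22
    · rw [Equiv.Perm.mul_apply, hfixz x hx, hfixz x hx]; rfl
    · rw [mem_pts22, not_and_or, not_not, not_not] at hx
      rcases hx with rfl | rfl
      · rw [Equiv.Perm.mul_apply, z0, z1]; rfl
      · rw [Equiv.Perm.mul_apply, z1, z0]; rfl
  have hone := eq_one_of_sq_fix_nine (mul_mem (inv_mem h.2.1.1) hg) hzz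
    (s := pts22) (by rw [card_pts22]; decide) hfixz
  have e1 : z = 1 := hz.trans hone
  rw [e1] at z0
  cases z0

/-- The outer automorphism group of the stabiliser of two points has order 2. -/
theorem out_M22 : Nat.card (Cfsg.Out ↥Spor.M22) = 2 := by
  rw [← Subgroup.index_eq_card]
  obtain ⟨φ, hφ⟩ := exists_outer_M22
  have hne : (Cfsg.Inn ↥Spor.M22).index ≠ 1 := fun h =>
    hφ (Subgroup.index_eq_one.1 h ▸ Subgroup.mem_top φ)
  have hm := Subgroup.card_mul_index (Cfsg.Inn ↥Spor.M22)
  rw [stabData22.card_inn, card_M22] at hm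
  have hle := card_mulAut_M22
  haveI : Finite (MulAut Spor.M22) :=
    Finite.of_injective (fun φ : MulAut Spor.M22 => (φ : Spor.M22 → Spor.M22)) DFunLike.coe_injective
  have hpos : 0 < Nat.card (MulAut Spor.M22) := Nat.card_pos
  omega

end Cfsg.Agent.H10
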