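import Cfsg.Agent.H10.PointStabAut
import Cfsg.Agent.H10.MathieuIndex
import Cfsg.Agent.H10.MathieuNormalizer

/-!
Automorphisms of the Mathieu groups of degree 24, 23 and 22 permute the point stabilisers.
-/

set_option autoImplicit false

namespace Cfsg.Agent.H10

open Cfsg MulAction
open scoped Pointwise

/-- The automorphism group of the code moves a list of at most five points to another. -/
theorem exists_map_list {l l' : List GolayPt} (hl : l.Nodup) (hl' : l'.Nodup)
    (hlen : l'.length = l.length) (h5 : l.length ≤ 5) :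
    ∃ g ∈ M24, ∀ (i : ℕ) (h : i < l.length), g l[i] = l'[i]'(hlen ▸ h) := by
  obtain ⟨g, hg, he⟩ := exists_map_five h5 ⟨l.get, List.nodup_iff_injective_get.1 hl⟩
    ⟨fun i => l'.get (i.cast hlen.symm),
      (List.nodup_iff_injective_get.1 hl').comp (Fin.cast_injective _)⟩
  exact ⟨g, hg, fun i h => he ⟨i, h⟩⟩

theorem stabData24 : StabData M24 (Finset.univ : Finset GolayPt) where
  fix g _ x hx := absurd (Finset.mem_univ x) hx
  trans a _ b _ := by
    obtain ⟨g, hg, he⟩ := exists_map_list (l := [a]) (l' := [b]) (by simp) (by simp) rfl (by simp)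
    exact ⟨g, hg, he 0 (by simp)⟩
  one a _ b _ hab := by
    obtain ⟨c, hc⟩ := Finset.card_pos.1 (show 0 < (Finset.univ \ {a, b}).card by
      rw [Finset.card_sdiff, Finset.inter_univ, Finset.card_univ, card_golayPt,
        Finset.card_pair hab]; decide)
    simp only [Finset.mem_sdiff, Finset.mem_insert, Finset.mem_singleton, not_or] at hc
    obtain ⟨g, hg, he⟩ := exists_map_list (l := [a, b]) (l' := [a, c])
      (by simp [hab]) (by simp [Ne.symm hc.2.1]) rfl (by simp)
    exact ⟨g, hg, he 0 (by simp), by rw [show g b = c from he 1 (by simp)]; exact hc.2.2⟩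

theorem mem_M23 {g : Equiv.Perm GolayPt} : g ∈ Spor.M23 ↔ g ∈ M24 ∧ g none = none := Iff.rfl

theorem mem_M22 {g : Equiv.Perm GolayPt} :
    g ∈ Spor.M22 ↔ g ∈ Spor.M23 ∧ g (some 0) = some 0 := Iff.rfl

/-- The points moved by the stabiliser of a point. -/
def pts23 : Finset GolayPt := Finset.univ \ {none}

/-- The points moved by the stabiliser of two points. -/
def pts22 : Finset GolayPt := Finset.univ \ {none, some 0}

theorem card_pts23 : pts23.card = 23 := by decide +kernel

theorem card_pts22 : pts22.card = 22 := by decide +kernel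

theorem mem_pts23 {x : GolayPt} : x ∈ pts23 ↔ x ≠ none := by simp [pts23]

theorem mem_pts22 {x : GolayPt} : x ∈ pts22 ↔ x ≠ none ∧ x ≠ some 0 := by simp [pts22]

theorem stabData23 : StabData Spor.M23 pts23 where
  fix g hg x hx := by
    rw [mem_pts23, ne_eq, not_not] at hx
    exact hx ▸ (mem_M23.1 hg).2
  trans a ha b hb := by
    rw [mem_pts23] at ha hb
    obtain ⟨g, hg, he⟩ := exists_map_list (l := [none, a]) (l' := [none, b])
      (by simp [ha.symm]) (by simp [hb.symm]) rfl (by simp)
    exact ⟨g, mem_M23.2 ⟨hg, he 0 (by simp)⟩, he 1 (by simp)⟩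
  one a ha b hb hab := by
    rw [mem_pts23] at ha hb
    obtain ⟨c, hc⟩ := Finset.card_pos.1 (show 0 < (Finset.univ \ {none, a, b}).card by
      rw [Finset.card_sdiff, Finset.inter_univ, Finset.card_univ, card_golayPt,
        Finset.card_insert_of_notMem (by simp [ha.symm, hb.symm]), Finset.card_pair hab]; decide)
    simp only [Finset.mem_sdiff, Finset.mem_insert, Finset.mem_singleton, not_or] at hc
    obtain ⟨g, hg, he⟩ := exists_map_list (l := [none, a, b]) (l' := [none, a, c])
      (by simp [hab, ha.symm, hb.symm]) (by simp [ha.symm, Ne.symm hc.2.1, Ne.symm hc.2.2.1])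
      rfl (by simp)
    exact ⟨g, mem_M23.2 ⟨hg, he 0 (by simp)⟩, he 1 (by simp),
      by rw [show g b = c from he 2 (by simp)]; exact hc.2.2.2⟩

theorem stabData22 : StabData Spor.M22 pts22 where
  fix g hg x hx := by
    rw [mem_pts22, not_and_or, not_not, not_not] at hx
    rcases hx with rfl | rfl
    exacts [(mem_M22.1 hg).1.2, (mem_M22.1 hg).2]
  trans a ha b hb := by
    rw [mem_pts22] at ha hb
    obtain ⟨g, hg, he⟩ := exists_map_list (l := [none, some 0, a]) (l' := [none, some 0, b])
      (by simp [ha.1.symm, ha.2.symm]) (by simp [hb.1.symm, hb.2.symm]) rfl (by simp)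
    exact ⟨g, mem_M22.2 ⟨mem_M23.2 ⟨hg, he 0 (by simp)⟩, he 1 (by simp)⟩, he 2 (by simp)⟩
  one a ha b hb hab := by
    rw [mem_pts22] at ha hb
    obtain ⟨c, hc⟩ := Finset.card_pos.1
      (show 0 < (Finset.univ \ {none, some 0, a, b}).card by
      rw [Finset.card_sdiff, Finset.inter_univ, Finset.card_univ, card_golayPt,
        Finset.card_insert_of_notMem (by simp [ha.1.symm, hb.1.symm]),
        Finset.card_insert_of_notMem (by simp [ha.2.symm, hb.2.symm]), Finset.card_pair hab]
      decide)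
    simp only [Finset.mem_sdiff, Finset.mem_insert, Finset.mem_singleton, not_or] at hc
    obtain ⟨g, hg, he⟩ := exists_map_list (l := [none, some 0, a, b])
      (l' := [none, some 0, a, c]) (by simp [hab, ha.1.symm, ha.2.symm, hb.1.symm, hb.2.symm])
      (by simp [ha.1.symm, ha.2.symm, Ne.symm hc.2.1, Ne.symm hc.2.2.1, Ne.symm hc.2.2.2.1])
      rfl (by simp)
    exact ⟨g, mem_M22.2 ⟨mem_M23.2 ⟨hg, he 0 (by simp)⟩, he 1 (by simp)⟩, he 2 (by simp),
      by rw [show g b = c from he 3 (by simp)]; exact hc.2.2.2.2⟩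

theorem card_M23 : Nat.card Spor.M23 = 10200960 := by rw [H13.M23_eq, H13.card_g23]

theorem card_M22 : Nat.card Spor.M22 = 443520 := by rw [H13.M22_eq, H13.card_g22]

/-- The order of a point stabiliser. -/
theorem card_ptStab {G : Subgroup (Equiv.Perm GolayPt)} {S : Finset GolayPt} (hD : StabData G S)
    {a : GolayPt} (ha : a ∈ S) : S.card * Nat.card (ptStab G a) = Nat.card G := by
  obtain ⟨O, haO, hinv, hreach, hcard⟩ := exists_orbitFinset G a
  have hOS : O = S := by
    ext x
    constructor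
    · intro hx
      obtain ⟨g, hg, rfl⟩ := hreach x hx
      exact hD.maps hg ha
    · intro hx
      obtain ⟨g, hg, rfl⟩ := hD.trans a ha x hx
      exact (hinv g hg a).2 haO
  rw [hOS] at hcard
  rw [← hcard]
  congr 1
  exact Nat.card_congr
    { toFun := fun k => ⟨k.1.1, k.1.2, k.2⟩
      invFun := fun k => ⟨⟨k.1, k.2.1⟩, k.2.2⟩ }

/-- A subgroup of the size of a point stabiliser fixing a point is a point stabiliser. -/
theorem map_ptStab_of_fixed {G : Subgroup (Equiv.Perm GolayPt)} {S : Finset GolayPt}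
    (hD : StabData G S) (φ : MulAut G) {a : GolayPt} (ha : a ∈ S)
    (hfix : ∀ H : Subgroup (Equiv.Perm GolayPt), H ≤ G →
      S.card * Nat.card H = Nat.card G → ∃ b ∈ S, ∀ h ∈ H, h b = b) :
    ∃ b ∈ S, (ptStab G a).map (φ : G →* G) = ptStab G b := by
  set K := (ptStab G a).map (φ : G →* G) with hK
  have hKc : Nat.card K = Nat.card (ptStab G a) :=
    Subgroup.card_map_of_injective φ.injective
  have hHc : Nat.card (K.map G.subtype) = Nat.card K :=
    Subgroup.card_map_of_injective G.subtype_injective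
  obtain ⟨b, hb, hfb⟩ := hfix (K.map G.subtype) (Subgroup.map_subtype_le _)
    (by rw [hHc, hKc, card_ptStab hD ha])
  refine ⟨b, hb, Subgroup.eq_of_le_of_card_ge (fun k hk => hfb _ ⟨k, hk, rfl⟩) ?_⟩
  rw [hKc]
  refine (Nat.eq_of_mul_eq_mul_left (Finset.card_pos.2 ⟨a, ha⟩) ?_).le
  rw [card_ptStab hD ha, card_ptStab hD hb]

theorem map_ptStab_24 (φ : MulAut M24) (a : GolayPt) (ha : a ∈ (Finset.univ : Finset GolayPt)) :
    ∃ b ∈ (Finset.univ : Finset GolayPt), (ptStab M24 a).map (φ : M24 →* M24) = ptStab M24 b :=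
  map_ptStab_of_fixed stabData24 φ ha fun H hH hc => by
    rw [Finset.card_univ, card_golayPt, H11.card_M24] at hc
    obtain ⟨b, hb⟩ := exists_fixed_24 hH (by omega)
    exact ⟨b, Finset.mem_univ _, hb⟩

theorem map_ptStab_23 (φ : MulAut Spor.M23) (a : GolayPt) (ha : a ∈ pts23) :
    ∃ b ∈ pts23, (ptStab Spor.M23 a).map (φ : Spor.M23 →* Spor.M23) = ptStab Spor.M23 b :=
  map_ptStab_of_fixed stabData23 φ ha fun H hH hc => by
    rw [card_pts23, card_M23] at hc
    obtain ⟨b, hne, hb⟩ := exists_fixed_23 (H := H) (fun h hh => (hH hh).1) (a := none)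
      (fun h hh => (hH hh).2) (by omega)
    exact ⟨b, mem_pts23.2 hne, hb⟩

theorem map_ptStab_22 (φ : MulAut Spor.M22) (a : GolayPt) (ha : a ∈ pts22) :
    ∃ b ∈ pts22, (ptStab Spor.M22 a).map (φ : Spor.M22 →* Spor.M22) = ptStab Spor.M22 b :=
  map_ptStab_of_fixed stabData22 φ ha fun H hH hc => by
    rw [card_pts22, card_M22] at hc
    obtain ⟨b, hne, hne', hb⟩ := exists_fixed_22 (H := H) (fun h hh => (hH hh).1.1)
      (a := none) (a' := some 0) (by decide) (fun h hh => (hH hh).1.2) (fun h hh => (hH hh).2)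
      (by omega)
    exact ⟨b, mem_pts22.2 ⟨hne, hne'⟩, hb⟩

end Cfsg.Agent.H10
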