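import Cfsg.Agent.H10.SteinerCount

/-!
Arcs and hyperovals in a projective plane of order 4, seen as a Steiner system S(2,5,21).
-/

set_option autoImplicit false
set_option linter.unusedSectionVars false

open Finset

namespace Cfsg.Agent.H10

variable {α : Type*}

/-- No member of `L` meets `S` in more than two points. -/
def IsArc [DecidableEq α] (L : Set (Finset α)) (S : Finset α) : Prop :=
  ∀ l ∈ L, (l ∩ S).card ≤ 2

/-- A 6-point arc. -/
def IsHyperoval [DecidableEq α] (L : Set (Finset α)) (H : Finset α) : Prop :=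
  H.card = 6 ∧ IsArc L H

variable [DecidableEq α] [Fintype α] {L : Set (Finset α)}

/-- The arcs of a given size. -/
noncomputable def arcs (L : Set (Finset α)) (n : ℕ) : Finset (Finset α) := by
  classical
  exact univ.filter fun S => S.card = n ∧ IsArc L S

/-- Membership in `arcs`. -/
@[simp] theorem mem_arcs {n : ℕ} {S : Finset α} : S ∈ arcs L n ↔ S.card = n ∧ IsArc L S := by
  classical
  simp [arcs]

/-- The points that extend an arc: outside it and on none of its secants. -/
noncomputable def freePts (L : Set (Finset α)) (Q : Finset α) : Finset α := by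
  classical
  exact univ.filter fun x => x ∉ Q ∧ ∀ l ∈ L, x ∈ l → (l ∩ Q).card ≤ 1

/-- Membership in `freePts`. -/
@[simp] theorem mem_freePts {Q : Finset α} {x : α} :
    x ∈ freePts L Q ↔ x ∉ Q ∧ ∀ l ∈ L, x ∈ l → (l ∩ Q).card ≤ 1 := by
  classical
  simp [freePts]

/-- A free point extends an arc, and conversely. -/
theorem isArc_insert {Q : Finset α} {x : α} (hx : x ∉ Q) :
    IsArc L (insert x Q) ↔ IsArc L Q ∧ x ∈ freePts L Q := by
  rw [mem_freePts]
  constructor
  · intro h
    refine ⟨fun l hl => le_trans (card_le_card (inter_subset_inter_left (subset_insert x Q)))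
      (h l hl), hx, fun l hl hxl => ?_⟩
    have := h l hl
    rw [inter_insert_of_mem hxl, card_insert_of_notMem (fun e => hx (mem_inter.1 e).2)] at this
    omega
  · rintro ⟨h, -, h2⟩ l hl
    by_cases hxl : x ∈ l
    · rw [inter_insert_of_mem hxl, card_insert_of_notMem (fun e => hx (mem_inter.1 e).2)]
      have := h2 l hl hxl; omega
    · rw [inter_insert_of_notMem hxl]; exact h l hl

/-- Subsets of arcs are arcs. -/
theorem IsArc.mono {S T : Finset α} (h : IsArc L T) (hST : S ⊆ T) : IsArc L S :=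
  fun l hl => le_trans (card_le_card (inter_subset_inter_left hST)) (h l hl)

/-- Double counting of arcs by their free points. -/
theorem arcs_succ (n : ℕ) :
    (arcs L (n + 1)).card * (n + 1) = ∑ Q ∈ arcs L n, (freePts L Q).card := by
  rw [← card_sigma, card_eq_sum_card_fiberwise (s := (arcs L n).sigma (freePts L))
    (f := fun q => insert q.2 q.1) (t := arcs L (n + 1)) ?_]
  · rw [sum_congr rfl (g := fun _ => n + 1) (fun T hT => ?_), sum_const, smul_eq_mul]
    rw [mem_arcs] at hT
    conv_rhs => rw [← hT.1]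
    refine card_bij' (fun q _ => q.2) (fun x _ => (⟨T.erase x, x⟩ : Σ _ : Finset α, α)) ?_ ?_ ?_ ?_
    · rintro ⟨Q, x⟩ hq
      simp only [mem_filter] at hq
      rw [← hq.2]; exact mem_insert_self x Q
    · intro x hx
      simp only [mem_filter, mem_sigma, mem_arcs, insert_erase hx, and_true]
      have h := (isArc_insert (L := L) (notMem_erase x T)).1 (by rw [insert_erase hx]; exact hT.2)
      exact ⟨⟨by rw [card_erase_of_mem hx, hT.1]; rfl, h.1⟩, h.2⟩
    · rintro ⟨Q, x⟩ hq
      simp only [mem_filter, mem_sigma, mem_freePts] at hq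
      simp only [← hq.2, erase_insert hq.1.2.1]
    · intro x hx; rfl
  · rintro ⟨Q, x⟩ hq
    simp only [mem_coe, mem_sigma, mem_arcs] at hq
    have hxQ := (mem_freePts.1 hq.2).1
    simp only [mem_coe, mem_arcs]
    exact ⟨by rw [card_insert_of_notMem hxQ, hq.1.1], (isArc_insert hxQ).2 ⟨hq.1.2, hq.2⟩⟩

variable (hα : Fintype.card α = 21) (hL : Cfsg.IsSteinerSystem 2 5 L)
include hα hL

/-- The line through two points. -/
theorem exists_line {p q : α} (h : p ≠ q) : ∃ l ∈ L, p ∈ l ∧ q ∈ l := by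
  obtain ⟨l, ⟨hl, hs⟩, -⟩ := hL.2 {p, q} (card_pair h)
  simp only [insert_subset_iff, singleton_subset_iff] at hs
  exact ⟨l, hl, hs⟩

/-- Two lines through two points are equal. -/
theorem line_unique {p q : α} (h : p ≠ q) {l m : Finset α} (hl : l ∈ L) (hm : m ∈ L)
    (h1 : p ∈ l) (h2 : q ∈ l) (h3 : p ∈ m) (h4 : q ∈ m) : l = m :=
  block_unique hL hl hm (card_pair h).ge
    (by simp [insert_subset_iff, h1, h2]) (by simp [insert_subset_iff, h3, h4])

/-- Blocks through subsets of a line, or of at most two points. -/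
theorem plane_lam {Y : Finset α} (hY : Y ∈ L ∨ Y.card ≤ 2) :
    ∀ u ⊆ Y, ((blocks L).filter (fun c => u ⊆ c)).card = [21, 5, 1, 1, 1, 1].getD u.card 0 :=
  lam_table hL hα (fun i => [21, 5, 1, 1, 1, 1].getD i 0) (by decide) (by decide) hY

/-- There are 21 lines. -/
theorem card_lines : L.ncard = 21 := by
  have := plane_lam hα hL (Y := ∅) (Or.inr (by simp)) ∅ subset_rfl
  simpa [ncard_eq_card_blocks] using this

/-- Two distinct lines meet in exactly one point. -/
theorem lines_meet {l m : Finset α} (hl : l ∈ L) (hm : m ∈ L) (h : l ≠ m) :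
    (m ∩ l).card = 1 := by
  have h1 := inter_card_mem _ l (fun i => [21, 5, 1, 1, 1, 1].getD i 0)
    (fun i => [0, 4, 0, 0, 0, 1].getD i 0) (plane_lam hα hL (Or.inl hl))
    (by rw [hL.1 l hl]; decide) (mem_blocks.2 hm)
  have := block_inter_lt hL hm hl h.symm
  generalize (m ∩ l).card = i at this h1
  interval_cases i <;> simp_all

/-- The lines through subsets of an arc. -/
theorem arc_lam {Q : Finset α} (hQ : IsArc L Q) :
    ∀ u ⊆ Q, ((blocks L).filter (fun c => u ⊆ c)).card = [21, 5, 1].getD u.card 0 := by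
  intro u hu
  rcases le_or_gt u.card 2 with h | h
  · rw [plane_lam hα hL (Y := u) (Or.inr h) u subset_rfl]
    interval_cases hc : u.card <;> rfl
  · rw [List.getD_eq_default _ _ (by simp only [List.length_cons, List.length_nil]; omega), card_eq_zero, filter_eq_empty_iff]
    intro l hl hul
    rw [mem_blocks] at hl
    have := (card_le_card (subset_inter hul hu)).trans (hQ l hl)
    omega

/-- In a plane of order 4, a tangent of a 4-arc carries exactly one free point. -/
theorem tangent_free {Q : Finset α} (hQ : IsArc L Q) (hQc : Q.card = 4) {a : α} {l : Finset α}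
    (hl : l ∈ L) (hla : l ∩ Q = {a}) : (l ∩ freePts L Q).card = 1 := by
  have hal : a ∈ l ∧ a ∈ Q := mem_inter.1 (hla.symm ▸ mem_singleton_self a)
  -- the meeting points of `l` with the secants missing `a`
  set R := Q.erase a with hR
  have hRc : R.card = 3 := by rw [hR, card_erase_of_mem hal.2, hQc]
  obtain ⟨b, c, d, hbc, hbd, hcd, hRe⟩ := card_eq_three.1 hRc
  have hin : ∀ x ∈ ({b, c, d} : Finset α), x ∈ Q ∧ x ≠ a ∧ x ∉ l := by
    intro x hx
    rw [← hRe, hR, mem_erase] at hx
    refine ⟨hx.2, hx.1, fun hxl => ?_⟩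
    have : x ∈ l ∩ Q := mem_inter.2 ⟨hxl, hx.2⟩
    rw [hla, mem_singleton] at this; exact hx.1 this
  have hb := hin b (by simp)
  have hc := hin c (by simp)
  have hd := hin d (by simp)
  -- a secant through two of `b, c, d` meets `l` in one point, off `Q`
  have meet : ∀ x y, x ∈ Q → y ∈ Q → x ∉ l → x ≠ y → x ≠ a → y ≠ a →
      ∃ m ∈ L, x ∈ m ∧ y ∈ m ∧ m ∩ Q = {x, y} ∧ ∃ z, m ∩ l = {z} ∧ z ∉ Q := by
    intro x y hx hy hxl hxy hxa hya
    obtain ⟨m, hm, h1, h2⟩ := exists_line hα hL hxy
    have hmQ : m ∩ Q = {x, y} := (eq_of_subset_of_card_le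
      (by simp [insert_subset_iff, h1, h2, hx, hy]) (by rw [card_pair hxy]; exact hQ m hm)).symm
    obtain ⟨z, hz⟩ := card_eq_one.1 (lines_meet hα hL hl hm (fun e => hxl (e ▸ h1)))
    refine ⟨m, hm, h1, h2, hmQ, z, hz, fun hzQ => ?_⟩
    have hzm : z ∈ m ∧ z ∈ l := mem_inter.1 (hz.symm ▸ mem_singleton_self z)
    have e : z ∈ l ∩ Q := mem_inter.2 ⟨hzm.2, hzQ⟩
    rw [hla, mem_singleton] at e
    have : a ∈ m ∩ Q := mem_inter.2 ⟨e ▸ hzm.1, hal.2⟩
    rw [hmQ] at this
    simp only [mem_insert, mem_singleton] at this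
    rcases this with rfl | rfl <;> contradiction
  obtain ⟨m₁, hm₁, h11, h12, hQ1, z₁, hz₁, hz₁Q⟩ := meet b c hb.1 hc.1 hb.2.2 hbc hb.2.1 hc.2.1
  obtain ⟨m₂, hm₂, h21, h22, hQ2, z₂, hz₂, hz₂Q⟩ := meet b d hb.1 hd.1 hb.2.2 hbd hb.2.1 hd.2.1
  obtain ⟨m₃, hm₃, h31, h32, hQ3, z₃, hz₃, hz₃Q⟩ := meet c d hc.1 hd.1 hc.2.2 hcd hc.2.1 hd.2.1
  have hz : ∀ {m : Finset α} {z : α}, m ∩ l = {z} → z ∈ m ∧ z ∈ l :=
    fun h => mem_inter.1 (h.symm ▸ mem_singleton_self _)
  -- two secants through a point `x` of `Q` meet only in `x`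
  have only : ∀ {m n : Finset α} {x z : α}, m ∈ L → n ∈ L → m ≠ n → x ∈ m → x ∈ n → z ∈ m → z ∈ n →
      z = x := by
    intro m n x z hm hn hmn h1 h2 h3 h4
    by_contra hzx
    exact hmn (line_unique hα hL hzx hm hn h3 h1 h4 h2)
  have n12 : m₁ ≠ m₂ := fun e => by
    have : c ∈ m₂ ∩ Q := mem_inter.2 ⟨e ▸ h12, hc.1⟩
    rw [hQ2] at this; simp [hbc.symm, hcd] at this
  have n13 : m₁ ≠ m₃ := fun e => by
    have : b ∈ m₃ ∩ Q := mem_inter.2 ⟨e ▸ h11, hb.1⟩
    rw [hQ3] at this; simp [hbc, hbd] at this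
  have n23 : m₂ ≠ m₃ := fun e => by
    have : b ∈ m₃ ∩ Q := mem_inter.2 ⟨e ▸ h21, hb.1⟩
    rw [hQ3] at this; simp [hbc, hbd] at this
  have d12 : z₁ ≠ z₂ := fun e => hz₁Q (by
    rw [only hm₁ hm₂ n12 h11 h21 (hz hz₁).1 (e ▸ (hz hz₂).1)]; exact hb.1)
  have d13 : z₁ ≠ z₃ := fun e => hz₁Q (by
    rw [only hm₁ hm₃ n13 h12 h31 (hz hz₁).1 (e ▸ (hz hz₃).1)]; exact hc.1)
  have d23 : z₂ ≠ z₃ := fun e => hz₂Q (by
    rw [only hm₂ hm₃ n23 h22 h32 (hz hz₂).1 (e ▸ (hz hz₃).1)]; exact hd.1)
  have hfree : l ∩ freePts L Q = l \ {a, z₁, z₂, z₃} := by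
    ext x
    simp only [mem_inter, mem_sdiff, mem_freePts, mem_insert, mem_singleton, not_or]
    constructor
    · rintro ⟨hxl, hxQ, hfr⟩
      refine ⟨hxl, fun e => hxQ (e ▸ hal.2), ?_, ?_, ?_⟩
      · rintro rfl
        have := hfr m₁ hm₁ (hz hz₁).1
        rw [hQ1, card_pair hbc] at this; omega
      · rintro rfl
        have := hfr m₂ hm₂ (hz hz₂).1
        rw [hQ2, card_pair hbd] at this; omega
      · rintro rfl
        have := hfr m₃ hm₃ (hz hz₃).1
        rw [hQ3, card_pair hcd] at this; omega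
    · rintro ⟨hxl, hxa, hx1, hx2, hx3⟩
      have hxQ : x ∉ Q := fun e => by
        have : x ∈ l ∩ Q := mem_inter.2 ⟨hxl, e⟩
        rw [hla, mem_singleton] at this; exact hxa this
      refine ⟨hxl, hxQ, fun m hm hxm => ?_⟩
      by_contra hlt
      have h2 : (m ∩ Q).card = 2 := le_antisymm (hQ m hm) (by omega)
      have hne : m ≠ l := fun e => by rw [e, hla, card_singleton] at h2; omega
      have ham : a ∉ m := fun e => hne (line_unique hα hL hxa hm hl hxm e hxl hal.1)
      have hsub : m ∩ Q ⊆ {b, c, d} := by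
        intro y hy
        rw [← hRe, hR, mem_erase]
        exact ⟨fun e => ham (e ▸ (mem_inter.1 hy).1), (mem_inter.1 hy).2⟩
      have hxz : ∀ {m' : Finset α} {z : α}, m' = m → m' ∩ l = {z} → x = z := by
        intro m' z e hz'
        have : x ∈ m' ∩ l := mem_inter.2 ⟨e ▸ hxm, hxl⟩
        rwa [hz', mem_singleton] at this
      obtain ⟨u, v, huv, huv'⟩ := card_eq_two.1 h2
      have hu : u ∈ m ∩ Q := by rw [huv']; simp
      have hv : v ∈ m ∩ Q := by rw [huv']; simp
      have hu' := hsub hu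
      have hv' := hsub hv
      simp only [mem_insert, mem_singleton] at hu' hv'
      rw [mem_inter] at hu hv
      rcases hu' with rfl | rfl | rfl <;> rcases hv' with rfl | rfl | rfl <;>
        first
          | exact huv rfl
          | exact hx1 (hxz (line_unique hα hL huv hm₁ hm (by assumption) (by assumption) hu.1 hv.1) hz₁)
          | exact hx2 (hxz (line_unique hα hL huv hm₂ hm (by assumption) (by assumption) hu.1 hv.1) hz₂)
          | exact hx3 (hxz (line_unique hα hL huv hm₃ hm (by assumption) (by assumption) hu.1 hv.1) hz₃)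
  have ha' : a ∉ ({z₁, z₂, z₃} : Finset α) := by
    simp only [mem_insert, mem_singleton]
    rintro (rfl | rfl | rfl) <;> exact absurd hal.2 ‹_›
  rw [hfree, card_sdiff_of_subset
    (by simp [insert_subset_iff, hal.1, (hz hz₁).2, (hz hz₂).2, (hz hz₃).2]), hL.1 l hl,
    card_insert_of_notMem ha', card_eq_three.2 ⟨_, _, _, d12, d13, d23, rfl⟩]

/-- A 4-arc has exactly two free points. -/
theorem card_free_four {Q : Finset α} (hQ : IsArc L Q) (hQc : Q.card = 4) :
    (freePts L Q).card = 2 := by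
  obtain ⟨a, ha⟩ := card_pos.1 (show 0 < Q.card by omega)
  set T := (blocks L).filter (fun c => c ∩ Q = {a}) with hT
  have hTc : T.card = 2 := by
    have := card_inter_eq (blocks L) Q (fun i => [21, 5, 1].getD i 0)
      (fun i => [7, 2, 1].getD i 0) (arc_lam hα hL hQ) (by rw [hQc]; decide) {a}
      (by simpa using ha)
    simpa using this
  have hU : freePts L Q = T.biUnion fun l => l ∩ freePts L Q := by
    ext x
    simp only [mem_biUnion, mem_inter]
    refine ⟨fun hx => ?_, fun ⟨l, _, _, h⟩ => h⟩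
    have hxa : x ≠ a := fun e => (mem_freePts.1 hx).1 (e ▸ ha)
    obtain ⟨l, hl, hxl, hal⟩ := exists_line hα hL hxa
    refine ⟨l, mem_filter.2 ⟨mem_blocks.2 hl, ?_⟩, hxl, hx⟩
    exact (eq_of_subset_of_card_le (singleton_subset_iff.2 (mem_inter.2 ⟨hal, ha⟩))
      ((mem_freePts.1 hx).2 l hl hxl)).symm
  rw [hU, card_biUnion, sum_congr rfl (g := fun _ => 1), sum_const, hTc]
  · rfl
  · intro l hl
    rw [hT, mem_filter, mem_blocks] at hl
    exact tangent_free hα hL hQ hQc hl.1 hl.2
  · intro l hl m hm hlm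
    simp only [hT, coe_filter, Set.mem_setOf_eq, mem_blocks] at hl hm
    rw [Function.onFun, disjoint_left]
    intro x hx hx'
    rw [mem_inter, mem_freePts] at hx hx'
    have hxa : x ≠ a := fun e => hx.2.1 (e ▸ ha)
    exact hlm (line_unique hα hL hxa hl.1 hm.1 hx.1
      (mem_inter.1 (hl.2.symm ▸ mem_singleton_self a)).1 hx'.1
      (mem_inter.1 (hm.2.symm ▸ mem_singleton_self a)).1)

/-- A 4-arc with its two free points is a hyperoval. -/
theorem hyperoval_of_quad {Q : Finset α} (hQ : IsArc L Q) (hQc : Q.card = 4) :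
    IsHyperoval L (Q ∪ freePts L Q) := by
  have hd : Disjoint Q (freePts L Q) := by
    rw [disjoint_left]; exact fun x hx hx' => (mem_freePts.1 hx').1 hx
  have hF := card_free_four hα hL hQ hQc
  refine ⟨by rw [card_union_of_disjoint hd, hQc, hF], fun l hl => ?_⟩
  rw [inter_union_distrib_left, card_union_of_disjoint
    (disjoint_of_subset_left inter_subset_right (disjoint_of_subset_right inter_subset_right hd))]
  have h2 := hQ l hl
  have hle : (l ∩ freePts L Q).card ≤ 2 := hF ▸ card_le_card inter_subset_right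
  rcases Nat.lt_or_ge (l ∩ Q).card 2 with h | h
  · rcases Nat.eq_zero_or_pos (l ∩ Q).card with h0 | h0
    · omega
    · obtain ⟨a, ha⟩ := card_eq_one.1 (show (l ∩ Q).card = 1 by omega)
      have := tangent_free hα hL hQ hQc hl ha
      omega
  · have : l ∩ freePts L Q = ∅ := by
      rw [eq_empty_iff_forall_notMem]
      intro x hx
      rw [mem_inter, mem_freePts] at hx
      have := hx.2.2 l hl hx.1
      omega
    rw [this, card_empty]
    omega

/-- The hyperoval through a 4-arc is unique. -/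
theorem hyperoval_unique {Q H : Finset α} (hQc : Q.card = 4) (hH : IsHyperoval L H) (hQH : Q ⊆ H) :
    H = Q ∪ freePts L Q := by
  have hsub : H \ Q ⊆ freePts L Q := by
    intro x hx
    rw [mem_sdiff] at hx
    exact ((isArc_insert hx.2).1 (hH.2.mono (insert_subset hx.1 hQH))).2
  have hF := card_free_four hα hL (hH.2.mono hQH) hQc
  have he : H \ Q = freePts L Q :=
    eq_of_subset_of_card_le hsub (by rw [card_sdiff_of_subset hQH, hH.1, hQc, hF])
  rw [← he, union_sdiff_of_subset hQH]

/-- Every line meets a hyperoval in 0 or 2 points. -/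
theorem hyperoval_line {H l : Finset α} (hH : IsHyperoval L H) (hl : l ∈ L) :
    (l ∩ H).card = 0 ∨ (l ∩ H).card = 2 := by
  have := inter_card_mem (blocks L) H (fun i => [21, 5, 1].getD i 0)
    (fun i => [6, 0, 1].getD i 0) (arc_lam hα hL hH.2) (by rw [hH.1]; decide) (mem_blocks.2 hl)
  have h2 := hH.2 l hl
  generalize (l ∩ H).card = i at this h2
  interval_cases i <;> simp_all

/-- The number of free points of an arc of at most three points. -/
theorem card_free_small {Q : Finset α} (hQ : IsArc L Q) (hQc : Q.card ≤ 3) :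
    (freePts L Q).card = [21, 20, 16, 9].getD Q.card 0 := by
  set S := (blocks L).filter (fun c => (c ∩ Q).card = 2) with hS
  have hSc : S.card = Q.card.choose 2 := by
    have := card_inter_card_eq (blocks L) Q (fun i => [21, 5, 1].getD i 0)
      (fun i => [[21, 5, 1].getD 0 0 - Q.card * (5 - (Q.card - 1)) - Q.card.choose 2,
        5 - (Q.card - 1), 1].getD i 0) (arc_lam hα hL hQ)
      (by interval_cases Q.card <;> decide) 2
    simpa using this
  have hsplit : freePts L Q = (Q ∪ S.biUnion id)ᶜ := by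
    ext x
    simp only [mem_freePts, mem_compl, mem_union, mem_biUnion, id_eq, not_or, not_exists, not_and,
      hS, mem_filter, mem_blocks]
    refine and_congr_right fun _ => ⟨fun h l hl hxl => ?_, fun h l hl hxl => ?_⟩
    · have := h l hl.1 hxl; omega
    · by_contra hc
      exact h l ⟨hl, le_antisymm (hQ l hl) (by omega)⟩ hxl
  rw [hsplit, card_compl, hα]
  rcases (by omega : Q.card = 0 ∨ Q.card = 1 ∨ Q.card = 2 ∨ Q.card = 3) with h | h | h | h
  · rw [h] at hSc ⊢
    rw [Nat.choose_eq_zero_of_lt (by norm_num), card_eq_zero] at hSc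
    rw [card_eq_zero] at h
    rw [h, hSc]; rfl
  · rw [h] at hSc ⊢
    rw [Nat.choose_eq_zero_of_lt (by norm_num), card_eq_zero] at hSc
    rw [hSc, biUnion_empty, union_empty, h]; rfl
  · rw [h] at hSc ⊢
    obtain ⟨l, hl⟩ := card_eq_one.1 hSc
    have hl' : l ∈ S := by rw [hl]; exact mem_singleton_self l
    rw [hS, mem_filter, mem_blocks] at hl'
    have : Q ⊆ l := by
      intro x hx
      have e : l ∩ Q = Q := eq_of_subset_of_card_le inter_subset_right (by omega)
      exact (mem_inter.1 (e.symm ▸ hx)).1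
    rw [hl, singleton_biUnion, id_eq, union_eq_right.2 this, hL.1 l hl'.1]; rfl
  · rw [h] at hSc ⊢
    obtain ⟨l₁, l₂, l₃, e12, e13, e23, hl⟩ := card_eq_three.1 hSc
    have hm : ∀ l ∈ S, l ∈ L ∧ (l ∩ Q).card = 2 := fun l hl => by
      rw [hS, mem_filter, mem_blocks] at hl; exact hl
    have h1 := hm l₁ (by rw [hl]; simp)
    have h2 := hm l₂ (by rw [hl]; simp)
    have h3 := hm l₃ (by rw [hl]; simp)
    -- two secants of a triangle meet inside it
    have meetQ : ∀ l m : Finset α, l ∈ L ∧ (l ∩ Q).card = 2 → m ∈ L ∧ (m ∩ Q).card = 2 → l ≠ m →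
        ∀ x, x ∈ l → x ∈ m → x ∈ Q := by
      intro l m hl hm hlm x hxl hxm
      obtain ⟨y, hy⟩ := inter_nonempty_of_card_lt_card_add_card
        (inter_subset_right (s₁ := l) (s₂ := Q)) (inter_subset_right (s₁ := m) (s₂ := Q))
        (by omega)
      simp only [mem_inter] at hy
      by_contra hxQ
      exact hlm (line_unique hα hL (fun e : x = y => hxQ (by rw [e]; exact hy.1.2)) hl.1 hm.1 hxl hy.1.1 hxm hy.2.1)
    have hd : ∀ l m : Finset α, l ∈ L ∧ (l ∩ Q).card = 2 → m ∈ L ∧ (m ∩ Q).card = 2 → l ≠ m →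
        Disjoint (l \ Q) (m \ Q) := by
      intro l m hl hm hlm
      rw [disjoint_left]
      intro x hx hx'
      rw [mem_sdiff] at hx hx'
      exact hx.2 (meetQ l m hl hm hlm x hx.1 hx'.1)
    have hc : ∀ l : Finset α, l ∈ L ∧ (l ∩ Q).card = 2 → (l \ Q).card = 3 := fun l hl => by
      have := card_inter_add_card_sdiff l Q
      rw [hL.1 l hl.1] at this; omega
    have hU : Q ∪ S.biUnion id = Q ∪ ((l₁ \ Q) ∪ ((l₂ \ Q) ∪ (l₃ \ Q))) := by
      rw [hl]; ext x
      simp only [mem_union, mem_biUnion, mem_insert, mem_singleton, id_eq, mem_sdiff,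
        exists_eq_or_imp, exists_eq_left]
      tauto
    rw [hU, card_union_of_disjoint, card_union_of_disjoint, card_union_of_disjoint, hc _ h1,
      hc _ h2, hc _ h3, h]
    · rfl
    · exact hd _ _ h2 h3 e23
    · exact disjoint_union_right.2 ⟨hd _ _ h1 h2 e12, hd _ _ h1 h3 e13⟩
    · simp [disjoint_union_right, disjoint_sdiff]

/-- There are 2520 four-point arcs. -/
theorem card_quads : (arcs L 4).card = 2520 := by
  have step : ∀ n f, n ≤ 3 → [21, 20, 16, 9].getD n 0 = f →
      (arcs L (n + 1)).card * (n + 1) = (arcs L n).card * f := by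
    intro n f hn hf
    rw [arcs_succ, sum_congr rfl (g := fun _ => f) (fun Q hQ => ?_), sum_const, smul_eq_mul]
    rw [mem_arcs] at hQ
    rw [card_free_small hα hL hQ.2 (by omega), hQ.1, hf]
  have h0 : (arcs L 0).card = 1 := by
    rw [card_eq_one]
    refine ⟨∅, ?_⟩
    ext S
    simp only [mem_arcs, card_eq_zero, mem_singleton]
    exact ⟨fun h => h.1, fun h => ⟨h, fun l _ => by simp [h]⟩⟩
  have h1 := step 0 21 (by omega) rfl
  have h2 := step 1 20 (by omega) rfl
  have h3 := step 2 16 (by omega) rfl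
  have h4 := step 3 9 (by omega) rfl
  norm_num at h1 h2 h3 h4
  omega

/-- There are 168 hyperovals. -/
theorem card_hyperovals : (arcs L 6).card = 168 := by
  have h := card_eq_sum_card_fiberwise (s := arcs L 4) (t := arcs L 6)
    (f := fun Q => Q ∪ freePts L Q) (fun Q hQ => by
      simp only [mem_coe, mem_arcs] at hQ ⊢
      exact hyperoval_of_quad hα hL hQ.2 hQ.1)
  rw [card_quads hα hL, sum_congr rfl (g := fun _ => 15) (fun H hH => ?_), sum_const,
    smul_eq_mul] at h
  · omega
  · rw [mem_arcs] at hH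
    have : (arcs L 4).filter (fun Q => Q ∪ freePts L Q = H) = H.powersetCard 4 := by
      ext Q
      simp only [mem_filter, mem_arcs, mem_powersetCard]
      refine ⟨fun h => ⟨h.2 ▸ subset_union_left, h.1.1⟩, fun h => ⟨⟨h.2, hH.2.mono h.1⟩, ?_⟩⟩
      exact (hyperoval_unique hα hL h.2 hH h.1).symm
    rw [this, card_powersetCard, hH.1]
    rfl

end Cfsg.Agent.H10
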