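import Mathlib

/-!
A model of the projective plane of order 4 built on a hyperoval: the points `0..5` form the
hyperoval, the points `6..20` correspond to the 15 partitions of `{0..5}` into three pairs.
-/

set_option autoImplicit false

open Finset

namespace Cfsg.Agent.H10.P4

/-- The 15 fixed-point-free involutions of six points, as tables. -/
def synTable : Fin 15 → Fin 6 → Fin 6 :=
  ![![1, 0, 3, 2, 5, 4], ![1, 0, 4, 5, 2, 3], ![1, 0, 5, 4, 3, 2], ![2, 3, 0, 1, 5, 4],
    ![2, 4, 0, 5, 1, 3], ![2, 5, 0, 4, 3, 1], ![3, 2, 1, 0, 5, 4], ![3, 4, 5, 0, 1, 2],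
    ![3, 5, 4, 0, 2, 1], ![4, 2, 1, 5, 0, 3], ![4, 3, 5, 1, 0, 2], ![4, 5, 3, 2, 0, 1],
    ![5, 2, 1, 4, 3, 0], ![5, 3, 4, 1, 2, 0], ![5, 4, 3, 2, 1, 0]]

/-- The six totals: five involutions pairwise sharing no pair. -/
def totalTable : Fin 6 → Finset (Fin 15) :=
  ![{0, 4, 8, 10, 12}, {0, 5, 7, 9, 13}, {1, 3, 7, 11, 12}, {1, 5, 6, 10, 14}, {2, 3, 8, 9, 14},
    {2, 4, 6, 11, 13}]

/-- A hyperoval point of the model. -/
def ovalPt (i : Fin 6) : Fin 21 := Fin.castLE (by decide) i

/-- The model point of an involution. -/
def synPt (i : Fin 15) : Fin 21 := ⟨6 + i.val, by omega⟩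

/-- The secant through two hyperoval points. -/
def secant (a b : Fin 6) : Finset (Fin 21) :=
  {ovalPt a, ovalPt b} ∪ (univ.filter fun i => synTable i a = b).image synPt

/-- The external line of a total. -/
def external (j : Fin 6) : Finset (Fin 21) := (totalTable j).image synPt

/-- The lines of the model, as bit masks of their points. -/
def lineMasks : List ℕ :=
  [451, 3589, 28681, 229393, 1835041, 299014, 590346,
    1057810, 149538, 1179724, 540820, 74020, 264472, 33960,
    4720, 345152, 567360, 402048, 1120384, 1098496, 660736]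

/-- The point set of a bit mask. -/
def maskSet (m : ℕ) : Finset (Fin 21) := univ.filter fun x => m.testBit x.val

/-- The line set of the model plane. -/
def modelLines : Set (Finset (Fin 21)) := {l | ∃ m ∈ lineMasks, maskSet m = l}

theorem lineMasks_card : lineMasks.all
    (fun m => ((List.range 21).filter fun x => m.testBit x).length == 5) = true := by decide +kernel

theorem lineMasks_inter : lineMasks.all (fun m => lineMasks.all fun n =>
    m == n || ((List.range 21).filter fun x => m.testBit x && n.testBit x).length ≤ 1) = true := by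
  decide +kernel

theorem lineMasks_exists : (List.range 21).all (fun a => (List.range 21).all fun b =>
    lineMasks.any fun m => m.testBit a && m.testBit b) = true := by decide +kernel

theorem secant_mem : ∀ a b : Fin 6, a ≠ b → secant a b ∈ lineMasks.map maskSet := by decide +kernel

theorem external_mem : ∀ j : Fin 6, external j ∈ lineMasks.map maskSet := by decide +kernel

/-- The number of points of a mask below 21. -/
theorem card_maskSet (p : ℕ → Bool) :
    (univ.filter fun x : Fin 21 => p x.val).card = ((List.range 21).filter p).length := by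
  rw [← List.toFinset_card_of_nodup (List.nodup_range.filter _),
    ← card_map Fin.valEmbedding]
  congr 1
  ext x
  simp [Fin.exists_iff]
  tauto

/-- The model lines form an S(2,5,21). -/
theorem model_isSteiner : (∀ l ∈ modelLines, l.card = 5) ∧
    ∀ s : Finset (Fin 21), s.card = 2 → ∃! l, l ∈ modelLines ∧ s ⊆ l := by
  refine ⟨?_, fun s hs => ?_⟩
  · rintro l ⟨m, hm, rfl⟩
    rw [maskSet, card_maskSet m.testBit]
    simpa using List.all_eq_true.1 lineMasks_card m hm
  · obtain ⟨a, b, hab, rfl⟩ := card_eq_two.1 hs
    obtain ⟨m, hm, hmab⟩ := List.any_eq_true.1 (List.all_eq_true.1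
      (List.all_eq_true.1 lineMasks_exists a (List.mem_range.2 a.isLt)) b (List.mem_range.2 b.isLt))
    rw [Bool.and_eq_true] at hmab
    refine ⟨maskSet m, ⟨⟨m, hm, rfl⟩, ?_⟩, ?_⟩
    · simp [insert_subset_iff, maskSet, hmab.1, hmab.2]
    · rintro l ⟨⟨n, hn, rfl⟩, hsn⟩
      simp only [insert_subset_iff, singleton_subset_iff, maskSet, mem_filter, mem_univ,
        true_and] at hsn
      have h := List.all_eq_true.1 (List.all_eq_true.1 lineMasks_inter m hm) n hn
      rw [Bool.or_eq_true, beq_iff_eq, decide_eq_true_eq] at h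
      rcases h with rfl | h
      · rfl
      exfalso
      rw [← card_maskSet fun x => m.testBit x && n.testBit x] at h
      exact hab (card_le_one.1 h a (by simp [hmab.1, hsn.1]) b (by simp [hmab.2, hsn.2]))

/-- Secants are lines of the model. -/
theorem secant_mem_model (a b : Fin 6) (h : a ≠ b) : secant a b ∈ modelLines :=
  List.mem_map.1 (secant_mem a b h)

/-- External lines are lines of the model. -/
theorem external_mem_model (j : Fin 6) : external j ∈ modelLines :=
  List.mem_map.1 (external_mem j)

theorem syn_fpf : ∀ i : Fin 15, ∀ a : Fin 6, synTable i a ≠ a ∧ synTable i (synTable i a) = a := by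
  decide +kernel

/-- Every fixed-point-free involution of six points occurs in `synTable`. -/
theorem syn_complete : ∀ σ : Equiv.Perm (Fin 6), (∀ a, σ a ≠ a ∧ σ (σ a) = a) →
    ∃ i : Fin 15, ∀ a, synTable i a = σ a := by decide +kernel

/-- Two involutions share no pair. -/
def SynDisjoint (i j : Fin 15) : Prop := ∀ a : Fin 6, synTable i a ≠ synTable j a

instance instDecidableSynDisjoint (i j : Fin 15) : Decidable (SynDisjoint i j) :=
  inferInstanceAs (Decidable (∀ a : Fin 6, synTable i a ≠ synTable j a))

theorem total_complete : ∀ a b : Fin 15, a < b → SynDisjoint a b →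
    ∀ c : Fin 15, b < c → SynDisjoint a c → SynDisjoint b c →
    ∀ d : Fin 15, c < d → SynDisjoint a d → SynDisjoint b d → SynDisjoint c d →
    ∀ e : Fin 15, d < e → SynDisjoint a e → SynDisjoint b e → SynDisjoint c e → SynDisjoint d e →
    ∃ j : Fin 6, ({a, b, c, d, e} : Finset (Fin 15)) = totalTable j := by decide +kernel

/-- Five pairwise disjoint involutions form one of the six totals. -/
theorem total_of_clique (T : Finset (Fin 15)) (hT : T.card = 5)
    (hd : ∀ i ∈ T, ∀ j ∈ T, i ≠ j → SynDisjoint i j) : ∃ j : Fin 6, T = totalTable j := by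
  have hs : ∀ m, T.orderEmbOfFin hT m ∈ T := fun m => orderEmbOfFin_mem T hT m
  have lt : ∀ {m n : Fin 5}, m < n → T.orderEmbOfFin hT m < T.orderEmbOfFin hT n :=
    fun h => (T.orderEmbOfFin hT).strictMono h
  have dj : ∀ {m n : Fin 5}, m < n → SynDisjoint (T.orderEmbOfFin hT m) (T.orderEmbOfFin hT n) :=
    fun h => hd _ (hs _) _ (hs _) (lt h).ne
  obtain ⟨j, hj⟩ := total_complete _ _ (lt (show (0 : Fin 5) < 1 by decide)) (dj (by decide))
    _ (lt (show (1 : Fin 5) < 2 by decide)) (dj (by decide)) (dj (by decide))
    _ (lt (show (2 : Fin 5) < 3 by decide)) (dj (by decide)) (dj (by decide)) (dj (by decide))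
    _ (lt (show (3 : Fin 5) < 4 by decide)) (dj (by decide)) (dj (by decide)) (dj (by decide))
    (dj (by decide))
  refine ⟨j, ?_⟩
  rw [← hj]
  symm
  refine eq_of_subset_of_card_le ?_ ?_
  · intro x hx
    simp only [mem_insert, mem_singleton] at hx
    rcases hx with rfl | rfl | rfl | rfl | rfl <;> exact hs _
  · rw [hT, hj]
    exact (show ∀ i : Fin 6, 5 ≤ (totalTable i).card by decide) j

theorem syn_secant_inj : ∀ i j : Fin 15,
    (∀ a b : Fin 6, synTable i a = b → synTable j a = b) → i = j := by decide +kernel

end Cfsg.Agent.H10.P4
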