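import Cfsg.Agent.H10.Plane4
import Cfsg.Agent.H10.Plane4Model
import Cfsg.Agent.H10.SteinerIso

/-!
Coordinates on a projective plane of order 4: every labelling of a hyperoval extends to exactly one
isomorphism with the model plane.
-/

set_option autoImplicit false
set_option linter.unusedSectionVars false

open Finset

namespace Cfsg.Agent.H10

/-- The model plane is a Steiner system S(2,5,21). -/
theorem modelLines_steiner : Cfsg.IsSteinerSystem 2 5 P4.modelLines := P4.model_isSteiner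

variable {α : Type*} [DecidableEq α] [Fintype α] {L : Set (Finset α)}
variable (hα : Fintype.card α = 21) (hL : Cfsg.IsSteinerSystem 2 5 L)
include hα hL

/-- A hyperoval of any plane of order 4. -/
theorem exists_hyperoval : ∃ H, IsHyperoval L H := by
  obtain ⟨H, hH⟩ := card_pos.1 (show 0 < (arcs L 6).card by rw [card_hyperovals hα hL]; norm_num)
  exact ⟨H, mem_arcs.1 hH⟩

/-- The other end of the secant from a point off a hyperoval through one of its points. -/
theorem exists_partner {H : Finset α} (hH : IsHyperoval L H) {x : α} (hx : x ∉ H) (h : ↥H) :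
    ∃ k : ↥H, k ≠ h ∧ ∃ l ∈ L, x ∈ l ∧ (h : α) ∈ l ∧ (k : α) ∈ l := by
  obtain ⟨l, hl, hxl, hhl⟩ := exists_line hα hL (p := x) (q := h) (fun e => hx (e ▸ h.2))
  have hm : (h : α) ∈ l ∩ H := mem_inter.2 ⟨hhl, h.2⟩
  rcases hyperoval_line hα hL hH hl with e | e
  · exact absurd hm (by rw [card_eq_zero.1 e]; exact notMem_empty _)
  · obtain ⟨u, v, huv, he⟩ := card_eq_two.1 e
    have hu : u ∈ l ∩ H := by rw [he]; simp
    have hv : v ∈ l ∩ H := by rw [he]; simp
    rw [he, mem_insert, mem_singleton] at hm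
    rw [mem_inter] at hu hv
    rcases hm with hm | hm
    · exact ⟨⟨v, hv.2⟩, fun e => huv (by rw [← hm, ← e]), l, hl, hxl, hhl, hv.1⟩
    · exact ⟨⟨u, hu.2⟩, fun e => huv (by rw [← hm, ← e]), l, hl, hxl, hhl, hu.1⟩

/-- A secant meets a hyperoval in its two defining points only. -/
theorem secant_inter {H : Finset α} (hH : IsHyperoval L H) {l : Finset α} (hl : l ∈ L)
    {h k : α} (hh : h ∈ H) (hk : k ∈ H) (hne : h ≠ k) (h1 : h ∈ l) (h2 : k ∈ l) :
    l ∩ H = {h, k} :=
  (eq_of_subset_of_card_le (by simp [insert_subset_iff, hh, hk, h1, h2])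
    (by rw [card_pair hne]; exact hH.2 l hl)).symm

/-- Every point off a labelled hyperoval has a label among the 15 involutions. -/
theorem exists_label {H : Finset α} (hH : IsHyperoval L H) (σ : ↥H ≃ Fin 6) {x : α} (hx : x ∉ H) :
    ∃ i : Fin 15, ∀ h k : ↥H, h ≠ k →
      ((∃ l ∈ L, x ∈ l ∧ (h : α) ∈ l ∧ (k : α) ∈ l) ↔ P4.synTable i (σ h) = σ k) := by
  choose f hne l hl hxl hhl hfl using exists_partner hα hL hH hx
  have key : ∀ h k : ↥H, h ≠ k → (∃ m ∈ L, x ∈ m ∧ (h : α) ∈ m ∧ (k : α) ∈ m) → f h = k := by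
    rintro h k hk ⟨m, hm, hxm, hhm, hkm⟩
    have e : m = l h :=
      line_unique hα hL (fun e : x = (h : α) => hx (by rw [e]; exact h.2)) hm (hl h) hxm hhm (hxl h) (hhl h)
    have hmem : (f h : α) ∈ m ∩ H := mem_inter.2 ⟨e ▸ hfl h, (f h).2⟩
    rw [secant_inter hα hL hH hm h.2 k.2 (Subtype.coe_ne_coe.2 hk) hhm hkm, mem_insert,
      mem_singleton] at hmem
    exact hmem.elim (fun e => absurd (Subtype.ext e) (hne h)) Subtype.ext
  have hinv : Function.Involutive f := fun h =>
    key (f h) h (hne h) ⟨l h, hl h, hxl h, hfl h, hhl h⟩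
  obtain ⟨i, hi⟩ := P4.syn_complete ((σ.symm.trans (hinv.toPerm f)).trans σ) fun a => by
    refine ⟨fun e => hne (σ.symm a) ?_, ?_⟩
    · simpa [Function.Involutive.coe_toPerm] using congrArg σ.symm e
    · simp [Function.Involutive.coe_toPerm, hinv (σ.symm a)]
  refine ⟨i, fun h k hhk => ?_⟩
  rw [hi]
  simp only [Equiv.trans_apply, Equiv.symm_apply_apply, Function.Involutive.coe_toPerm,
    EmbeddingLike.apply_eq_iff_eq]
  exact ⟨key h k hhk, fun e => e ▸ ⟨l h, hl h, hxl h, hhl h, hfl h⟩⟩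

/-- Any labelling of a hyperoval extends to an isomorphism with the model plane. -/
theorem exists_coord {H : Finset α} (hH : IsHyperoval L H) (σ : ↥H ≃ Fin 6) :
    ∃ e : α ≃ Fin 21, imgSys e L = P4.modelLines ∧ ∀ h : ↥H, e h = P4.ovalPt (σ h) := by
  classical
  choose idx hidx using fun x : {x : α // x ∉ H} => exists_label hα hL hH σ x.2
  let φ : α → Fin 21 := fun x =>
    if h : x ∈ H then P4.ovalPt (σ ⟨x, h⟩) else P4.synPt (idx ⟨x, h⟩)
  have hφH : ∀ h : ↥H, φ h = P4.ovalPt (σ h) := fun h => by simp [φ]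
  have hφx : ∀ x : {x : α // x ∉ H}, φ x = P4.synPt (idx x) := fun x => by simp [φ, x.2]
  have hos : ∀ (a : Fin 6) (i : Fin 15), P4.ovalPt a ≠ P4.synPt i := by decide
  have hidxinj : Function.Injective idx := by
    intro x y hxy
    by_contra hne
    have hxy' : (x : α) ≠ y := fun e => hne (Subtype.ext e)
    obtain ⟨m, hm, hxm, hym⟩ := exists_line hα hL hxy'
    have : ∀ h : ↥H, (h : α) ∈ m := by
      intro h
      obtain ⟨k, hk, l, hl, hxl, hhl, hkl⟩ := exists_partner hα hL hH x.2 h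
      have e1 := (hidx x h k hk.symm).1 ⟨l, hl, hxl, hhl, hkl⟩
      rw [hxy] at e1
      obtain ⟨l', hl', hyl', hhl', hkl'⟩ := (hidx y h k hk.symm).2 e1
      have e : l = l' := line_unique hα hL (Subtype.coe_ne_coe.2 hk.symm) hl hl' hhl hkl hhl' hkl'
      rw [line_unique hα hL hxy' hm hl hxm hym hxl (e ▸ hyl')]
      exact hhl
    have hsub : H ⊆ m ∩ H := fun h hh => mem_inter.2 ⟨this ⟨h, hh⟩, hh⟩
    have := (card_le_card hsub).trans (hH.2 m hm)
    rw [hH.1] at this
    omega
  have hinj : Function.Injective φ := by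
    intro x y h
    by_cases hx : x ∈ H <;> by_cases hy : y ∈ H
    · rw [show x = ((⟨x, hx⟩ : ↥H) : α) from rfl, show y = ((⟨y, hy⟩ : ↥H) : α) from rfl, hφH,
        hφH] at h
      exact congrArg Subtype.val (σ.injective (Fin.castLE_injective _ h))
    · rw [show x = ((⟨x, hx⟩ : ↥H) : α) from rfl,
        show y = ((⟨y, hy⟩ : {x : α // x ∉ H}) : α) from rfl, hφH, hφx] at h
      exact absurd h (hos _ _)
    · rw [show x = ((⟨x, hx⟩ : {x : α // x ∉ H}) : α) from rfl,
        show y = ((⟨y, hy⟩ : ↥H) : α) from rfl, hφH, hφx] at h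
      exact absurd h.symm (hos _ _)
    · rw [show x = ((⟨x, hx⟩ : {x : α // x ∉ H}) : α) from rfl,
        show y = ((⟨y, hy⟩ : {x : α // x ∉ H}) : α) from rfl, hφx, hφx] at h
      exact congrArg Subtype.val (hidxinj (Fin.ext (by simpa [P4.synPt] using h)))
  let e : α ≃ Fin 21 := Equiv.ofBijective φ
    ((Fintype.bijective_iff_injective_and_card φ).2 ⟨hinj, by simp [hα]⟩)
  have he : ∀ x, e x = φ x := fun _ => rfl
  refine ⟨e, ?_, fun h => hφH h⟩
  refine steiner_eq_of_subset (by norm_num) (steiner_image hL e) modelLines_steiner ?_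
  rintro _ ⟨l, hl, rfl⟩
  show l.image e ∈ P4.modelLines
  rcases hyperoval_line hα hL hH hl with hc | hc
  · -- an external line becomes a total
    have hlH : ∀ x ∈ l, x ∉ H := fun x hx hxH =>
      (card_eq_zero.1 hc ▸ mem_inter.2 ⟨hx, hxH⟩ : x ∈ (∅ : Finset α)) |> notMem_empty x
    set T := l.attach.image fun x => idx ⟨x.1, hlH x.1 x.2⟩ with hT
    have hTc : T.card = 5 := by
      have hi : Function.Injective fun x : ↥l => idx ⟨x.1, hlH x.1 x.2⟩ := fun x y h => by
        have := congrArg Subtype.val (hidxinj h)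
        exact Subtype.ext this
      rw [hT, card_image_of_injective _ hi, card_attach, hL.1 l hl]
    have hd : ∀ i ∈ T, ∀ j ∈ T, i ≠ j → P4.SynDisjoint i j := by
      intro i hi i' hi' hne a hcon
      obtain ⟨⟨x, hx⟩, -, rfl⟩ := mem_image.1 hi
      obtain ⟨⟨y, hy⟩, -, rfl⟩ := mem_image.1 hi'
      have hxy : x ≠ y := fun e => hne (by subst e; rfl)
      set b := P4.synTable (idx ⟨x, hlH x hx⟩) a with hb
      have hab : σ.symm a ≠ σ.symm b := fun e =>
        (P4.syn_fpf _ a).1 (σ.symm.injective e).symm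
      obtain ⟨m, hm, hxm, h1, h2⟩ := (hidx ⟨x, hlH x hx⟩ _ _ hab).2 (by simpa using hb.symm)
      obtain ⟨m', hm', hym', h1', h2'⟩ := (hidx ⟨y, hlH y hy⟩ _ _ hab).2 (by simpa using hcon.symm)
      have e : m = m' := line_unique hα hL (Subtype.coe_ne_coe.2 hab) hm hm' h1 h2 h1' h2'
      have e' : l = m := line_unique hα hL hxy hl hm hx hy hxm (e ▸ hym')
      exact hlH _ (e' ▸ h1) (σ.symm a).2
    obtain ⟨j, hj⟩ := P4.total_of_clique T hTc hd
    rw [eq_of_subset_of_card_le (s := l.image e) (t := P4.external j) ?_ ?_]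
    · exact P4.external_mem_model j
    · intro y hy
      obtain ⟨x, hx, rfl⟩ := mem_image.1 hy
      rw [he, show x = ((⟨x, hlH x hx⟩ : {x : α // x ∉ H}) : α) from rfl, hφx, P4.external, ← hj]
      exact mem_image_of_mem _ (mem_image.2 ⟨⟨x, hx⟩, mem_attach _ _, rfl⟩)
    · rw [card_image_of_injective _ e.injective, hL.1 l hl, P4.external, ← hj]
      exact card_image_le.trans hTc.le
  · -- a secant becomes a secant
    obtain ⟨u, v, huv, hluv⟩ := card_eq_two.1 hc
    have hu : u ∈ l ∩ H := by rw [hluv]; simp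
    have hv : v ∈ l ∩ H := by rw [hluv]; simp
    rw [mem_inter] at hu hv
    obtain ⟨hul, huH⟩ := hu
    obtain ⟨hvl, hvH⟩ := hv
    have hab : σ ⟨u, huH⟩ ≠ σ ⟨v, hvH⟩ := fun e => huv (congrArg Subtype.val (σ.injective e))
    have hsub : l.image e ⊆ P4.secant (σ ⟨u, huH⟩) (σ ⟨v, hvH⟩) := by
      intro y hy
      obtain ⟨x, hx, rfl⟩ := mem_image.1 hy
      rw [P4.secant, mem_union, he]
      by_cases hxH : x ∈ H
      · have hxm : x ∈ l ∩ H := mem_inter.2 ⟨hx, hxH⟩
        rw [hluv, mem_insert, mem_singleton] at hxm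
        left
        rw [show x = ((⟨x, hxH⟩ : ↥H) : α) from rfl, hφH]
        rcases hxm with rfl | rfl <;> simp
      · right
        rw [show x = ((⟨x, hxH⟩ : {x : α // x ∉ H}) : α) from rfl, hφx]
        refine mem_image_of_mem _ (mem_filter.2 ⟨mem_univ _, ?_⟩)
        exact (hidx ⟨x, hxH⟩ ⟨u, huH⟩ ⟨v, hvH⟩ (fun e => huv (congrArg Subtype.val e))).1
          ⟨l, hl, hx, hul, hvl⟩
    rw [eq_of_subset_of_card_le hsub (by
      rw [card_image_of_injective _ e.injective, hL.1 l hl,
        modelLines_steiner.1 _ (P4.secant_mem_model _ _ hab)])]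
    exact P4.secant_mem_model _ _ hab

omit hα hL in
/-- The automorphism of the model fixing the hyperoval pointwise is trivial. -/
theorem model_rigid (g : Equiv.Perm (Fin 21)) (hg : imgSys g P4.modelLines = P4.modelLines)
    (h6 : ∀ a : Fin 6, g (P4.ovalPt a) = P4.ovalPt a) : g = 1 := by
  have key : ∀ i : Fin 15, g (P4.synPt i) = P4.synPt i := by
    intro i
    have hno : ∀ a : Fin 6, g (P4.synPt i) ≠ P4.ovalPt a := fun a e => by
      rw [← h6 a] at e
      exact (by decide : ∀ (a : Fin 6) (i : Fin 15), P4.ovalPt a ≠ P4.synPt i) a i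
        (g.injective e).symm
    obtain ⟨j, hj⟩ : ∃ j : Fin 15, g (P4.synPt i) = P4.synPt j := by
      have hy : 6 ≤ (g (P4.synPt i) : ℕ) := by
        by_contra hlt
        exact hno ⟨_, not_le.1 hlt⟩ (Fin.ext rfl)
      refine ⟨⟨(g (P4.synPt i) : ℕ) - 6, by omega⟩, Fin.ext ?_⟩
      simp only [P4.synPt] at hy ⊢
      omega
    rw [hj, P4.syn_secant_inj i j fun a b hab => ?_]
    have hne : a ≠ b := fun e => (P4.syn_fpf i a).1 (hab.trans e.symm)
    have hs := P4.secant_mem_model a b hne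
    have hgs : (P4.secant a b).image g = P4.secant a b := by
      refine block_unique modelLines_steiner (hg ▸ image_mem_imgSys.2 hs) hs
        (s := {P4.ovalPt a, P4.ovalPt b})
        (card_pair fun e => hne (Fin.castLE_injective _ e)).ge ?_ ?_
      · simp only [insert_subset_iff, singleton_subset_iff]
        exact ⟨mem_image.2 ⟨_, by simp [P4.secant], h6 a⟩, mem_image.2 ⟨_, by simp [P4.secant], h6 b⟩⟩
      · simp [insert_subset_iff, P4.secant]
    have hmem : g (P4.synPt i) ∈ P4.secant a b := by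
      rw [← hgs]
      exact mem_image_of_mem _ (mem_union_right _ (mem_image_of_mem _ (by simp [hab])))
    rw [hj, P4.secant, mem_union] at hmem
    rcases hmem with h | h
    · simp only [mem_insert, mem_singleton] at h
      rcases h with h | h <;> exact absurd (hj.trans h) (hno _)
    · obtain ⟨k, hk, hkj⟩ := mem_image.1 h
      rw [mem_filter] at hk
      have : k = j := Fin.ext (by simpa [P4.synPt] using hkj)
      exact this ▸ hk.2
  refine Equiv.ext fun x => ?_
  rcases lt_or_ge (x : ℕ) 6 with h | h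
  · exact h6 ⟨x, h⟩
  · have : x = P4.synPt ⟨x - 6, by omega⟩ := Fin.ext (by simp only [P4.synPt]; omega)
    rw [this]
    exact key _

/-- The extension of a hyperoval labelling is unique. -/
theorem coord_unique {H : Finset α} (hH : IsHyperoval L H) (σ : ↥H ≃ Fin 6) {e f : α ≃ Fin 21}
    (he : imgSys e L = P4.modelLines) (heσ : ∀ h : ↥H, e h = P4.ovalPt (σ h))
    (hf : imgSys f L = P4.modelLines) (hfσ : ∀ h : ↥H, f h = P4.ovalPt (σ h)) : e = f := by
  have hrig := model_rigid (e.symm.trans f)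
    (by rw [imgSys_trans, imgSys_symm_eq he, hf]) (fun a => by
      obtain ⟨h, rfl⟩ := σ.surjective a
      rw [Equiv.trans_apply, ← heσ h, Equiv.symm_apply_apply, hfσ h, heσ h])
  refine Equiv.ext fun x => ?_
  have := congrArg (fun g : Equiv.Perm (Fin 21) => g (e x)) hrig
  simpa using this.symm

/-- A labelling of a hyperoval exists. -/
theorem exists_label_equiv {H : Finset α} (hH : IsHyperoval L H) : Nonempty (↥H ≃ Fin 6) :=
  ⟨H.equivFinOfCardEq hH.1⟩

/-- Any plane of order 4 is isomorphic to the model. -/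
theorem exists_model_iso : ∃ e : α ≃ Fin 21, imgSys e L = P4.modelLines := by
  obtain ⟨H, hH⟩ := exists_hyperoval hα hL
  obtain ⟨σ⟩ := exists_label_equiv hα hL hH
  obtain ⟨e, he, -⟩ := exists_coord hα hL hH σ
  exact ⟨e, he⟩

end Cfsg.Agent.H10
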