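import Mathlib

/-!
Simplicity of the Mathieu groups from their order and transitivity: groups of prime or twice prime
degree with a small Sylow normalizer, and the one-point extension step.
-/

set_option autoImplicit false
set_option linter.unusedSectionVars false
set_option linter.style.haveILetI false

open MulAction

namespace Cfsg.Agent.H10

variable {G X : Type*} [Group G] [MulAction G X]

/-- A nontrivial normal subgroup of a faithful quasiprimitive group is transitive. -/
theorem isPretransitive_of_normal_ne_bot [FaithfulSMul G X] [IsQuasiPreprimitive G X]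
    {N : Subgroup G} [N.Normal] (hN : N ≠ ⊥) : IsPretransitive N X := by
  refine IsQuasiPreprimitive.isPretransitive_of_normal (fun h => hN ?_)
  rw [Subgroup.eq_bot_iff_forall]
  intro n hn
  refine FaithfulSMul.eq_of_smul_eq_smul (α := X) fun x => ?_
  have hx : x ∈ fixedPoints N X := by rw [h]; trivial
  rw [one_smul]
  exact hx ⟨n, hn⟩

/-- A transitive group has order divisible by the degree. -/
theorem natCard_dvd_of_isPretransitive [IsPretransitive G X] [Nonempty X] :
    Nat.card X ∣ Nat.card G := by
  obtain ⟨x⟩ := ‹Nonempty X›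
  rw [← MulAction.index_stabilizer_of_transitive G x]
  exact Subgroup.index_dvd_card _

/-- One-point extension: a faithful 2-transitive group whose degree is no prime power and which has
a simple point stabiliser is simple. -/
theorem isSimpleGroup_of_stabilizer [Finite G] [Finite X] [FaithfulSMul G X]
    [IsMultiplyPretransitive G X 2] (hX : ¬ IsPrimePow (Nat.card X)) (hX1 : 1 < Nat.card X)
    (x : X) [IsSimpleGroup (stabilizer G x)] : IsSimpleGroup G := by
  classical
  haveI : IsPreprimitive G X := isPreprimitive_of_is_two_pretransitive inferInstance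
  haveI : Nontrivial X := Finite.one_lt_card_iff_nontrivial.1 hX1
  haveI : Nontrivial G := by
    obtain ⟨y, hy⟩ := exists_ne x
    obtain ⟨g, hg⟩ := exists_smul_eq G x y
    exact ⟨g, 1, fun h => hy (by rw [← hg, h, one_smul])⟩
  refine ⟨fun N hN => ?_⟩
  by_contra! hne
  haveI := hN
  haveI := isPretransitive_of_normal_ne_bot (X := X) hne.1
  rcases IsSimpleGroup.eq_bot_or_eq_top_of_normal (N.subgroupOf (stabilizer G x)) inferInstance with
    h | h
  · -- `N` is regular
    rw [Subgroup.subgroupOf_eq_bot, disjoint_iff] at h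
    have hfree : ∀ n : N, n • x = x → n = 1 := by
      intro n hn
      have hm : (n : G) ∈ N ⊓ stabilizer G x := ⟨n.2, hn⟩
      rw [h] at hm
      exact Subtype.ext hm
    have hbij : Function.Bijective (fun n : N => n • x) := by
      refine ⟨fun m n hmn => ?_, fun y => exists_smul_eq N x y⟩
      have : (n⁻¹ * m) • x = x := by rw [mul_smul]; simp only at hmn; rw [hmn, inv_smul_smul]
      exact (inv_mul_eq_one.1 (hfree _ this)).symm
    have hcard : Nat.card N = Nat.card X := Nat.card_eq_of_bijective _ hbij
    obtain ⟨n₀, hn₀⟩ : ∃ n : N, n ≠ 1 := by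
      obtain ⟨y, hy⟩ := exists_ne x
      obtain ⟨n, hn⟩ := exists_smul_eq N x y
      exact ⟨n, fun e => hy (by rw [← hn, e, one_smul])⟩
    have hsame : ∀ n : N, n ≠ 1 → orderOf n = orderOf n₀ := by
      intro n hn
      have hnx : n • x ≠ x := fun e => hn (hfree n e)
      have hn₀x : n₀ • x ≠ x := fun e => hn₀ (hfree n₀ e)
      obtain ⟨g, hgx, hg⟩ := (is_two_pretransitive_iff (G := G) (α := X)).1 inferInstance
        hn₀x.symm hnx.symm
      have hc : g * (n₀ : G) * g⁻¹ ∈ N := hN.conj_mem _ n₀.2 g
      have e : (⟨_, hc⟩ : N) = n := by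
        refine hbij.1 ?_
        show (g * (n₀ : G) * g⁻¹) • x = (n : G) • x
        rw [mul_smul, mul_smul, inv_smul_eq_iff.2 hgx.symm]
        exact hg
      have e1 : orderOf (g * (n₀ : G) * g⁻¹) = orderOf (n₀ : G) :=
        (MulAut.conj g).orderOf_eq (n₀ : G)
      rw [← e, ← Subgroup.orderOf_coe, ← Subgroup.orderOf_coe n₀, e1]
    set q := (orderOf n₀).minFac with hq
    have hq1 : orderOf n₀ ≠ 1 := fun e => hn₀ (orderOf_eq_one_iff.1 e)
    haveI : Fact q.Prime := ⟨Nat.minFac_prime hq1⟩
    have hqn : orderOf n₀ = q := by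
      have hpos : 0 < orderOf n₀ := orderOf_pos n₀
      obtain ⟨c, hc⟩ := Nat.minFac_dvd (orderOf n₀)
      rcases eq_or_ne c 1 with rfl | hc1
      · simpa using hc
      exfalso
      have hd : orderOf (n₀ ^ q) = c := by
        rw [orderOf_pow_of_dvd (Nat.minFac_pos _).ne' (Nat.minFac_dvd _)]
        exact Nat.div_eq_of_eq_mul_right (Nat.minFac_pos _) hc
      have hne1 : n₀ ^ q ≠ 1 := fun e => hc1 (by rw [← hd, e, orderOf_one])
      have := hsame _ hne1
      rw [hd, hc] at this
      have h1 : 1 < q := (Fact.out : q.Prime).one_lt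
      have h2 : 0 < c := Nat.pos_of_ne_zero fun e => by rw [e, mul_zero] at hc; omega
      rw [← hq] at this
      nlinarith
    have hp : IsPGroup q N := by
      intro n
      by_cases hn : n = 1
      · exact ⟨0, by simp [hn]⟩
      · exact ⟨1, by rw [pow_one, ← hqn, ← hsame n hn, pow_orderOf_eq_one]⟩
    obtain ⟨k, hk⟩ := IsPGroup.iff_card.1 hp
    rw [hcard] at hk
    rcases Nat.eq_zero_or_pos k with rfl | hk0
    · rw [hk] at hX1; simp at hX1
    · exact hX ⟨q, k, (Fact.out : q.Prime).prime, hk0, hk.symm⟩
  · refine hne.2 ?_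
    rw [Subgroup.subgroupOf_eq_top] at h
    rw [eq_top_iff]
    intro g _
    obtain ⟨n, hn⟩ := exists_smul_eq N x (g • x)
    have : (n : G)⁻¹ * g ∈ stabilizer G x := by
      rw [mem_stabilizer_iff, mul_smul, ← hn]; exact inv_smul_smul (n : G) x
    simpa using N.mul_mem n.2 (h this)

/-- A faithful quasiprimitive group of degree divisible by a prime `p` dividing the order once,
whose Sylow `p`-normalizer has order `p * d` with `d` prime, is simple unless of order `p * d`. -/
theorem isSimpleGroup_of_normalizer [Finite G] [Finite X] [Nonempty X] [FaithfulSMul G X]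
    [IsQuasiPreprimitive G X] {p d : ℕ} [Fact p.Prime] (hd : d.Prime)
    (hpX : p ∣ Nat.card X) (P : Sylow p G)
    (hP : Nat.card (P : Subgroup G) = p)
    (hNP : Nat.card (Subgroup.normalizer ((P : Subgroup G) : Set G)) = p * d)
    (hne : Nat.card G ≠ p * d) : IsSimpleGroup G := by
  classical
  have hp : p.Prime := Fact.out
  haveI : Nontrivial G := by
    rw [← Finite.one_lt_card_iff_nontrivial]
    have h : Nat.card (P : Subgroup G) ≤ Nat.card G := Subgroup.card_le_card_group _
    have := hp.one_lt
    omega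
  refine ⟨fun N hN => ?_⟩
  by_contra! hN'
  haveI := hN
  haveI := isPretransitive_of_normal_ne_bot (X := X) hN'.1
  have hpN : p ∣ Nat.card N := hpX.trans natCard_dvd_of_isPretransitive
  -- a Sylow subgroup of `N` is one of `G`, and all these lie in `N`
  have hPN : (P : Subgroup G) ≤ N := by
    obtain ⟨Q⟩ := (inferInstance : Nonempty (Sylow p N))
    have hQ : IsPGroup p ((Q : Subgroup N).map N.subtype) := Q.2.map _
    obtain ⟨R, hR⟩ := hQ.exists_le_sylow
    have hRP : Nat.card (R : Subgroup G) = p := by
      rw [R.card_eq_multiplicity, ← P.card_eq_multiplicity, hP]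
    have hQp : p ∣ Nat.card ((Q : Subgroup N).map N.subtype) := by
      rw [Subgroup.card_subtype]
      exact Q.dvd_card_of_dvd_card hpN
    have heq : (Q : Subgroup N).map N.subtype = R := by
      refine Subgroup.eq_of_le_of_card_ge hR ?_
      rw [hRP]; exact Nat.le_of_dvd Nat.card_pos hQp
    have hRN : (R : Subgroup G) ≤ N := heq ▸ Subgroup.map_subtype_le _
    obtain ⟨g, hg⟩ := exists_smul_eq G R P
    rw [← hg]
    intro y hy
    rw [Sylow.coe_subgroup_smul, Subgroup.mem_pointwise_smul_iff_inv_smul_mem] at hy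
    have := hN.conj_mem _ (hRN hy) g
    simpa [mul_assoc] using this
  set N₀ := Subgroup.normalizer ((P : Subgroup G) : Set G) with hN₀
  have hPN₀ : (P : Subgroup G) ≤ N ⊓ N₀ := le_inf hPN Subgroup.le_normalizer
  have h1 : p ∣ Nat.card (N ⊓ N₀ : Subgroup G) := hP ▸ Subgroup.card_dvd_of_le hPN₀
  have h2 : Nat.card (N ⊓ N₀ : Subgroup G) ∣ p * d := hNP ▸ Subgroup.card_dvd_of_le inf_le_right
  have hsup : N₀ ⊔ N = ⊤ := P.normalizer_sup_eq_top' hPN
  obtain ⟨c, hc⟩ := h1
  rw [hc, Nat.mul_dvd_mul_iff_left hp.pos, Nat.dvd_prime hd] at h2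
  rcases h2 with rfl | rfl
  swap
  · refine hN'.2 ?_
    have : N₀ ≤ N := by
      have e := Subgroup.eq_of_le_of_card_ge (inf_le_right : N ⊓ N₀ ≤ N₀) (by rw [hc, hNP])
      rw [← e]; exact inf_le_left
    rwa [sup_eq_right.2 this] at hsup
  rw [mul_one] at hc
  -- the Sylow subgroup is self-normalizing in `N`, so `N` has a normal complement
  have hPeq : (P : Subgroup G) = N ⊓ N₀ := Subgroup.eq_of_le_of_card_ge hPN₀ (by rw [hc, hP])
  let P' : Sylow p N := P.subtype hPN
  have hP' : Nat.card (P' : Subgroup N) = p := by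
    rw [Sylow.coe_subtype]
    rw [Nat.card_congr (Subgroup.subgroupOfEquivOfLe hPN).toEquiv, hP]
  haveI : IsCyclic (P' : Subgroup N) := isCyclic_of_prime_card hP'
  have hle : Subgroup.normalizer ((P' : Subgroup N) : Set N)
      ≤ Subgroup.centralizer (P' : Set N) := by
    intro n hn
    have hn' : n ∈ (P' : Subgroup N) := by
      rw [Sylow.coe_subtype, Subgroup.mem_subgroupOf, hPeq]
      refine ⟨n.2, ?_⟩
      show (n : G) ∈ N₀
      rw [hN₀, Subgroup.mem_normalizer_iff]
      intro y
      rw [Subgroup.mem_normalizer_iff] at hn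
      constructor
      · intro hy
        have := (hn ⟨y, hPN hy⟩).1 (by simpa [P', Subgroup.mem_subgroupOf] using hy)
        simpa [P', Subgroup.mem_subgroupOf] using this
      · intro hy
        have hyN : y ∈ N := by
          have := N.mul_mem (N.mul_mem (N.inv_mem n.2) (hPN hy)) n.2
          simpa [mul_assoc] using this
        exact by simpa [P', Subgroup.mem_subgroupOf] using
          (hn ⟨y, hyN⟩).2 (by simpa [P', Subgroup.mem_subgroupOf] using hy)
    rw [Subgroup.mem_centralizer_iff]
    intro m hm
    letI := IsCyclic.commGroup (α := (P' : Subgroup N))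
    exact congrArg Subtype.val (mul_comm (⟨m, hm⟩ : (P' : Subgroup N)) ⟨n, hn'⟩)
  set K := (MonoidHom.transferSylow P' hle).ker with hK
  have hcompl := MonoidHom.ker_transferSylow_isComplement' P' hle
  have hKp : ¬ p ∣ Nat.card K := MonoidHom.not_dvd_card_ker_transferSylow P' hle
  haveI : K.Normal := MonoidHom.normal_ker _
  have hchar : K.Characteristic := by
    rw [Subgroup.characteristic_iff_map_eq]
    intro φ
    refine Subgroup.eq_of_le_of_card_ge ?_
      (Nat.card_congr (Subgroup.equivMapOfInjective K φ.toMonoidHom φ.injective).toEquiv).le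
    intro y hy
    obtain ⟨z, hz, rfl⟩ := Subgroup.mem_map.1 hy
    rw [hK, MonoidHom.mem_ker]
    by_contra hne1
    have ho : orderOf (φ z) ∣ Nat.card K := by
      rw [φ.orderOf_eq z, ← Subgroup.orderOf_mk z hz]; exact orderOf_dvd_natCard _
    have ho' : orderOf (MonoidHom.transferSylow P' hle (φ z)) ∣ Nat.card K :=
      (orderOf_map_dvd _ _).trans ho
    have ho'' : orderOf (MonoidHom.transferSylow P' hle (φ z)) ∣ p := (orderOf_dvd_natCard _).trans (dvd_of_eq hP')
    rcases (Nat.dvd_prime hp).1 ho'' with e | e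
    · exact hne1 (orderOf_eq_one_iff.1 e)
    · exact hKp (e ▸ ho')
  haveI := hchar
  haveI : (K.map N.subtype).Normal := inferInstance
  have hKne : K.map N.subtype ≠ ⊥ := by
    intro e
    have hcard := hcompl.card_mul_card
    have hK1 : Nat.card K = 1 := by
      rw [← Subgroup.card_subtype N K, e, Subgroup.card_bot]
    rw [hK1, hP', one_mul] at hcard
    -- `N` is then `P`, normal in `G`, and `G` is its normalizer
    have hNP' : N = (P : Subgroup G) :=
      (Subgroup.eq_of_le_of_card_ge hPN (by rw [hP, ← hcard])).symm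
    have : N₀ = ⊤ := by
      rw [sup_eq_left.2] at hsup
      · exact hsup
      · rw [hN₀, hNP']; exact Subgroup.le_normalizer
    rw [this, Subgroup.card_top] at hNP
    exact hne hNP
  haveI := isPretransitive_of_normal_ne_bot (X := X) hKne
  have h3 : p ∣ Nat.card (K.map N.subtype) := hpX.trans natCard_dvd_of_isPretransitive
  rw [Subgroup.card_subtype] at h3
  exact hKp h3

end Cfsg.Agent.H10
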