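import Cfsg.Agent.H10.SrgWitt
import Cfsg.Agent.H10.Ext4Unique

/-!
A strongly regular graph with parameters (100, 22, 0, 6) is the point-block graph of an S(3,6,22).
-/

set_option autoImplicit false
set_option linter.unusedSectionVars false

open Finset

namespace Cfsg.Agent.H10

variable {V : Type*} [Fintype V] [DecidableEq V] {G : SimpleGraph V} [DecidableRel G.Adj]

/-- The common neighbours in an SRG, as an intersection of neighbour finsets. -/
theorem srg_inter {n k l m : ℕ} (hG : G.IsSRGWith n k l m) {x y : V} (h : x ≠ y) :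
    (G.neighborFinset x ∩ G.neighborFinset y).card = if G.Adj x y then l else m := by
  have e : (G.neighborFinset x ∩ G.neighborFinset y).card
      = Fintype.card (G.commonNeighbors x y) := by
    rw [Fintype.card_subtype]
    congr 1
    ext z
    simp [SimpleGraph.mem_commonNeighbors]
  rw [e]
  split_ifs with ha
  · exact hG.of_adj x y ha
  · exact hG.of_not_adj h ha

/-- A graph with these parameters comes from an S(3,6,22). -/
theorem srg100_structure (hG : G.IsSRGWith 100 22 0 6) (v : V) :
    ∃ B : Set (Finset {a : V // a ∈ G.neighborFinset v}),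
      Fintype.card {a : V // a ∈ G.neighborFinset v} = 22 ∧ Cfsg.IsSteinerSystem 3 6 B ∧
        Nonempty (Cfsg.pointBlockGraph B ≃g G) := by
  classical
  set N := G.neighborFinset v with hN
  have hNc : N.card = 22 := by rw [hN, SimpleGraph.card_neighborFinset_eq_degree]; exact hG.regular v
  have hα : Fintype.card {a : V // a ∈ N} = 22 := by rw [Fintype.card_coe, hNc]
  have hmN : ∀ a, a ∈ N ↔ G.Adj v a := fun a => SimpleGraph.mem_neighborFinset _ _ _
  set M := univ.filter (fun x : V => x ≠ v ∧ ¬ G.Adj v x) with hM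
  have hmM : ∀ x, x ∈ M ↔ x ≠ v ∧ ¬ G.Adj v x := fun x => by simp [hM]
  have hMc : M.card = 77 := by
    have e : M = (insert v N)ᶜ := by ext x; simp [hmM, hmN]
    rw [e, card_compl, card_insert_of_notMem (by simp [hmN]), hNc, hG.card]
  -- no triangles
  have tri : ∀ a b c, G.Adj a b → G.Adj a c → ¬ G.Adj b c := by
    intro a b c hab hac hbc
    have h := srg_inter hG hbc.ne
    rw [if_pos hbc, card_eq_zero] at h
    have hm : a ∈ G.neighborFinset b ∩ G.neighborFinset c := by simp [hab.symm, hac.symm]
    rw [h] at hm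
    simp at hm
  let S : V → Finset {a : V // a ∈ N} := fun x => univ.filter fun a => G.Adj x a
  have hS6 : ∀ x ∈ M, (S x).card = 6 := by
    intro x hx
    rw [hmM] at hx
    have h := srg_inter hG hx.1.symm
    rw [if_neg hx.2] at h
    rw [← card_map (Function.Embedding.subtype _), ← h]
    congr 1
    ext a
    simp [S, hN, and_comm]
  have haM : ∀ a : {a : V // a ∈ N}, (M.filter (fun y => G.Adj y a)).card = 21 := by
    intro a
    have e : M.filter (fun y => G.Adj y a) = (G.neighborFinset a).erase v := by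
      ext y
      simp only [mem_filter, hmM, mem_erase, SimpleGraph.mem_neighborFinset]
      exact ⟨fun h => ⟨h.1.1, h.2.symm⟩, fun h =>
        ⟨⟨h.1, fun hvy => tri v a y ((hmN a).1 a.2) hvy h.2⟩, h.2.symm⟩⟩
    rw [e, card_erase_of_mem (by simp [((hmN a).1 a.2).symm]),
      SimpleGraph.card_neighborFinset_eq_degree, hG.regular]
  have habM : ∀ a b : {a : V // a ∈ N}, a ≠ b →
      (M.filter (fun y => G.Adj y a ∧ G.Adj y b)).card = 5 := by
    intro a b hab
    have hab' : (a : V) ≠ b := fun e => hab (Subtype.ext e)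
    have h := srg_inter hG hab'
    rw [if_neg (tri v a b ((hmN a).1 a.2) ((hmN b).1 b.2))] at h
    have e : M.filter (fun y => G.Adj y a ∧ G.Adj y b)
        = (G.neighborFinset a ∩ G.neighborFinset b).erase v := by
      ext y
      simp only [mem_filter, hmM, mem_erase, mem_inter, SimpleGraph.mem_neighborFinset]
      exact ⟨fun h => ⟨h.1.1, h.2.1.symm, h.2.2.symm⟩, fun h =>
        ⟨⟨h.1, fun hvy => tri v a y ((hmN a).1 a.2) hvy h.2.1⟩, h.2.1.symm, h.2.2.symm⟩⟩
    rw [e, card_erase_of_mem (by simp [((hmN a).1 a.2).symm, ((hmN b).1 b.2).symm]), h]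
  have hadj0 : ∀ x y, G.Adj x y → S x ∩ S y = ∅ := by
    intro x y hxy
    rw [eq_empty_iff_forall_notMem]
    intro a ha
    simp only [S, mem_inter, mem_filter, mem_univ, true_and] at ha
    exact tri x y a hxy ha.1 ha.2
  -- two blocks of non-adjacent vertices meet in exactly two points
  have hinter : ∀ x ∈ M, ∀ y ∈ M, x ≠ y → ¬ G.Adj x y → (S x ∩ S y).card = 2 := by
    intro x hx y hy hxy hnadj
    have hi : ∀ z, (S x ∩ S z).card = ∑ a ∈ S x, if G.Adj z a then 1 else 0 := by
      intro z
      rw [← card_filter]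
      congr 1
      ext a
      simp [S]
    have h1 : ∑ z ∈ M.erase x, (S x ∩ S z).card = 120 := by
      simp only [hi]
      rw [sum_comm, sum_congr rfl (g := fun _ => 20) (fun a ha => ?_), sum_const, hS6 x hx,
        smul_eq_mul]
      rw [← card_filter, filter_erase, card_erase_of_mem ?_, haM]
      simp only [S, mem_filter, mem_univ, true_and] at ha
      simp [hx, ha]
    have h2 : ∑ z ∈ M.erase x, (S x ∩ S z).card * (S x ∩ S z).card = 240 := by
      simp only [hi, sum_mul_sum]
      rw [sum_comm, sum_congr rfl (g := fun _ => 40) (fun a ha => ?_), sum_const, hS6 x hx,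
        smul_eq_mul]
      rw [sum_comm, sum_congr rfl (g := fun b => 4 + if a = b then 16 else 0) (fun b hb => ?_),
        sum_add_distrib, sum_const, hS6 x hx, smul_eq_mul, sum_ite_eq, if_pos ha]
      simp only [S, mem_filter, mem_univ, true_and] at ha hb
      have e : ∑ z ∈ M.erase x, ((if G.Adj z a then 1 else 0) * if G.Adj z b then 1 else 0)
          = (M.filter (fun z => G.Adj z a ∧ G.Adj z b)).card - 1 := by
        have e0 : (M.filter (fun z => G.Adj z a ∧ G.Adj z b)).erase x
            = (M.erase x).filter (fun z => G.Adj z a ∧ G.Adj z b) := by ext z; simp; tauto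
        rw [← card_erase_of_mem (a := x) (by simp [hx, ha, hb]), e0, card_filter]
        refine sum_congr rfl fun z _ => ?_
        by_cases h : G.Adj z a <;> simp [h]
      rw [e]
      by_cases hab : a = b
      · subst hab
        simp only [and_self, if_true]
        rw [haM]
      · rw [habM a b hab, if_neg hab]
    set P := (M.erase x).filter (fun z => ¬ G.Adj x z) with hP
    have hA : ((M.erase x).filter (fun z => G.Adj x z)).card = 16 := by
      have e : (M.erase x).filter (fun z => G.Adj x z) = G.neighborFinset x \ N := by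
        ext z
        simp only [mem_filter, mem_erase, hmM, mem_sdiff, SimpleGraph.mem_neighborFinset, hmN]
        exact ⟨fun h => ⟨h.2, h.1.2.2⟩, fun h => ⟨⟨h.1.ne.symm, fun e : z = v =>
          ((hmM x).1 hx).2 (e ▸ h.1).symm, h.2⟩, h.1⟩⟩
      have h6 := srg_inter hG ((hmM x).1 hx).1.symm
      rw [if_neg ((hmM x).1 hx).2, inter_comm] at h6
      have := card_inter_add_card_sdiff (G.neighborFinset x) N
      rw [SimpleGraph.card_neighborFinset_eq_degree, hG.regular] at this
      rw [hN] at this e
      rw [e]; omega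
    have hPc : P.card = 60 := by
      have := card_filter_add_card_filter_not (s := M.erase x) (p := fun z => G.Adj x z)
      rw [hA, card_erase_of_mem hx, hMc] at this
      rw [hP]; omega
    have hzero : ∀ f : ℕ → ℕ, f 0 = 0 →
        ∑ z ∈ M.erase x, f (S x ∩ S z).card = ∑ z ∈ P, f (S x ∩ S z).card := by
      intro f hf
      refine (sum_subset (filter_subset _ _) fun z hz hzP => ?_).symm
      have hxz : G.Adj x z := by
        by_contra h
        exact hzP (mem_filter.2 ⟨hz, h⟩)
      rw [hadj0 x z hxz, card_empty, hf]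
    rw [hzero (fun i => i) rfl] at h1
    rw [hzero (fun i => i * i) rfl] at h2
    have hle : ∀ z ∈ P, 4 * (S x ∩ S z).card ≤ (S x ∩ S z).card * (S x ∩ S z).card + 4 :=
      fun z _ => by nlinarith [sq_nonneg (((S x ∩ S z).card : ℤ) - 2)]
    have heq := (sum_eq_sum_iff_of_le hle).1 (by
      rw [← mul_sum, h1, sum_add_distrib, h2, sum_const, hPc, smul_eq_mul]; norm_num)
    have hyP : y ∈ P := by simp [hP, hxy.symm, hy, hnadj]
    have := heq y hyP
    nlinarith [sq_nonneg (((S x ∩ S y).card : ℤ) - 2)]
  have hinj : Set.InjOn S M := by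
    intro x hx y hy h
    by_contra hne
    have h6 := hS6 x hx
    by_cases ha : G.Adj x y
    · have := hadj0 x y ha
      rw [← h, inter_self] at this
      rw [this] at h6; simp at h6
    · have := hinter x hx y hy hne ha
      rw [← h, inter_self, h6] at this
      omega
  set B : Set (Finset {a : V // a ∈ N}) := ↑(M.image S) with hBdef
  have hmemB : ∀ b, b ∈ B ↔ ∃ x ∈ M, S x = b := fun b => by simp [hBdef]
  have huniq : ∀ s : Finset {a : V // a ∈ N}, s.card = 3 →
      ∀ x ∈ M, ∀ y ∈ M, s ⊆ S x → s ⊆ S y → x = y := by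
    intro s hs x hx y hy hsx hsy
    by_contra hne
    have h3 := card_le_card (subset_inter hsx hsy)
    by_cases ha : G.Adj x y
    · rw [hadj0 x y ha, card_empty, hs] at h3; omega
    · rw [hinter x hx y hy hne ha, hs] at h3; omega
  have hB : Cfsg.IsSteinerSystem 3 6 B := by
    refine ⟨fun b hb => ?_, fun s hs => ?_⟩
    · obtain ⟨x, hx, rfl⟩ := (hmemB b).1 hb
      exact hS6 x hx
    · have hcov : M.biUnion (fun x => (S x).powersetCard 3) = univ.powersetCard 3 := by
        refine eq_of_subset_of_card_le (fun t ht => ?_) ?_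
        · obtain ⟨x, -, hxt⟩ := mem_biUnion.1 ht
          rw [mem_powersetCard] at hxt ⊢
          exact ⟨subset_univ _, hxt.2⟩
        · rw [card_biUnion, sum_congr rfl (g := fun _ => 20) (fun x hx => by
            rw [card_powersetCard, hS6 x hx]; rfl), sum_const, hMc, card_powersetCard, card_univ,
            hα]
          · decide
          · intro x hx y hy hxy
            rw [Function.onFun, disjoint_left]
            intro t ht1 ht2
            rw [mem_powersetCard] at ht1 ht2
            exact hxy (huniq t ht1.2 x hx y hy ht1.1 ht2.1)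
      have hsm : s ∈ M.biUnion (fun x => (S x).powersetCard 3) := by
        rw [hcov, mem_powersetCard]; exact ⟨subset_univ _, hs⟩
      obtain ⟨x, hx, hxs⟩ := mem_biUnion.1 hsm
      rw [mem_powersetCard] at hxs
      refine ⟨S x, ⟨(hmemB _).2 ⟨x, hx, rfl⟩, hxs.1⟩, ?_⟩
      rintro b ⟨hb, hsb⟩
      obtain ⟨y, hy, rfl⟩ := (hmemB b).1 hb
      rw [huniq s hs x hx y hy hxs.1 hsb]
  refine ⟨B, hα, hB, ?_⟩
  choose f hfM hfS using fun b : B => (hmemB b.1).1 b.2
  let φ : Option ({a : V // a ∈ N} ⊕ B) → V
    | none => v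
    | some (.inl a) => a
    | some (.inr b) => f b
  have hφinj : Function.Injective φ := by
    have h1 : ∀ a : {a : V // a ∈ N}, v ≠ a := fun a => ((hmN a).1 a.2).ne
    have h2 : ∀ b, v ≠ f b := fun b => ((hmM _).1 (hfM b)).1.symm
    have h3 : ∀ (a : {a : V // a ∈ N}) b, (a : V) ≠ f b := fun a b e =>
      ((hmM _).1 (hfM b)).2 (e ▸ (hmN a).1 a.2)
    rintro (_ | a | b) (_ | a' | b') h
    all_goals simp only [φ] at h
    · rfl
    · exact absurd h (h1 a')
    · exact absurd h (h2 b')
    · exact absurd h.symm (h1 a)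
    · rw [Subtype.ext h]
    · exact absurd h (h3 a b')
    · exact absurd h.symm (h2 b)
    · exact absurd h.symm (h3 a' b)
    · have : b = b' := Subtype.ext (by rw [← hfS b, ← hfS b', h])
      rw [this]
  have hBc : Fintype.card B = 77 := by
    rw [← hMc, ← card_image_of_injOn hinj, ← Set.ncard_coe_finset, ← Nat.card_coe_set_eq,
      Nat.card_eq_fintype_card]
  let e : Option ({a : V // a ∈ N} ⊕ B) ≃ V := Equiv.ofBijective φ
    ((Fintype.bijective_iff_injective_and_card φ).2
      ⟨hφinj, by rw [Fintype.card_option, Fintype.card_sum, hα, hBc, hG.card]⟩)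
  have hab : ∀ (a : {a : V // a ∈ N}) (b : B), G.Adj (f b) a ↔ a ∈ (b : Finset _) := by
    intro a b
    rw [← hfS b]
    simp [S]
  have hbb : ∀ b c : B, G.Adj (f b) (f c) ↔ b ≠ c ∧ Disjoint (b : Finset {a : V // a ∈ N}) (c : Finset {a : V // a ∈ N}) := by
    intro b c
    rw [← hfS b, ← hfS c, disjoint_iff_inter_eq_empty]
    constructor
    · exact fun h => ⟨fun e => h.ne (congrArg f e), hadj0 _ _ h⟩
    · rintro ⟨hne, h⟩
      by_contra hn
      have := hinter _ (hfM b) _ (hfM c) (fun e => hne (Subtype.ext (by rw [← hfS b, ← hfS c, e]))) hn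
      rw [h, card_empty] at this
      omega
  refine ⟨⟨e, fun {x y} => ?_⟩⟩
  show G.Adj (φ x) (φ y) ↔ _
  rw [pointBlockGraph_adj]
  rcases x with _ | a | b <;> rcases y with _ | a' | c <;> simp only [φ, Cfsg.pointBlockRel]
  · simp
  · simp [(hmN a').1 a'.2]
  · simp [((hmM _).1 (hfM c)).2]
  · simp [((hmN a).1 a.2).symm]
  · simp [tri v a a' ((hmN a).1 a.2) ((hmN a').1 a'.2)]
  · simp [G.adj_comm (a : V), hab]
  · simp [G.adj_comm (f b), ((hmM _).1 (hfM b)).2]
  · simp [hab]
  · rw [hbb]
    simp [disjoint_comm (a := (c : Finset {a : V // a ∈ N}))]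

/-- Uniqueness of the Higman–Sims graph. -/
theorem srg100_iso {W : Type*} [Fintype W] [DecidableEq W] {H : SimpleGraph W}
    [DecidableRel H.Adj] (hG : G.IsSRGWith 100 22 0 6) (hH : H.IsSRGWith 100 22 0 6) :
    Nonempty (G ≃g H) := by
  obtain ⟨v⟩ : Nonempty V := Fintype.card_pos_iff.1 (by rw [hG.card]; norm_num)
  obtain ⟨w⟩ : Nonempty W := Fintype.card_pos_iff.1 (by rw [hH.card]; norm_num)
  obtain ⟨B, hα, hB, ⟨i₁⟩⟩ := srg100_structure hG v
  obtain ⟨B', hβ, hB', ⟨i₂⟩⟩ := srg100_structure hH w
  obtain ⟨j⟩ := pointBlockGraph_iso (ext_iso (m := 1) le_rfl (by norm_num) hα hβ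
    (isExt_of_22 hα hB) (isExt_of_22 hβ hB'))
  exact ⟨(i₁.symm.trans j).trans i₂⟩

end Cfsg.Agent.H10
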