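import Cfsg.Agent.H10.SteinerParams
import Cfsg.Agent.H10.SteinerIso

/-!
The block graph and the point-block graph of an S(3,6,22): counts and isomorphism invariance.
-/

set_option autoImplicit false
set_option linter.unusedSectionVars false

open Finset

namespace Cfsg.Agent.H10

variable {α : Type*} [DecidableEq α]

/-- Double counting of pairs in two traces. -/
theorem sum_inter_mul (F : Finset (Finset α)) (b c : Finset α) :
    ∑ d ∈ F, (d ∩ b).card * (d ∩ c).card
      = ∑ p ∈ b, ∑ q ∈ c, (F.filter (fun d => {p, q} ⊆ d)).card := by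
  have e : ∀ d : Finset α, (d ∩ b).card * (d ∩ c).card
      = ∑ p ∈ b, ∑ q ∈ c, if {p, q} ⊆ d then 1 else 0 := by
    intro d
    rw [inter_comm d b, inter_comm d c, ← filter_mem_eq_inter, ← filter_mem_eq_inter,
      card_filter, card_filter, sum_mul_sum]
    refine sum_congr rfl fun p _ => sum_congr rfl fun q _ => ?_
    by_cases hp : p ∈ d <;> by_cases hq : q ∈ d <;> simp [insert_subset_iff, hp, hq]
  simp only [e, card_filter]
  rw [sum_comm]
  exact sum_congr rfl fun p _ => sum_comm

variable [Fintype α] {B : Set (Finset α)}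

section Counts
variable (hα : Fintype.card α = 22) (hB : Cfsg.IsSteinerSystem 3 6 B)
include hα hB

/-- An S(3,6,22) has 77 blocks. -/
theorem s22_card_blocks : (blocks B).card = 77 := by
  simpa [lam22] using s22_lam hα hB (Y := ∅) (Or.inr (by simp)) ∅ subset_rfl

/-- A block is disjoint from 16 blocks. -/
theorem s22_disjoint_count {b : Finset α} (hb : b ∈ B) :
    ((blocks B).filter (fun d => Disjoint d b)).card = 16 := by
  rw [show (16 : ℕ) = mu22 (∅ : Finset α).card from rfl,
    ← s22_mu hα hB hb (Finset.empty_subset b)]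
  exact congrArg card (filter_congr fun d _ => disjoint_iff_inter_eq_empty)

/-- Twenty-one blocks pass through a point, five through two points. -/
theorem s22_through (p q : α) :
    ((blocks B).filter (fun d => {p, q} ⊆ d)).card = if p = q then 21 else 5 := by
  have h : ({p, q} : Finset α).card ≤ 3 := card_le_two.trans (by norm_num)
  rw [s22_lam hα hB (Y := {p, q}) (Or.inr h) _ subset_rfl]
  by_cases e : p = q
  · subst e; simp [lam22]
  · rw [card_pair e, if_neg e]; rfl

/-- The number of blocks disjoint from two given distinct blocks: none if they are disjoint, four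
otherwise. -/
theorem s22_disjoint_both {b c : Finset α} (hb : b ∈ B) (hc : c ∈ B) (hbc : b ≠ c) :
    ((blocks B).filter (fun d => Disjoint d b ∧ Disjoint d c)).card = 2 * (b ∩ c).card := by
  set i := (b ∩ c).card with hi
  have hsum : ∑ d ∈ blocks B, (d ∩ b).card * (d ∩ c).card = 180 + 16 * i := by
    rw [sum_inter_mul]
    have e : ∀ p ∈ b, ∑ q ∈ c, ((blocks B).filter (fun d => {p, q} ⊆ d)).card
        = 30 + 16 * if p ∈ c then 1 else 0 := by
      intro p _
      rw [sum_congr rfl (g := fun q => 5 + if p = q then 16 else 0) (fun q _ => by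
        rw [s22_through hα hB]; split_ifs <;> rfl), sum_add_distrib, sum_const, smul_eq_mul,
        hB.1 c hc, sum_ite_eq]
      split_ifs <;> rfl
    rw [sum_congr rfl e, sum_add_distrib, sum_const, smul_eq_mul, hB.1 b hb, ← mul_sum,
      ← card_filter, filter_mem_eq_inter]
  have hterm : ∀ d ∈ blocks B, d ≠ b → d ≠ c → (d ∩ b).card * (d ∩ c).card
      = 4 * if ¬ Disjoint d b ∧ ¬ Disjoint d c then 1 else 0 := by
    intro d hd hdb hdc
    rw [mem_blocks] at hd
    have hz : ∀ e : Finset α, (d ∩ e).card = 0 ↔ Disjoint d e := fun e => by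
      rw [card_eq_zero, disjoint_iff_inter_eq_empty]
    rcases s22_inter hα hB hd hb hdb with e1 | e1 <;> rcases s22_inter hα hB hd hc hdc with e2 | e2 <;>
      simp [e1, e2, ← hz]
  have hic : i = 0 ∨ i = 2 := s22_inter hα hB hb hc hbc
  set N := ((blocks B).filter (fun d => ¬ Disjoint d b ∧ ¬ Disjoint d c)).card with hN
  have hbb : ¬ Disjoint b b := by
    rw [disjoint_self, bot_eq_empty, ← card_eq_zero, hB.1 b hb]; norm_num
  have hcc : ¬ Disjoint c c := by
    rw [disjoint_self, bot_eq_empty, ← card_eq_zero, hB.1 c hc]; norm_num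
  have hbC : Disjoint b c ↔ i = 0 := by rw [hi, card_eq_zero, disjoint_iff_inter_eq_empty]
  have hNval : N = 45 + 2 * i := by
    have h1 := sum_erase_add (f := fun d => (d ∩ b).card * (d ∩ c).card) (blocks B) (mem_blocks.2 hb)
    have hcm : c ∈ (blocks B).erase b := by simp [hbc.symm, hc]
    have h2 := sum_erase_add (f := fun d => (d ∩ b).card * (d ∩ c).card) _ hcm
    have h3 := sum_erase_add (f := fun d => if ¬ Disjoint d b ∧ ¬ Disjoint d c then 1 else 0)
      (blocks B) (mem_blocks.2 hb)
    have h4 := sum_erase_add (f := fun d => if ¬ Disjoint d b ∧ ¬ Disjoint d c then 1 else 0) _ hcm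
    rw [sum_congr rfl (g := fun d => 4 * if ¬ Disjoint d b ∧ ¬ Disjoint d c then 1 else 0)
      (fun d hd => by
        simp only [mem_erase] at hd
        exact hterm d hd.2.2 hd.2.1 hd.1), ← mul_sum] at h2
    rw [← show N = ∑ d ∈ blocks B, if ¬ Disjoint d b ∧ ¬ Disjoint d c then 1 else 0 from
      card_filter _ _] at h3
    simp only [inter_self, inter_comm c b, hB.1 b hb, hB.1 c hc, ← hi] at h1 h2
    simp only [hbb, hcc, hbC, disjoint_comm (a := c) (b := b), not_false_eq_true, and_true,
      true_and] at h3 h4
    rw [hsum] at h1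
    rcases hic with e | e <;> simp [e] at h1 h2 h3 h4 <;> omega
  have hbn := card_filter_add_card_filter_not (s := blocks B) (p := fun d => Disjoint d b)
  rw [s22_disjoint_count hα hB hb, s22_card_blocks hα hB] at hbn
  have hsplit := card_filter_add_card_filter_not (s := (blocks B).filter (fun d => ¬ Disjoint d b))
    (p := fun d => Disjoint d c)
  rw [filter_filter, filter_filter, ← hN] at hsplit
  have hsplit2 := card_filter_add_card_filter_not (s := (blocks B).filter (fun d => Disjoint d c))
    (p := fun d => Disjoint d b)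
  rw [filter_filter, filter_filter, s22_disjoint_count hα hB hc] at hsplit2
  have e1 : ((blocks B).filter (fun d => ¬ Disjoint d b ∧ Disjoint d c))
      = (blocks B).filter (fun d => Disjoint d c ∧ ¬ Disjoint d b) :=
    filter_congr fun d _ => and_comm
  have e2 : ((blocks B).filter (fun d => Disjoint d b ∧ Disjoint d c))
      = (blocks B).filter (fun d => Disjoint d c ∧ Disjoint d b) :=
    filter_congr fun d _ => and_comm
  rw [e1] at hsplit
  rw [e2]
  omega

/-- Six blocks through a point outside a block miss it. -/
theorem s22_point_disjoint {a : α} {b : Finset α} (hb : b ∈ B) (ha : a ∉ b) :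
    ((blocks B).filter (fun d => a ∈ d ∧ Disjoint d b)).card = 6 := by
  have h21 : ((blocks B).filter (fun d => a ∈ d)).card = 21 := by
    have := s22_through hα hB a a
    simpa using this
  have hsum : ∑ d ∈ (blocks B).filter (fun d => a ∈ d), (d ∩ b).card = 30 := by
    simp only [inter_comm _ b, ← filter_mem_eq_inter, card_filter]
    rw [sum_comm, sum_congr rfl (g := fun _ => 5) (fun q hq => ?_), sum_const, smul_eq_mul, hB.1 b hb]
    rw [← card_filter, filter_filter]
    have := s22_through hα hB a q
    rw [if_neg (fun e : a = q => ha (e ▸ hq))] at this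
    rw [← this]
    exact congrArg card (filter_congr fun d _ => by simp [insert_subset_iff])
  have hterm : ∀ d ∈ (blocks B).filter (fun d => a ∈ d),
      (d ∩ b).card = 2 * if ¬ Disjoint d b then 1 else 0 := by
    intro d hd
    simp only [mem_filter, mem_blocks] at hd
    have hz : (d ∩ b).card = 0 ↔ Disjoint d b := by
      rw [card_eq_zero, disjoint_iff_inter_eq_empty]
    rcases s22_inter hα hB hd.1 hb (fun e : d = b => ha (e ▸ hd.2)) with e | e <;> simp [e, ← hz]
  rw [sum_congr rfl hterm, ← mul_sum, ← card_filter] at hsum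
  have hsplit := card_filter_add_card_filter_not (s := (blocks B).filter (fun d => a ∈ d))
    (p := fun d => Disjoint d b)
  rw [filter_filter, h21] at hsplit
  omega

end Counts

omit [Fintype α] in
/-- Adjacency in the block graph. -/
theorem blockGraph_adj {b c : B} :
    (Cfsg.blockGraph B).Adj b c ↔ b ≠ c ∧ Disjoint (b : Finset α) c := by
  simp [Cfsg.blockGraph, SimpleGraph.fromRel_adj, disjoint_comm]

omit [Fintype α] in
/-- Adjacency in the point-block graph. -/
theorem pointBlockGraph_adj {v w : Option (α ⊕ B)} :
    (Cfsg.pointBlockGraph B).Adj v w ↔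
      v ≠ w ∧ (Cfsg.pointBlockRel B v w ∨ Cfsg.pointBlockRel B w v) := by
  simp [Cfsg.pointBlockGraph, SimpleGraph.fromRel_adj]

/-- Counting in a finite subtype of blocks through `blocks B`. -/
theorem card_filter_subtype [Fintype B] (p : Finset α → Prop) [DecidablePred p] :
    (univ.filter fun b : B => p b).card = ((blocks B).filter p).card := by
  rw [← card_map (Function.Embedding.subtype _)]
  congr 1
  ext b
  simp
  tauto

/-- Isomorphic set systems have isomorphic point-block graphs. -/
theorem pointBlockGraph_iso {β : Type*} [DecidableEq β] [Fintype β] {B' : Set (Finset β)}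
    (h : Cfsg.SetSystemIso B B') :
    Nonempty (Cfsg.pointBlockGraph B ≃g Cfsg.pointBlockGraph B') := by
  obtain ⟨e, he⟩ := setSystemIso_iff.1 h
  let f : B ≃ B' :=
    { toFun := fun b => ⟨b.1.image e, he ▸ image_mem_imgSys.2 b.2⟩
      invFun := fun b => ⟨b.1.image e.symm, mem_imgSys.1 (he.symm ▸ b.2)⟩
      left_inv := fun b => Subtype.ext (by simp [image_image])
      right_inv := fun b => Subtype.ext (by simp [image_image]) }
  refine ⟨⟨(e.sumCongr f).optionCongr, fun {v w} => ?_⟩⟩
  rw [pointBlockGraph_adj, pointBlockGraph_adj]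
  refine and_congr ((e.sumCongr f).optionCongr.injective.ne_iff) ?_
  rcases v with _ | a | b <;> rcases w with _ | a' | b' <;>
    simp [Cfsg.pointBlockRel, f, e.injective.mem_finset_image, disjoint_image e.injective]

/-- Isomorphic set systems have isomorphic block graphs. -/
theorem blockGraph_iso {β : Type*} [DecidableEq β] [Fintype β] {B' : Set (Finset β)}
    (h : Cfsg.SetSystemIso B B') : Nonempty (Cfsg.blockGraph B ≃g Cfsg.blockGraph B') := by
  obtain ⟨e, he⟩ := setSystemIso_iff.1 h
  let f : B ≃ B' :=
    { toFun := fun b => ⟨b.1.image e, he ▸ image_mem_imgSys.2 b.2⟩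
      invFun := fun b => ⟨b.1.image e.symm, mem_imgSys.1 (he.symm ▸ b.2)⟩
      left_inv := fun b => Subtype.ext (by simp [image_image])
      right_inv := fun b => Subtype.ext (by simp [image_image]) }
  refine ⟨⟨f, fun {v w} => ?_⟩⟩
  rw [blockGraph_adj, blockGraph_adj]
  exact and_congr (by simp) (by simp [f, disjoint_image e.injective])

end Cfsg.Agent.H10
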